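import Cfsg.Agent.Lib.Linear.Aschbacher.Clifford

/-!
# The algebra spanned by a normal subgroup of an irreducible group

For an irreducible group `H` over a finite field and a normal subgroup `N`, the centre of the
commutant of `N` is reduced, so it either has several primitive idempotents, which `H` permutes
transitively, or is a field; in the second case, when that field is the ground field, the algebra
spanned by `N` is a full matrix algebra.
-/

set_option autoImplicit false
set_option linter.unusedSectionVars false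
set_option linter.style.haveILetI false

namespace Cfsg.Lib.Linear.AschGen

open Cfsg.Geo Cfsg.Lib.Linear.Asch Module
open scoped Matrix MatrixGroups

variable {ι : Type} [Fintype ι] [DecidableEq ι] {F : Type*} [Field F]

/-- The algebra spanned by a group of matrices. -/
def adj (N : Subgroup (GL ι F)) : Subalgebra F (Matrix ι ι F) := Algebra.adjoin F (matrixSet N)

/-- The centre of the commutant of a group of matrices. -/
def bicomm (N : Subgroup (GL ι F)) : Subalgebra F (Matrix ι ι F) :=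
  Subalgebra.centralizer F (matrixSet N) ⊓
    Subalgebra.centralizer F (Subalgebra.centralizer F (matrixSet N) : Set (Matrix ι ι F))

/-- `N` is a subgroup of `H` normalised by it. -/
structure NormalSub (H N : Subgroup (GL ι F)) : Prop where
  le : N ≤ H
  normal : ∀ h ∈ H, ∀ x ∈ N, h * x * h⁻¹ ∈ N

theorem NormalSub.self (H : Subgroup (GL ι F)) : NormalSub H H :=
  ⟨le_rfl, fun _ hh _ hx => mul_mem (mul_mem hh hx) (inv_mem hh)⟩

/-- Conjugation by an invertible matrix, as an automorphism of the matrix algebra. -/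
def conjA (g : GL ι F) : Matrix ι ι F ≃ₐ[F] Matrix ι ι F where
  toFun x := g.val * x * (g⁻¹).val
  invFun x := (g⁻¹).val * x * g.val
  left_inv x := by simp only [mul_assoc, Units.inv_mul_cancel_left, Units.inv_mul, mul_one]
  right_inv x := by simp only [mul_assoc, Units.mul_inv_cancel_left, Units.mul_inv, mul_one]
  map_mul' x y := by simp only [mul_assoc, Units.inv_mul_cancel_left]
  map_add' x y := by simp only [mul_add, add_mul]
  commutes' c := by
    rw [Algebra.algebraMap_eq_smul_one, Matrix.mul_smul, mul_one, Matrix.smul_mul, Units.mul_inv]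

theorem conjA_apply (g : GL ι F) (x : Matrix ι ι F) : conjA g x = g.val * x * (g⁻¹).val := rfl

theorem conjA_inv (g : GL ι F) (x : Matrix ι ι F) : conjA g⁻¹ (conjA g x) = x := by
  simp only [conjA_apply, inv_inv, mul_assoc, Units.inv_mul_cancel_left, Units.inv_mul, mul_one]

theorem conjA_mul (g h : GL ι F) (x : Matrix ι ι F) : conjA (g * h) x = conjA g (conjA h x) := by
  simp only [conjA_apply, Units.val_mul, mul_inv_rev, mul_assoc]

theorem conjA_one (x : Matrix ι ι F) : conjA (1 : GL ι F) x = x := by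
  simp [conjA_apply]

variable {H N : Subgroup (GL ι F)}

theorem conjA_matrixSet (hN : NormalSub H N) {h : GL ι F} (hh : h ∈ H) {x : Matrix ι ι F}
    (hx : x ∈ matrixSet N) : conjA h x ∈ matrixSet N := by
  obtain ⟨y, hy, rfl⟩ := hx
  exact ⟨h * y * h⁻¹, hN.normal h hh y hy, by simp [conjA_apply, Units.val_mul]⟩

theorem conjA_adj (hN : NormalSub H N) {h : GL ι F} (hh : h ∈ H) {x : Matrix ι ι F} (hx : x ∈ adj N) :
    conjA h x ∈ adj N := by
  have h1 : (adj N).map (conjA h).toAlgHom ≤ adj N := by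
    rw [adj, AlgHom.map_adjoin]
    refine Algebra.adjoin_mono ?_
    rintro _ ⟨y, hy, rfl⟩
    exact conjA_matrixSet hN hh hy
  exact h1 ⟨x, hx, rfl⟩

theorem conjA_centralizer {S : Set (Matrix ι ι F)} {h : GL ι F} (hS : ∀ s ∈ S, conjA h⁻¹ s ∈ S)
    {x : Matrix ι ι F} (hx : x ∈ Subalgebra.centralizer F S) : conjA h x ∈ Subalgebra.centralizer F S := by
  rw [Subalgebra.mem_centralizer_iff] at hx ⊢
  intro s hs
  have h1 := congrArg (conjA h) (hx _ (hS s hs))
  rwa [map_mul, map_mul, show conjA h (conjA h⁻¹ s) = s by simpa using conjA_inv h⁻¹ s] at h1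

theorem conjA_bicomm (hN : NormalSub H N) {h : GL ι F} (hh : h ∈ H) {x : Matrix ι ι F} (hx : x ∈ bicomm N) :
    conjA h x ∈ bicomm N := by
  rw [bicomm, Algebra.mem_inf] at hx ⊢
  exact ⟨conjA_centralizer (fun s hs => conjA_matrixSet hN (inv_mem hh) hs) hx.1,
    conjA_centralizer (fun s hs => conjA_centralizer
      (fun t ht => conjA_matrixSet hN (inv_mem (inv_mem hh)) ht) hs) hx.2⟩

theorem bicomm_comm {x y : Matrix ι ι F} (hx : x ∈ bicomm N) (hy : y ∈ bicomm N) : x * y = y * x :=
  ((Subalgebra.mem_centralizer_iff F).1 (Algebra.mem_inf.1 hy).2 x (Algebra.mem_inf.1 hx).1)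

theorem bicomm_le_centralizer {x : Matrix ι ι F} (hx : x ∈ bicomm N) :
    ∀ g ∈ N, g.val * x = x * g.val := fun _ hg =>
  (Subalgebra.mem_centralizer_iff F).1 (Algebra.mem_inf.1 hx).1 _ (mem_matrixSet hg)

/-- A stable family of matrices with a common null vector vanishes. -/
theorem eq_zero_of_common_kernel (hirr : ActsIrreducibly (matrixSet H)) {J : Set (Matrix ι ι F)}
    (hconj : ∀ h ∈ H, ∀ x ∈ J, conjA h x ∈ J) (hv : ∃ v : ι → F, v ≠ 0 ∧ ∀ x ∈ J, x *ᵥ v = 0) :
    ∀ x ∈ J, x = 0 := by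
  let K : Submodule F (ι → F) :=
    { carrier := {v | ∀ x ∈ J, x *ᵥ v = 0}
      add_mem' := fun {a b} ha hb x hx => by rw [Matrix.mulVec_add, ha x hx, hb x hx, add_zero]
      zero_mem' := fun x _ => Matrix.mulVec_zero x
      smul_mem' := fun c v hv x hx => by rw [Matrix.mulVec_smul, hv x hx, smul_zero] }
  have hK : InvSub H K := fun g hg w hw x hx => by
    have h1 := hw _ (hconj g⁻¹ (inv_mem hg) x hx)
    rw [conjA_apply, inv_inv, ← Matrix.mulVec_mulVec, ← Matrix.mulVec_mulVec] at h1
    have h2 := congrArg (fun v => g.val *ᵥ v) h1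
    simpa only [mulVec_inv_mulVec, Matrix.mulVec_zero] using h2
  obtain ⟨v, hv0, hv⟩ := hv
  rcases irr_iff.1 hirr K hK with h | h
  · exact absurd ((Submodule.eq_bot_iff K).1 h v hv) hv0
  · intro x hx
    refine Matrix.ext_of_mulVec_single fun i => ?_
    rw [Matrix.zero_mulVec]
    exact (h ▸ Submodule.mem_top : (Pi.single i 1 : ι → F) ∈ K) x hx

theorem bicomm_sq_zero [Finite F] [Nonempty ι] (hirr : ActsIrreducibly (matrixSet H)) (hN : NormalSub H N)
    {x : Matrix ι ι F} (hx : x ∈ bicomm N) (h0 : x * x = 0) : x = 0 := by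
  classical
  let J : Set (Matrix ι ι F) := {y | y ∈ bicomm N ∧ y * y = 0}
  haveI : Finite (Matrix ι ι F) := inferInstanceAs (Finite (ι → ι → F))
  have key : ∀ s : Finset (Matrix ι ι F), ↑s ⊆ J → ∃ v : ι → F, v ≠ 0 ∧ ∀ y ∈ s, y *ᵥ v = 0 := by
    intro s
    induction s using Finset.induction_on with
    | empty => exact fun _ => ⟨fun _ => 1, fun h => one_ne_zero (congrFun h (Classical.arbitrary ι)), by simp⟩
    | insert a s _ ih =>
      intro hs
      rw [Finset.coe_insert, Set.insert_subset_iff] at hs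
      obtain ⟨v, hv0, hv⟩ := ih hs.2
      by_cases hav : a *ᵥ v = 0
      · exact ⟨v, hv0, fun y hy => by
          rcases Finset.mem_insert.1 hy with rfl | hy
          · exact hav
          · exact hv y hy⟩
      · refine ⟨a *ᵥ v, hav, fun y hy => ?_⟩
        rcases Finset.mem_insert.1 hy with rfl | hy
        · rw [Matrix.mulVec_mulVec, hs.1.2, Matrix.zero_mulVec]
        · rw [Matrix.mulVec_mulVec, bicomm_comm (hs.2 hy).1 hs.1.1, ← Matrix.mulVec_mulVec, hv y hy,
            Matrix.mulVec_zero]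
  obtain ⟨v, hv0, hv⟩ := key (Set.toFinite J).toFinset (by simp)
  exact eq_zero_of_common_kernel hirr (J := J)
    (fun h hh y hy => ⟨conjA_bicomm hN hh hy.1, by rw [← map_mul, hy.2, map_zero]⟩)
    ⟨v, hv0, fun y hy => hv y (by simpa using hy)⟩ x ⟨hx, h0⟩

/-- Primitive idempotents in the centre of a commutant, permuted transitively. -/
structure IdemSystem (H N : Subgroup (GL ι F)) {t : ℕ} (e : Fin t → Matrix ι ι F) : Prop where
  mem : ∀ i, e i ∈ bicomm N
  idem : CompleteOrthogonalIdempotents e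
  ne_zero : ∀ i, e i ≠ 0
  minimal : ∀ x ∈ bicomm N, x * x = x → ∀ i, x * e i = 0 ∨ x * e i = e i
  perm : ∀ h ∈ H, ∃ σ : Equiv.Perm (Fin t), ∀ i, conjA h (e i) = e (σ i)
  trans : ∀ i j, ∃ h ∈ H, conjA h (e i) = e j

theorem IdemSystem.ofMinimal (hirr : ActsIrreducibly (matrixSet H)) (hN : NormalSub H N) {t : ℕ}
    {e : Fin t → Matrix ι ι F} (hmem : ∀ i, e i ∈ bicomm N) (hid : CompleteOrthogonalIdempotents e)
    (hne : ∀ i, e i ≠ 0) (hmin : ∀ x ∈ bicomm N, x * x = x → ∀ i, x * e i = 0 ∨ x * e i = e i) :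
    IdemSystem H N e := by
  classical
  have hmove : ∀ h ∈ H, ∀ i, ∃ j, conjA h (e i) = e j := by
    intro h hh i
    have hx := conjA_bicomm hN hh (hmem i)
    have hxx : conjA h (e i) * conjA h (e i) = conjA h (e i) := by rw [← map_mul, (hid.idem i).eq]
    obtain ⟨j, hj⟩ : ∃ j, conjA h (e i) * e j ≠ 0 := by
      by_contra hcon
      push Not at hcon
      have h1 : conjA h (e i) * ∑ j, e j = 0 := by
        rw [Finset.mul_sum]; exact Finset.sum_eq_zero fun j _ => hcon j
      rw [hid.complete, mul_one] at h1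
      exact hne i ((conjA h).injective (h1.trans (map_zero _).symm))
    have h2 := (hmin _ hx hxx j).resolve_left hj
    refine ⟨j, ?_⟩
    have hy := conjA_bicomm hN (inv_mem hh) (hmem j)
    have hyy : conjA h⁻¹ (e j) * conjA h⁻¹ (e j) = conjA h⁻¹ (e j) := by rw [← map_mul, (hid.idem j).eq]
    have h3 : e i * conjA h⁻¹ (e j) = conjA h⁻¹ (e j) := by
      have := congrArg (conjA h⁻¹) h2
      rwa [map_mul, conjA_inv] at this
    have h4 : conjA h⁻¹ (e j) = e i := by
      rcases hmin _ hy hyy i with h5 | h5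
      · rw [bicomm_comm hy (hmem i), h3] at h5
        exact absurd ((conjA h⁻¹).injective (h5.trans (map_zero _).symm)) (hne j)
      · rw [bicomm_comm hy (hmem i), h3] at h5
        exact h5
    have h6 := congrArg (conjA h) h4
    rwa [show conjA h (conjA h⁻¹ (e j)) = e j by simpa using conjA_inv h⁻¹ (e j), eq_comm] at h6
  have hinj : Function.Injective e := fun i j hij => by
    by_contra hne'
    have := hid.ortho hne'
    simp only at this
    rw [← hij, (hid.idem i).eq] at this
    exact hne i this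
  refine ⟨hmem, hid, hne, hmin, fun h hh => ?_, fun i j => ?_⟩
  · choose σ hσ using hmove h hh
    have hσi : Function.Injective σ := fun a b hab =>
      hinj ((conjA h).injective (by rw [hσ, hσ, hab]))
    exact ⟨Equiv.ofBijective σ ⟨hσi, Finite.injective_iff_surjective.1 hσi⟩, hσ⟩
  · by_contra hcon
    let J : Set (Matrix ι ι F) := {y | ∃ h ∈ H, conjA h (e i) = y}
    obtain ⟨v, hv⟩ : ∃ v, e j *ᵥ v ≠ 0 := by
      by_contra hz
      push Not at hz
      exact hne j (Matrix.ext_of_mulVec_single fun k => by rw [hz, Matrix.zero_mulVec])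
    refine hne i (eq_zero_of_common_kernel hirr (J := J) ?_ ⟨_, hv, ?_⟩ (e i) ⟨1, one_mem H, conjA_one _⟩)
    · rintro g hg _ ⟨h, hh, rfl⟩
      exact ⟨g * h, mul_mem hg hh, conjA_mul g h _⟩
    · rintro _ ⟨h, hh, rfl⟩
      obtain ⟨k, hk⟩ := hmove h hh i
      have hkj : k ≠ j := by rintro rfl; exact hcon ⟨h, hh, hk⟩
      rw [Matrix.mulVec_mulVec, hk, hid.ortho hkj, Matrix.zero_mulVec]

theorem IdemSystem.mDecomposition {t : ℕ} {e : Fin t → Matrix ι ι F} (hs : IdemSystem H N e) (ht : 2 ≤ t) :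
    ∃ m, IsMDecomposition m (fun i => LinearMap.range (Matrix.toLin' (e i))) ∧
      H ≤ decompositionStabilizer (fun i => LinearMap.range (Matrix.toLin' (e i))) := by
  classical
  set D := fun i => LinearMap.range (Matrix.toLin' (e i)) with hD
  have hfix : ∀ i, ∀ v ∈ D i, e i *ᵥ v = v := by
    rintro i _ ⟨w, rfl⟩
    rw [Matrix.toLin'_apply, Matrix.mulVec_mulVec, (hs.idem.idem i).eq]
  have hkill : ∀ i j, i ≠ j → ∀ v ∈ D j, e i *ᵥ v = 0 := by
    rintro i j hij _ ⟨w, rfl⟩
    rw [Matrix.toLin'_apply, Matrix.mulVec_mulVec, hs.idem.ortho hij, Matrix.zero_mulVec]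
  have hmove : ∀ h : GL ι F, ∀ i j, conjA h (e i) = e j →
      (D i).map (Matrix.toLin' h.val) = D j := by
    intro h i j hij
    simp only [hD]
    rw [← hij, conjA_apply, Matrix.toLin'_mul, LinearMap.range_comp_of_range_eq_top, Matrix.toLin'_mul,
      LinearMap.range_comp]
    exact LinearMap.range_eq_top.2 fun v => ⟨h.val *ᵥ v, by rw [Matrix.toLin'_apply, inv_mulVec_mulVec]⟩
  haveI : Nonempty (Fin t) := ⟨⟨0, by omega⟩⟩
  obtain ⟨i₀⟩ := ‹Nonempty (Fin t)›
  refine ⟨finrank F (D i₀), ⟨ht, ?_, fun i => ?_, ?_, ?_⟩, fun h hh => ?_⟩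
  · refine Nat.pos_of_ne_zero fun h0 => hs.ne_zero i₀ ?_
    rw [Submodule.finrank_eq_zero, LinearMap.range_eq_bot, LinearEquiv.map_eq_zero_iff] at h0
    exact h0
  · obtain ⟨h, -, hh⟩ := hs.trans i₀ i
    rw [← hmove h i₀ i hh]
    exact finrank_move h (D i₀)
  · rw [iSupIndep_def]
    intro i
    rw [disjoint_iff, Submodule.eq_bot_iff]
    rintro v ⟨h1, h2⟩
    have h3 : (⨆ (j) (_ : j ≠ i), D j) ≤ LinearMap.ker (Matrix.toLin' (e i)) :=
      iSup₂_le fun j hj w hw => by rw [LinearMap.mem_ker, Matrix.toLin'_apply, hkill i j hj.symm w hw]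
    have h4 := h3 h2
    rw [LinearMap.mem_ker, Matrix.toLin'_apply, hfix i v h1] at h4
    exact h4
  · refine eq_top_iff.2 fun v _ => ?_
    have h1 : v = ∑ i, e i *ᵥ v := by rw [← Matrix.sum_mulVec, hs.idem.complete, Matrix.one_mulVec]
    rw [h1]
    exact Submodule.sum_mem _ fun i _ => Submodule.mem_iSup_of_mem i ⟨v, rfl⟩
  · obtain ⟨σ, hσ⟩ := hs.perm h hh
    exact ⟨σ, fun i => hmove h i (σ i) (hσ i)⟩

/-- The centre of the commutant has several permuted primitive idempotents or is a field. -/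
theorem idem_or_field [Finite F] [Nonempty ι] (hirr : ActsIrreducibly (matrixSet H)) (hN : NormalSub H N) :
    (∃ (t : ℕ) (e : Fin t → Matrix ι ι F), 2 ≤ t ∧ IdemSystem H N e) ∨
      IsFieldSubalgebra (finrank F (bicomm N)) (bicomm N) := by
  classical
  haveI : Finite (Matrix ι ι F) := inferInstanceAs (Finite (ι → ι → F))
  letI : CommRing (bicomm N) :=
    { (inferInstance : Ring (bicomm N)) with mul_comm := fun a b => Subtype.ext (bicomm_comm a.2 b.2) }
  haveI : IsArtinianRing (bicomm N) := inferInstance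
  haveI : IsReduced (bicomm N) := (isReduced_iff_pow_one_lt (R := bicomm N) 2 one_lt_two).2 fun x hx =>
    Subtype.ext (bicomm_sq_zero hirr hN x.2 (by rw [pow_two] at hx; exact congrArg Subtype.val hx))
  let Φ := (IsArtinianRing.equivPi (bicomm N)).toRingEquiv
  let eq := (Finite.equivFin (MaximalSpectrum (bicomm N))).symm
  letI : Fintype (MaximalSpectrum (bicomm N)) := Fintype.ofFinite _
  haveI : ∀ I : MaximalSpectrum (bicomm N), I.asIdeal.IsMaximal := fun I => I.isMaximal
  by_cases ht : 2 ≤ Nat.card (MaximalSpectrum (bicomm N))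
  · let e₀ : Fin _ → bicomm N := fun i => Φ.symm (Pi.single (eq i) 1)
    have h0 : CompleteOrthogonalIdempotents e₀ :=
      (CompleteOrthogonalIdempotents.equiv eq).2
        ((CompleteOrthogonalIdempotents.single (fun I : MaximalSpectrum (bicomm N) => bicomm N ⧸ I.asIdeal)).map
          Φ.symm.toRingHom)
    refine Or.inl ⟨_, fun i => (e₀ i : Matrix ι ι F), ht, IdemSystem.ofMinimal hirr hN (fun i => (e₀ i).2)
      (h0.map (bicomm N).val.toRingHom) (fun i h => ?_) fun x hx hxx i => ?_⟩
    · have h1 : Φ (e₀ i) (eq i) = 0 := by rw [show e₀ i = 0 from Subtype.ext h, map_zero]; rfl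
      rw [RingEquiv.apply_symm_apply, Pi.single_eq_same] at h1
      exact one_ne_zero h1
    · set y : bicomm N := ⟨x, hx⟩ * e₀ i with hy
      have hI : Φ ⟨x, hx⟩ (eq i) = 0 ∨ Φ ⟨x, hx⟩ (eq i) = 1 := by
        letI := Ideal.Quotient.field (eq i).asIdeal
        refine IsIdempotentElem.iff_eq_zero_or_one.1 ?_
        show _ * _ = _
        rw [← Pi.mul_apply, ← map_mul]
        exact congrFun (congrArg Φ (Subtype.ext hxx : (⟨x, hx⟩ : bicomm N) * ⟨x, hx⟩ = ⟨x, hx⟩)) (eq i)
      have hval : Φ y = Pi.single (eq i) (Φ ⟨x, hx⟩ (eq i)) := by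
        rw [hy, map_mul, RingEquiv.apply_symm_apply]
        funext I
        by_cases hIi : I = eq i
        · subst hIi; simp
        · simp [hIi]
      rcases hI with h | h
      · left
        rw [h, Pi.single_zero, map_eq_zero_iff _ Φ.injective] at hval
        exact congrArg Subtype.val hval
      · right
        rw [h] at hval
        exact congrArg Subtype.val ((Φ.eq_symm_apply).2 hval)
  · refine Or.inr ⟨fun x hx y hy => bicomm_comm hx hy, fun x hx hx0 => ?_, rfl⟩
    haveI : Subsingleton (MaximalSpectrum (bicomm N)) := Finite.card_le_one_iff_subsingleton.1 (by omega)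
    haveI : Nontrivial (bicomm N) := inferInstance
    obtain ⟨I⟩ : Nonempty (MaximalSpectrum (bicomm N)) := inferInstance
    letI := Ideal.Quotient.field I.asIdeal
    have h1 : Φ ⟨x, hx⟩ I ≠ 0 := fun h => hx0 <| congrArg Subtype.val <|
      Φ.injective (a₁ := ⟨x, hx⟩) (a₂ := 0) (funext fun J => by rw [Subsingleton.elim J I, h, map_zero]; rfl)
    refine ⟨Φ.symm (Function.update 0 I (Φ ⟨x, hx⟩ I)⁻¹) |>.1, Subtype.prop _, ?_⟩
    have h2 : (⟨x, hx⟩ : bicomm N) * Φ.symm (Function.update 0 I (Φ ⟨x, hx⟩ I)⁻¹) = 1 := by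
      apply Φ.injective
      rw [map_mul, RingEquiv.apply_symm_apply, map_one]
      funext J
      obtain rfl := Subsingleton.elim J I
      rw [Pi.mul_apply, Function.update_self, mul_inv_cancel₀ h1]
      rfl
    exact congrArg Subtype.val h2

/-- A finite algebra with trivial radical and trivial centre is a full matrix algebra. -/
theorem exists_matrix_of_central {K : Type*} [Field K] [Finite K] {A : Type*} [Ring A] [Nontrivial A]
    [Algebra K A] [Module.Finite K A] (hj : Ring.jacobson A = ⊥)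
    (hc : ∀ z : A, (∀ a, a * z = z * a) → ∃ c : K, z = algebraMap K A c) :
    ∃ d, 0 < d ∧ Nonempty (Matrix (Fin d) (Fin d) K ≃ₐ[K] A) := by
  classical
  haveI : Finite A := Module.finite_of_finite K
  haveI : IsSemisimpleRing A := IsArtinianRing.isSemisimpleRing_iff_jacobson.2 hj
  obtain ⟨n, D, d, iD, iA, iF, hd, ⟨Φ⟩⟩ := IsSemisimpleRing.exists_algEquiv_pi_matrix_divisionRing_finite K A
  have hcent : ∀ u : ∀ i, Matrix (Fin (d i)) (Fin (d i)) (D i), (∀ w, w * u = u * w) →
      ∃ c : K, u = algebraMap K _ c := by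
    intro u hu
    obtain ⟨c, hc'⟩ := hc (Φ.symm u) fun a => by
      have h1 := congrArg Φ.symm (hu (Φ a))
      simpa using h1
    exact ⟨c, by rw [← Φ.apply_symm_apply u, hc', Φ.commutes]⟩
  obtain rfl : n = 1 := by
    rcases Nat.lt_trichotomy n 1 with h | h | h
    · obtain rfl : n = 0 := by omega
      exact absurd (Φ.injective (Subsingleton.elim (Φ 1) (Φ 0))) one_ne_zero
    · exact h
    · exfalso
      obtain ⟨c, hc'⟩ := hcent (Pi.single ⟨0, by omega⟩ 1) fun w => by
        funext i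
        rcases eq_or_ne i ⟨0, by omega⟩ with rfl | hi
        · simp
        · simp [Pi.single_eq_of_ne hi]
      have h0 := congrFun hc' ⟨1, h⟩
      have h1 := congrFun hc' ⟨0, by omega⟩
      rw [Pi.single_eq_of_ne (by simp [Fin.ext_iff]), Pi.algebraMap_apply, eq_comm,
        map_eq_zero_iff _ (algebraMap K _).injective] at h0
      rw [Pi.single_eq_same, Pi.algebraMap_apply, h0, map_zero] at h1
      exact one_ne_zero h1
  have hsurj : Function.Surjective (algebraMap K (D 0)) := by
    intro z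
    haveI : Finite (D 0) := Module.finite_of_finite K
    obtain ⟨c, hc'⟩ := hcent (Function.update 0 0 (Matrix.scalar (Fin (d 0)) z)) fun w => by
      funext i
      obtain rfl : i = 0 := Subsingleton.elim i 0
      rw [Pi.mul_apply, Pi.mul_apply, Function.update_self]
      exact ((Matrix.scalar_commute z (fun x => (littleWedderburn (D 0)).mul_comm z x) (w 0)).eq).symm
    refine ⟨c, ?_⟩
    have h1 := congrFun (congrFun (congrFun hc' 0) 0) 0
    rw [Function.update_self, Pi.algebraMap_apply, Matrix.algebraMap_matrix_apply, Matrix.scalar_apply,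
      Matrix.diagonal_apply_eq, if_pos rfl] at h1
    exact h1.symm
  let ψ : K ≃ₐ[K] D 0 := AlgEquiv.ofBijective (Algebra.ofId K (D 0)) ⟨(algebraMap K (D 0)).injective, hsurj⟩
  exact ⟨d 0, Nat.pos_of_ne_zero (hd 0).out, ⟨ψ.mapMatrix.trans
    (((AlgEquiv.ofRingEquiv (f := RingEquiv.piUnique (fun i => Matrix (Fin (d i)) (Fin (d i)) (D i)))
      (fun _ => rfl) : (∀ i, Matrix (Fin (d i)) (Fin (d i)) (D i)) ≃ₐ[K] Matrix (Fin (d 0)) (Fin (d 0)) (D 0)).symm.trans
      Φ.symm))⟩⟩

/-- When the centre of the commutant is the ground field, the span is a full matrix algebra. -/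
theorem exists_matrix_adj [Finite F] [Nonempty ι] (hirr : ActsIrreducibly (matrixSet H)) (hN : NormalSub H N)
    (hZ : bicomm N = ⊥) :
    ∃ (d : ℕ) (f : Matrix (Fin d) (Fin d) F →ₐ[F] Matrix ι ι F),
      0 < d ∧ Function.Injective f ∧ f.range = adj N := by
  classical
  haveI : Finite (Matrix ι ι F) := inferInstanceAs (Finite (ι → ι → F))
  set A := adj N with hA
  haveI : Module.Finite F A := Module.Finite.of_finite
  haveI : IsArtinianRing A := inferInstance
  have hjac : Ring.jacobson A = ⊥ := by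
    obtain ⟨m, hm⟩ := IsSemiprimaryRing.isNilpotent (R := A)
    let J : Set (Matrix ι ι F) := Subtype.val '' (Ring.jacobson A : Set A)
    have hconj : ∀ h ∈ H, ∀ x ∈ J, conjA h x ∈ J := by
      rintro h hh _ ⟨x, hx, rfl⟩
      let ψ : A →+* A :=
        (((conjA h).toAlgHom.comp A.val).codRestrict A fun y => conjA_adj hN hh y.2).toRingHom
      haveI : RingHomSurjective ψ := ⟨fun y => ⟨⟨conjA h⁻¹ y.1, conjA_adj hN (inv_mem hh) y.2⟩,
        Subtype.ext (show conjA h (conjA h⁻¹ y.1) = y.1 by simpa using conjA_inv h⁻¹ y.1)⟩⟩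
      exact ⟨ψ x, Ring.map_jacobson_le ψ (Submodule.mem_map_of_mem hx), rfl⟩
    have hv : ∃ v : ι → F, v ≠ 0 ∧ ∀ x ∈ J, x *ᵥ v = 0 := by
      obtain ⟨k, hk, hne⟩ : ∃ k, Ring.jacobson A * Ring.jacobson A ^ k = ⊥ ∧ Ring.jacobson A ^ k ≠ ⊥ := by
        have hex : ∃ k, Ring.jacobson A ^ k = ⊥ := ⟨m, hm⟩
        have hk := Nat.find_spec hex
        rcases hk0 : Nat.find hex with _ | k
        · rw [hk0] at hk
          rw [Submodule.pow_zero, Ideal.one_eq_top] at hk
          exact absurd hk top_ne_bot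
        · rw [hk0] at hk
          exact ⟨k, (Ideal.IsTwoSided.pow_succ k).symm.trans hk, Nat.find_min hex (by omega)⟩
      obtain ⟨x, hx, hx0⟩ := Submodule.exists_mem_ne_zero_of_ne_bot hne
      obtain ⟨u, hu⟩ : ∃ u, (x : Matrix ι ι F) *ᵥ u ≠ 0 := by
        by_contra hz
        push Not at hz
        exact hx0 (Subtype.ext (Matrix.ext_of_mulVec_single fun j => by
          rw [hz, ZeroMemClass.coe_zero, Matrix.zero_mulVec]))
      refine ⟨_, hu, ?_⟩
      rintro _ ⟨y, hy, rfl⟩
      have h1 : y * x ∈ Ring.jacobson A * Ring.jacobson A ^ k := Ideal.mul_mem_mul hy hx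
      rw [hk, Submodule.mem_bot] at h1
      rw [Matrix.mulVec_mulVec, ← MulMemClass.coe_mul, h1, ZeroMemClass.coe_zero, Matrix.zero_mulVec]
    rw [Submodule.eq_bot_iff]
    exact fun x hx => Subtype.ext (eq_zero_of_common_kernel hirr hconj hv _ ⟨x, hx, rfl⟩)
  have hcen : ∀ z : A, (∀ a, a * z = z * a) → ∃ c : F, z = algebraMap F A c := by
    intro z hz
    have hle : A ≤ Subalgebra.centralizer F (Subalgebra.centralizer F (matrixSet N) : Set (Matrix ι ι F)) :=
      Algebra.adjoin_le fun g hg => (Subalgebra.mem_centralizer_iff F).2 fun c hc =>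
        ((Subalgebra.mem_centralizer_iff F).1 hc g hg).symm
    have h1 : (z : Matrix ι ι F) ∈ bicomm N := Algebra.mem_inf.2
      ⟨(Subalgebra.mem_centralizer_iff F).2 fun g hg =>
        congrArg Subtype.val (hz ⟨g, Algebra.subset_adjoin hg⟩), hle z.2⟩
    rw [hZ, Algebra.mem_bot] at h1
    obtain ⟨c, hc⟩ := h1
    exact ⟨c, Subtype.ext hc.symm⟩
  obtain ⟨d, hd, ⟨Φ⟩⟩ := exists_matrix_of_central hjac hcen
  refine ⟨d, A.val.comp Φ.toAlgHom, hd, Subtype.val_injective.comp Φ.injective, ?_⟩
  ext x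
  exact ⟨by rintro ⟨y, rfl⟩; exact (Φ y).2, fun hx => ⟨Φ.symm ⟨x, hx⟩, by simp⟩⟩

/-- An irreducible group splits along a normal subgroup in one of three ways. -/
theorem split [Finite F] [Nonempty ι] (hirr : ActsIrreducibly (matrixSet H)) (hN : NormalSub H N) :
    (∃ (t : ℕ) (e : Fin t → Matrix ι ι F), 2 ≤ t ∧ IdemSystem H N e) ∨
      (1 < finrank F (bicomm N) ∧ IsFieldSubalgebra (finrank F (bicomm N)) (bicomm N)) ∨
      ∃ (d : ℕ) (f : Matrix (Fin d) (Fin d) F →ₐ[F] Matrix ι ι F),
        0 < d ∧ Function.Injective f ∧ f.range = adj N := by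
  rcases idem_or_field hirr hN with h | h
  · exact Or.inl h
  · rcases Nat.lt_or_ge 1 (finrank F (bicomm N)) with h1 | h1
    · exact Or.inr (Or.inl ⟨h1, h⟩)
    · refine Or.inr (Or.inr (exists_matrix_adj hirr hN (Subalgebra.eq_bot_of_finrank_one ?_)))
      exact le_antisymm h1 Module.finrank_pos

theorem le_subalgebraNormalizer_bicomm (hN : NormalSub H N) : H ≤ subalgebraNormalizer (bicomm N) := by
  intro h hh k
  refine ⟨fun hk => conjA_bicomm hN hh hk, fun hk => ?_⟩
  have h1 := conjA_bicomm hN (inv_mem hh) hk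
  rwa [← conjA_apply, conjA_inv] at h1

end Cfsg.Lib.Linear.AschGen
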