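import Cfsg.Agent.Lib.Linear.AschGen.Alg
import Cfsg.Agent.Lib.Linear.Aschbacher.Core

/-!
# Minimal normal subgroups which are abelian modulo scalars

An absolutely irreducible group which is abelian modulo scalars and contains no smaller
non-scalar subgroup normalised by the ambient group is of symplectic type.
-/

set_option autoImplicit false
set_option linter.unusedSectionVars false
set_option linter.style.haveILetI false

namespace Cfsg.Lib.Linear.AschGen

open Cfsg.Geo Cfsg.Lib.Linear.Asch Module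
open scoped Matrix MatrixGroups commutatorElement

variable {ι : Type} [Fintype ι] [DecidableEq ι] {F : Type*} [Field F]

/-- The data of a normal subgroup of symplectic type. -/
structure Six (H R : Subgroup (GL ι F)) (r m : ℕ) : Prop where
  sub : NormalSub H R
  symp : IsSymplecticTypeGroup r R
  absIrr : ActsAbsolutelyIrreducibly (matrixSet R)
  char_ne : (r : F) ≠ 0
  pos : 0 < m
  card_eq : Fintype.card ι = r ^ m
  center_eq : Subgroup.center R = (scalars ι F).subgroupOf R
  comm_scalar : ⁅R, R⁆ ≤ scalars ι F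
  pow_scalar : ∀ x ∈ R, x ^ r ∈ scalars ι F
  pow_exp : ∀ x ∈ R, x ^ (r * Nat.gcd 2 r) = 1
  card : Nat.card R = r ^ (2 * m) * Nat.card (Subgroup.center R)
  center_card : (Odd r ∧ Nat.card (Subgroup.center R) = r) ∨
    (r = 2 ∧ (Nat.card (Subgroup.center R) = 2 ∨ Nat.card (Subgroup.center R) = 4))

theorem mul_pow_of_comm_scalar {a b : GL ι F} (hc : ⁅b, a⁆ ∈ scalars ι F) (k : ℕ) :
    (a * b) ^ k = a ^ k * b ^ k * ⁅b, a⁆ ^ k.choose 2 := by
  set c := ⁅b, a⁆ with hc'
  have hba : b * a = a * b * c := by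
    calc b * a = c * (a * b) := by rw [hc', commutatorElement_def]; group
      _ = a * b * c := (scalars_comm hc).symm
  have hcc : ∀ (g : GL ι F) (j : ℕ), g * c ^ j = c ^ j * g := fun g j =>
    scalars_comm ((scalars ι F).pow_mem hc j)
  have hbk : ∀ j : ℕ, b ^ j * a = a * b ^ j * c ^ j := by
    intro j
    induction j with
    | zero => simp
    | succ j ih =>
      calc b ^ (j + 1) * a = b * (b ^ j * a) := by rw [pow_succ', mul_assoc]
        _ = b * (a * b ^ j * c ^ j) := by rw [ih]
        _ = (b * a) * b ^ j * c ^ j := by simp only [mul_assoc]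
        _ = a * b * (c * b ^ j) * c ^ j := by rw [hba]; simp only [mul_assoc]
        _ = a * b * (b ^ j * c) * c ^ j := by rw [(scalars_comm hc).symm]
        _ = a * b ^ (j + 1) * c ^ (j + 1) := by rw [pow_succ' b, pow_succ' c]; simp only [mul_assoc]
  induction k with
  | zero => simp
  | succ k ih =>
    calc (a * b) ^ (k + 1) = a ^ k * b ^ k * c ^ k.choose 2 * (a * b) := by rw [pow_succ, ih]
      _ = a ^ k * (b ^ k * a) * b * c ^ k.choose 2 := by
          simp only [mul_assoc, ← hcc (a * b)]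
      _ = a ^ k * (a * b ^ k * c ^ k) * b * c ^ k.choose 2 := by rw [hbk]
      _ = a ^ (k + 1) * (b ^ k * (c ^ k * b)) * c ^ k.choose 2 := by simp only [pow_succ, mul_assoc]
      _ = a ^ (k + 1) * (b ^ k * (b * c ^ k)) * c ^ k.choose 2 := by rw [hcc b]
      _ = a ^ (k + 1) * b ^ (k + 1) * c ^ (k + 1).choose 2 := by
          rw [Nat.choose_succ_succ' k 1, Nat.choose_one_right, pow_add c, pow_succ b]
          simp only [mul_assoc]

/-- The subgroup of elements of `N` whose `k`-th power lies in a scalar group. -/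
theorem exists_powSubgroup [Finite F] {N Z : Subgroup (GL ι F)} (hZ : Z ≤ scalars ι F)
    (hN : ⁅N, N⁆ ≤ scalars ι F) {k : ℕ} (hk : ∀ a ∈ N, ∀ b ∈ N, ⁅b, a⁆ ^ k.choose 2 ∈ Z) :
    ∃ K : Subgroup (GL ι F), ∀ g, g ∈ K ↔ g ∈ N ∧ g ^ k ∈ Z :=
  ⟨{ carrier := {g | g ∈ N ∧ g ^ k ∈ Z}
     one_mem' := ⟨one_mem N, by simp [one_mem]⟩
     mul_mem' := fun {a b} ha hb => ⟨mul_mem ha.1 hb.1, by
        rw [mul_pow_of_comm_scalar (hN (Subgroup.commutator_mem_commutator hb.1 ha.1))]
        exact mul_mem (mul_mem ha.2 hb.2) (hk a ha.1 b hb.1)⟩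
     inv_mem' := fun {a} ha => ⟨inv_mem ha.1, by rw [inv_pow]; exact inv_mem ha.2⟩ }, fun _ => Iff.rfl⟩

theorem conj_scalar {g z : GL ι F} (hz : z ∈ scalars ι F) : g * z * g⁻¹ = z := by
  rw [scalars_comm hz, mul_inv_cancel_right]

theorem card_le_of_pow_eq_one [Finite F] [Nonempty ι] {S : Subgroup (GL ι F)} {k : ℕ} (hk : 0 < k)
    (h : ∀ x ∈ S, x ∈ scalars ι F ∧ x ^ k = 1) : Nat.card S ≤ k := by
  classical
  haveI := Fintype.ofFinite F
  obtain ⟨i⟩ := ‹Nonempty ι›
  let φ : S → F := fun x => (x : GL ι F).val i i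
  have hval : ∀ x : S, (x : GL ι F).val = φ x • (1 : Matrix ι ι F) := fun x => by
    obtain ⟨c, hc⟩ := (mem_scalars_iff _).1 (h x x.2).1
    simp [φ, hc]
  have hφ : Function.Injective φ := fun x y e => Subtype.ext (Units.ext (by rw [hval, hval, e]))
  have hmem : ∀ x, φ x ∈ (Polynomial.nthRoots k (1 : F)).toFinset := fun x => by
    rw [Multiset.mem_toFinset, Polynomial.mem_nthRoots hk]
    have h1 := congrArg (fun g : GL ι F => g.val i i) (h x x.2).2
    simp only [Units.val_pow_eq_pow_val, hval, smul_pow, one_pow, Units.val_one] at h1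
    simpa using h1
  calc Nat.card S ≤ Nat.card (Polynomial.nthRoots k (1 : F)).toFinset :=
        Nat.card_le_card_of_injective (fun x => (⟨φ x, hmem x⟩ : (Polynomial.nthRoots k (1 : F)).toFinset))
          fun x y e => hφ (congrArg Subtype.val e)
    _ ≤ k := by
        rw [Nat.card_eq_fintype_card, Fintype.card_coe]
        exact (Multiset.toFinset_card_le _).trans (Polynomial.card_nthRoots k 1)

theorem isCyclic_of_le_scalars [Finite F] [Nonempty ι] {S : Subgroup (GL ι F)} (h : S ≤ scalars ι F) :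
    IsCyclic S := by
  haveI : IsCyclic (scalars ι F) := isCyclic_of_surjective
    (Units.map (Matrix.scalar ι : F →+* Matrix ι ι F).toMonoidHom).rangeRestrict
    (MonoidHom.rangeRestrict_surjective _)
  exact isCyclic_of_injective (Subgroup.inclusion h) (Subgroup.inclusion_injective h)

/-- Commutators in a group abelian modulo scalars are bilinear. -/
theorem comm_pow_scalar {a b : GL ι F} (hc : ⁅a, b⁆ ∈ scalars ι F) (k : ℕ) : ⁅a, b⁆ ^ k = ⁅a ^ k, b⁆ := by
  induction k with
  | zero => simp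
  | succ k ih =>
    rw [pow_succ, pow_succ' a]
    have h1 : ⁅a * a ^ k, b⁆ = a * ⁅a ^ k, b⁆ * a⁻¹ * ⁅a, b⁆ := by simp only [commutatorElement_def]; group
    rw [h1, ← ih, conj_scalar ((scalars ι F).pow_mem hc k)]

theorem six_of_minimal [Finite F] {H N : Subgroup (GL ι F)} (hn : 2 ≤ Fintype.card ι) (hN : NormalSub H N)
    (habs : ActsAbsolutelyIrreducibly (matrixSet N)) (hcomm : ⁅N, N⁆ ≤ scalars ι F)
    (hmin : ∀ K ≤ N, (∀ h ∈ H, ∀ x ∈ K, h * x * h⁻¹ ∈ K) → ¬ K ≤ scalars ι F → K = N) :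
    ∃ r m, Six H N r m := by
  classical
  haveI : Nonempty ι := Fintype.card_pos_iff.1 (by omega)
  have hns : ¬ N ≤ scalars ι F := fun h => not_irr_scalars hn h habs.1
  set Z : Subgroup (GL ι F) := scalars ι F with hZdef
  have hpownormal : ∀ {k : ℕ} {W : Subgroup (GL ι F)}, W ≤ Z → ∀ {K : Subgroup (GL ι F)},
      (∀ g, g ∈ K ↔ g ∈ N ∧ g ^ k ∈ W) → (∀ h ∈ H, ∀ x ∈ K, h * x * h⁻¹ ∈ K) := by
    intro k W hW K hK h hh x hx
    rw [hK] at hx ⊢
    exact ⟨hN.normal h hh x hx.1, by rw [conj_pow, conj_scalar (hW hx.2)]; exact hx.2⟩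
  have hcomm' : ∀ a ∈ N, ∀ b ∈ N, ⁅b, a⁆ ∈ Z := fun a ha b hb =>
    hcomm (Subgroup.commutator_mem_commutator hb ha)
  -- the prime
  obtain ⟨r, hr, hpow⟩ : ∃ r : ℕ, r.Prime ∧ ∀ x ∈ N, x ^ r ∈ Z := by
    obtain ⟨x, hx, hxs⟩ := Set.not_subset.1 hns
    let xb : GL ι F ⧸ Z := QuotientGroup.mk x
    have hxb : orderOf xb ≠ 1 := fun h => hxs ((QuotientGroup.eq_one_iff x).1 (orderOf_eq_one_iff.1 h))
    obtain ⟨r, hr, hdvd⟩ := Nat.exists_prime_and_dvd hxb
    obtain ⟨k, hk⟩ := hdvd
    have hk0 : k ≠ 0 := fun h => (orderOf_pos xb).ne' (by rw [hk, h, mul_zero])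
    obtain ⟨K, hK⟩ := exists_powSubgroup (Z := Z) le_rfl hcomm (k := r)
      (fun a ha b hb => pow_mem (hcomm' a ha b hb) _)
    have hKN : K = N := by
      refine hmin K (fun g hg => ((hK g).1 hg).1) (hpownormal le_rfl hK) fun hle => ?_
      have h1 : x ^ k ∈ K := (hK _).2 ⟨pow_mem hx k, by
        rw [← pow_mul, ← QuotientGroup.eq_one_iff, QuotientGroup.mk_pow, mul_comm, ← hk]
        exact pow_orderOf_eq_one xb⟩
      have h2 : xb ^ k = 1 := (QuotientGroup.eq_one_iff _).2 (hle h1)
      have h3 := Nat.le_of_dvd (Nat.pos_of_ne_zero hk0) (orderOf_dvd_of_pow_eq_one h2)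
      rw [hk] at h3
      nlinarith [hr.two_le, Nat.pos_of_ne_zero hk0]
    exact ⟨r, hr, fun g hg => ((hK g).1 (hKN.symm ▸ hg)).2⟩
  have hcr : ∀ a ∈ N, ∀ b ∈ N, ⁅b, a⁆ ^ r = 1 := fun a ha b hb => by
    rw [comm_pow_scalar (hcomm' a ha b hb), commutatorElement_eq_one_iff_mul_comm]
    exact (scalars_comm (hpow b hb)).symm
  have hnab : ∃ a ∈ N, ∃ b ∈ N, ⁅b, a⁆ ≠ 1 := by
    by_contra hcon
    push Not at hcon
    exact hns fun x hx => absIrr_center habs fun y hy => commutatorElement_eq_one_iff_mul_comm.1 (hcon y hy x hx)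
  set s := r * Nat.gcd 2 r with hs
  have hgcd : (Odd r ∧ Nat.gcd 2 r = 1) ∨ (r = 2 ∧ Nat.gcd 2 r = 2) := by
    rcases hr.eq_two_or_odd' with rfl | h
    · exact Or.inr ⟨rfl, rfl⟩
    · exact Or.inl ⟨h, Nat.coprime_two_left.2 h⟩
  have hchoose : r ∣ s.choose 2 := by
    rcases hgcd with ⟨hodd, hg⟩ | ⟨rfl, hg⟩
    · rw [hs, hg, mul_one]
      refine hr.dvd_choose_self two_ne_zero ?_
      obtain ⟨j, hj⟩ := hodd
      have := hr.two_le
      omega
    · rw [hs, hg]; decide
  obtain ⟨K, hK⟩ := exists_powSubgroup (Z := ⊥) bot_le hcomm (k := s) (fun a ha b hb => by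
    obtain ⟨j, hj⟩ := hchoose
    rw [hj, pow_mul, hcr a ha b hb, one_pow]
    exact one_mem _)
  have hKN : K = N := by
    refine hmin K (fun g hg => ((hK g).1 hg).1) (hpownormal bot_le hK) fun hle => ?_
    let T : Subgroup (GL ι F) := N ⊓ Z
    let sq : N →* GL ι F :=
      { toFun := fun g => (g : GL ι F) ^ s
        map_one' := by simp
        map_mul' := fun a b => by
          rw [Subgroup.coe_mul, mul_pow_of_comm_scalar (hcomm' _ a.2 _ b.2)]
          obtain ⟨j, hj⟩ := hchoose
          rw [hj, pow_mul ⁅(b : GL ι F), (a : GL ι F)⁆, hcr _ a.2 _ b.2, one_pow, mul_one] }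
    have hker : Nat.card sq.ker = Nat.card K := Nat.card_congr
      { toFun := fun g => ⟨g.1.1, (hK _).2 ⟨g.1.2, Subgroup.mem_bot.2 g.2⟩⟩
        invFun := fun g => ⟨⟨g.1, ((hK _).1 g.2).1⟩, Subgroup.mem_bot.1 ((hK _).1 g.2).2⟩
        left_inv := fun _ => rfl
        right_inv := fun _ => rfl }
    have hcard : Nat.card N = Nat.card sq.range * Nat.card K := by
      rw [← Subgroup.card_eq_card_quotient_mul_card_subgroup sq.ker |>.symm, hker,
        Nat.card_congr (QuotientGroup.quotientKerEquivRange sq).toEquiv]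
    have hTN : T ≤ N := inf_le_left
    have hidx : Nat.card N ≤ r * Nat.card T := by
      rcases hgcd with ⟨-, hg⟩ | ⟨rfl, hg⟩
      · have h1 : sq.range ≤ T := by
          rintro _ ⟨g, rfl⟩
          exact ⟨pow_mem g.2 _, by show (g : GL ι F) ^ s ∈ Z; rw [hs, hg, mul_one]; exact hpow _ g.2⟩
        rw [hcard, mul_comm r]
        refine Nat.mul_le_mul (Subgroup.card_le_of_le h1) (card_le_of_pow_eq_one hr.pos fun x hx => ⟨hle hx, ?_⟩)
        have h2 := ((hK x).1 hx).2
        rwa [Subgroup.mem_bot, hs, hg, mul_one] at h2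
      · let q : T →* GL ι F :=
          { toFun := fun g => (g : GL ι F) ^ 2
            map_one' := by simp
            map_mul' := fun a b => by
              rw [Subgroup.coe_mul]
              exact Commute.mul_pow (scalars_comm b.2.2) 2 }
        have h1 : sq.range ≤ q.range := by
          rintro _ ⟨g, rfl⟩
          refine ⟨⟨(g : GL ι F) ^ 2, pow_mem g.2 _, hpow _ g.2⟩, ?_⟩
          show ((g : GL ι F) ^ 2) ^ 2 = (g : GL ι F) ^ s
          rw [← pow_mul, hs, hg]
        have hT : Nat.card T = Nat.card q.range * Nat.card q.ker := by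
          rw [← Subgroup.card_eq_card_quotient_mul_card_subgroup q.ker |>.symm,
            Nat.card_congr (QuotientGroup.quotientKerEquivRange q).toEquiv]
        let q' : K →* GL ι F :=
          { toFun := fun g => (g : GL ι F) ^ 2
            map_one' := by simp
            map_mul' := fun a b => by rw [Subgroup.coe_mul]; exact Commute.mul_pow (scalars_comm (hle b.2)) 2 }
        let i1 : q'.ker → q.ker := fun g => ⟨⟨g.1.1, ((hK _).1 g.1.2).1, hle g.1.2⟩, g.2⟩
        have h2 : Nat.card q'.ker ≤ Nat.card q.ker := Nat.card_le_card_of_injective i1 fun x y e =>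
          Subtype.ext (Subtype.ext (congrArg (fun z : q.ker => (z.1 : GL ι F)) e))
        have h3 : Nat.card q'.range ≤ 2 := card_le_of_pow_eq_one two_pos fun x hx => by
          obtain ⟨g, rfl⟩ := hx
          refine ⟨pow_mem (hle g.2) 2, ?_⟩
          have h4 := ((hK g.1).1 g.2).2
          rw [Subgroup.mem_bot, hs, hg] at h4
          show ((g : GL ι F) ^ 2) ^ 2 = 1
          rw [← pow_mul]
          exact h4
        rw [hcard, hT, ← Subgroup.card_eq_card_quotient_mul_card_subgroup q'.ker |>.symm,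
          Nat.card_congr (QuotientGroup.quotientKerEquivRange q').toEquiv]
        calc Nat.card sq.range * (Nat.card q'.range * Nat.card q'.ker)
            ≤ Nat.card q.range * (2 * Nat.card q.ker) :=
              Nat.mul_le_mul (Subgroup.card_le_of_le h1) (Nat.mul_le_mul h3 h2)
          _ = 2 * (Nat.card q.range * Nat.card q.ker) := by ring
    haveI : (T.subgroupOf N).Normal := ⟨fun x hx g => by
      rw [Subgroup.mem_subgroupOf] at hx ⊢
      simp only [Subgroup.coe_mul, Subgroup.coe_inv]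
      rw [conj_scalar hx.2]
      exact hx⟩
    haveI : IsCyclic (N ⧸ T.subgroupOf N) := by
      have hq : Nat.card (N ⧸ T.subgroupOf N) ≤ r := by
        have h1 := Subgroup.card_eq_card_quotient_mul_card_subgroup (T.subgroupOf N)
        rw [Nat.card_congr (Subgroup.subgroupOfEquivOfLe hTN).toEquiv] at h1
        exact Nat.le_of_mul_le_mul_right (h1 ▸ hidx) Nat.card_pos
      by_cases h1 : ∀ z : N ⧸ T.subgroupOf N, z = 1
      · exact ⟨1, fun z => ⟨0, by simp [h1 z]⟩⟩
      · push Not at h1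
        obtain ⟨z, hz⟩ := h1
        have hzr : z ^ r = 1 := by
          obtain ⟨g, rfl⟩ := QuotientGroup.mk_surjective z
          rw [← QuotientGroup.mk_pow, QuotientGroup.eq_one_iff]
          exact ⟨pow_mem g.2 _, hpow _ g.2⟩
        haveI := Fact.mk hr
        have ho := orderOf_eq_prime hzr hz
        exact isCyclic_of_orderOf_eq_card z
          (le_antisymm (orderOf_le_card) (by rw [ho]; exact hq))
    obtain ⟨a, ha, b, hb, hab⟩ := hnab
    refine hab (commutatorElement_eq_one_iff_mul_comm.2 ?_)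
    have h1 := commutative_of_cyclic_center_quotient (QuotientGroup.mk' (T.subgroupOf N))
      (by
        rw [QuotientGroup.ker_mk']
        intro x hx
        exact Subgroup.mem_center_iff.2 fun g => Subtype.ext (scalars_comm hx.2))
      ⟨b, hb⟩ ⟨a, ha⟩
    exact congrArg Subtype.val h1
  have hexp : ∀ x ∈ N, x ^ s = 1 := fun x hx => Subgroup.mem_bot.1 ((hK x).1 (hKN.symm ▸ hx)).2
  haveI := Fact.mk hr
  have hspow : s = r ^ (if r = 2 then 2 else 1) := by
    rcases hgcd with ⟨hodd, hg⟩ | ⟨rfl, hg⟩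
    · rw [hs, hg, if_neg (by rintro rfl; exact absurd hodd (by decide))]; simp
    · rw [hs, hg, if_pos rfl]; norm_num
  have hpg : IsPGroup r N := fun x => ⟨if r = 2 then 2 else 1, Subtype.ext (by
    rw [← hspow]; simpa using hexp x x.2)⟩
  have hcenter : Subgroup.center N = Z.subgroupOf N := by
    ext x
    rw [Subgroup.mem_center_iff, Subgroup.mem_subgroupOf]
    exact ⟨fun h => absIrr_center habs fun y hy => (congrArg Subtype.val (h ⟨y, hy⟩)).symm,
      fun h g => Subtype.ext (scalars_comm h)⟩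
  obtain ⟨a, ha, b, hb, hab⟩ := hnab
  have hexp' : Monoid.exponent N = s := by
    have hdvd : Monoid.exponent N ∣ s := Monoid.exponent_dvd_of_forall_pow_eq_one fun g =>
      Subtype.ext (by simpa using hexp g g.2)
    have h1 : Monoid.exponent N ≠ 1 := fun h => by
      have h2 := Monoid.pow_exponent_eq_one (⟨b, hb⟩ : N)
      rw [h, pow_one, Subtype.ext_iff] at h2
      simp only [OneMemClass.coe_one] at h2
      exact hab (by rw [h2, commutatorElement_one_left])
    rcases hgcd with ⟨-, hg⟩ | ⟨rfl, hg⟩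
    · rw [hs, hg, mul_one] at hdvd ⊢
      exact ((Nat.dvd_prime hr).1 hdvd).resolve_left h1
    · rw [hs, hg] at hdvd ⊢
      obtain ⟨j, hj, e⟩ := (Nat.dvd_prime_pow Nat.prime_two).1 (show Monoid.exponent N ∣ 2 ^ 2 from hdvd)
      interval_cases j
      · exact absurd e h1
      · exfalso
        have h2 : ∀ g : N, g ^ 2 = 1 := fun g => by
          rw [show (2 : ℕ) = Monoid.exponent N from e.symm]; exact Monoid.pow_exponent_eq_one g
        have h3 := congrArg Subtype.val
          ((Commute.of_orderOf_dvd_two (fun g : N => orderOf_dvd_of_pow_eq_one (h2 g)) ⟨b, hb⟩ ⟨a, ha⟩).eq)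
        exact hab (commutatorElement_eq_one_iff_mul_comm.2 h3)
      · exact e
  -- the characteristic
  have hcab : ⁅b, a⁆ ∈ Z := hcomm' a ha b hb
  have hcharne : (r : F) ≠ 0 := fun h0 => by
    obtain ⟨c, hc⟩ := (mem_scalars_iff _).1 hcab
    haveI : CharP F r := (CharP.charP_iff_prime_eq_zero hr).2 h0
    have h1 := congrArg Units.val (hcr a ha b hb)
    rw [Units.val_pow_eq_pow_val, hc, smul_pow, one_pow, Units.val_one] at h1
    obtain ⟨i⟩ := ‹Nonempty ι›
    have h2 : (c : F) ^ r = 1 := by simpa using congrFun (congrFun h1 i) i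
    have h3 : ((c : F) - 1) ^ r = 0 := by rw [sub_pow_char, one_pow, h2, sub_self]
    have h4 : (c : F) = 1 := sub_eq_zero.1 (pow_eq_zero_iff hr.ne_zero |>.1 h3)
    exact hab (Units.ext (by rw [hc, h4, one_smul, Units.val_one]))
  -- characteristic abelian subgroups
  have hcyc : ∀ A : Subgroup N, A.Characteristic → IsMulCommutative A → IsCyclic A := by
    intro A hA hAc
    suffices hle : A.map N.subtype ≤ Z by
      haveI := isCyclic_of_le_scalars hle
      exact isCyclic_of_surjective (A.equivMapOfInjective N.subtype N.subtype_injective).symm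
        (MulEquiv.surjective _)
    by_contra hle
    have hKeq : A.map N.subtype = N := hmin _ (Subgroup.map_subtype_le A) (fun h hh x hx => by
      obtain ⟨y, hy, rfl⟩ := hx
      let φ : N ≃* N :=
        { toFun := fun g => ⟨h * g * h⁻¹, hN.normal h hh g g.2⟩
          invFun := fun g => ⟨h⁻¹ * g * h, by simpa using hN.normal h⁻¹ (inv_mem hh) g g.2⟩
          left_inv := fun g => Subtype.ext (by simp [mul_assoc])
          right_inv := fun g => Subtype.ext (by simp [mul_assoc])
          map_mul' := fun g g' => Subtype.ext (by simp [mul_assoc]) }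
      have h1 : φ y ∈ A := by
        have := hA.fixed φ
        rw [← this] at hy
        exact hy
      exact ⟨φ y, h1, rfl⟩) hle
    obtain ⟨⟨a', ha'N⟩, ha', rfl⟩ : a ∈ A.map N.subtype := hKeq.symm ▸ ha
    obtain ⟨⟨b', hb'N⟩, hb', rfl⟩ : b ∈ A.map N.subtype := hKeq.symm ▸ hb
    refine hab (commutatorElement_eq_one_iff_mul_comm.2 ?_)
    exact congrArg Subtype.val (congrArg Subtype.val
      (hAc.is_comm.comm (⟨⟨b', hb'N⟩, hb'⟩ : A) ⟨⟨a', ha'N⟩, ha'⟩))
  -- the dimension
  set Q := N ⧸ Subgroup.center N with hQ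
  haveI := Fintype.ofFinite Q
  let B : Q → Matrix ι ι F := fun q => (q.out : N).1.val
  have hmk : ∀ x : N, ∃ c : F, x.1.val = c • B (QuotientGroup.mk x) := fun x => by
    have h1 : (QuotientGroup.mk x : Q).out⁻¹ * x ∈ Subgroup.center N :=
      QuotientGroup.eq.1 (QuotientGroup.out_eq' _)
    obtain ⟨c, hc⟩ := (mem_scalars_iff _).1 (Subgroup.mem_subgroupOf.1 (hcenter.le h1))
    refine ⟨c, ?_⟩
    have h2 : (x : GL ι F) = ((QuotientGroup.mk x : Q).out : N).1 *
        (((QuotientGroup.mk x : Q).out⁻¹ * x : N) : GL ι F) := by simp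
    refine (congrArg Units.val h2).trans ?_
    exact ((Units.val_mul _ _).trans (congrArg (fun z => _ * z) hc)).trans (by rw [Matrix.mul_smul, mul_one])
  have htr : ∀ x : N, x ∉ Subgroup.center N → x.1.val.trace = 0 := fun x hx => by
    rw [Subgroup.mem_center_iff] at hx
    push Not at hx
    obtain ⟨y, hy⟩ := hx
    obtain ⟨c, hc⟩ := (mem_scalars_iff _).1 (hcomm' _ x.2 _ y.2)
    have h1 : (y.1 * x.1 * y.1⁻¹).val = (c : F) • x.1.val := by
      have : y.1 * x.1 * y.1⁻¹ = ⁅y.1, x.1⁆ * x.1 := by simp [commutatorElement_def, mul_assoc]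
      rw [this, Units.val_mul, hc, Matrix.smul_mul, one_mul]
    have hc1 : (c : F) ≠ 1 := fun e => hy (Subtype.ext (commutatorElement_eq_one_iff_mul_comm.1
      (Units.ext (by rw [hc, e, one_smul, Units.val_one]))))
    have h2 := congrArg Matrix.trace h1
    rw [Units.val_mul, Units.val_mul, Matrix.trace_mul_cycle, Units.inv_mul, one_mul, Matrix.trace_smul,
      smul_eq_mul] at h2
    exact (mul_eq_zero.1 (show ((c : F) - 1) * x.1.val.trace = 0 by rw [sub_mul, one_mul, ← h2, sub_self])
      ).resolve_left (sub_ne_zero.2 hc1)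
  have hspan : ⊤ ≤ Submodule.span F (Set.range B) := by
    rw [← span_eq_top habs, Submodule.span_le]
    rintro _ ⟨g, hg, rfl⟩
    obtain ⟨c, hc⟩ := hmk ⟨g, hg⟩
    show g.val ∈ _
    rw [show g.val = _ from hc]
    exact Submodule.smul_mem _ c (Submodule.subset_span ⟨_, rfl⟩)
  have htrB : ∀ p q : Q, p ≠ q → ((p.out⁻¹ * q.out : N) : GL ι F).val.trace = 0 := fun p q hpq =>
    htr _ fun h => hpq (by rw [← QuotientGroup.out_eq' p, ← QuotientGroup.out_eq' q]; exact QuotientGroup.eq.2 h)
  have hn0 : (Fintype.card ι : F) ≠ 0 := fun h0 => by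
    have h1 : ∀ q, (B q).trace = 0 := fun q => by
      by_cases hq : q.out ∈ Subgroup.center N
      · obtain ⟨c, hc⟩ := (mem_scalars_iff _).1 (Subgroup.mem_subgroupOf.1 (hcenter.le hq))
        exact (congrArg Matrix.trace hc).trans
          (by rw [Matrix.trace_smul, Matrix.trace_one, h0, smul_zero])
      · exact htr _ hq
    obtain ⟨i⟩ := ‹Nonempty ι›
    have h2 : Submodule.span F (Set.range B) ≤ LinearMap.ker (Matrix.traceLinearMap ι F F) := by
      rw [Submodule.span_le]
      rintro _ ⟨q, rfl⟩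
      exact h1 q
    have h3 := h2 (hspan (Submodule.mem_top (x := Matrix.single i i (1 : F))))
    rw [LinearMap.mem_ker, Matrix.traceLinearMap_apply, Matrix.trace_single_eq_same] at h3
    exact one_ne_zero h3
  have hli : LinearIndependent F B := by
    rw [Fintype.linearIndependent_iff]
    intro g hg p
    have h1 := congrArg (fun M => ((p.out⁻¹ : N) : GL ι F).val * M |>.trace) hg
    simp only [Matrix.mul_sum, Matrix.mul_smul, Matrix.trace_sum, Matrix.trace_smul, mul_zero,
      Matrix.trace_zero, smul_eq_mul, B, ← Units.val_mul, ← Subgroup.coe_mul] at h1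
    rw [Finset.sum_eq_single p (fun q _ hq => by rw [htrB p q hq.symm, mul_zero])
      (fun h => absurd (Finset.mem_univ _) h), inv_mul_cancel, OneMemClass.coe_one, Units.val_one,
      Matrix.trace_one] at h1
    exact (mul_eq_zero.1 h1).resolve_right hn0
  have hQcard : Nat.card Q = Fintype.card ι * Fintype.card ι := by
    rw [Nat.card_eq_fintype_card, ← Module.finrank_eq_card_basis (Basis.mk hli hspan), Module.finrank_matrix,
      Module.finrank_self, mul_one]
  obtain ⟨k, hk⟩ := IsPGroup.iff_card.1 (hpg.to_quotient (Subgroup.center N))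
  obtain ⟨m, -, hm⟩ := (Nat.dvd_prime_pow hr).1
    (show Fintype.card ι ∣ r ^ k from ⟨Fintype.card ι, hk.symm.trans hQcard⟩)
  have hk2 : Nat.card Q = r ^ (2 * m) := by rw [hQcard, hm, ← pow_add, two_mul]
  refine ⟨r, m, hN, ⟨hr, hpg, hcyc, hexp'⟩, habs, hcharne, ?_, hm, hcenter, hcomm, hpow, hexp, ?_, ?_⟩
  · refine Nat.pos_of_ne_zero fun h => ?_
    rw [h, pow_zero] at hm
    omega
  · rw [← hk2]
    exact Subgroup.card_eq_card_quotient_mul_card_subgroup _
  · have hne : Subgroup.center N ≠ ⊥ := fun h => by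
      have h1 : (⁅(⟨b, hb⟩ : N), ⟨a, ha⟩⁆) ∈ Subgroup.center N := by
        rw [hcenter]; exact hcab
      rw [h, Subgroup.mem_bot] at h1
      exact hab (congrArg Subtype.val h1)
    haveI : IsCyclic (Subgroup.center N) := hcyc _ inferInstance inferInstance
    obtain ⟨g, hg⟩ := IsCyclic.exists_ofOrder_eq_natCard (α := Subgroup.center N)
    have hdvd : Nat.card (Subgroup.center N) ∣ s := hg ▸ orderOf_dvd_of_pow_eq_one
      (Subtype.ext (Subtype.ext (by simpa using hexp _ g.1.2)))
    have hone : Nat.card (Subgroup.center N) ≠ 1 := fun h => hne (Subgroup.card_eq_one.1 h)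
    rcases hgcd with ⟨hodd, hg'⟩ | ⟨rfl, hg'⟩
    · rw [hs, hg', mul_one] at hdvd
      exact Or.inl ⟨hodd, ((Nat.dvd_prime hr).1 hdvd).resolve_left hone⟩
    · rw [hs, hg'] at hdvd
      obtain ⟨j, hj, e⟩ := (Nat.dvd_prime_pow Nat.prime_two).1
        (show Nat.card (Subgroup.center N) ∣ 2 ^ 2 from hdvd)
      interval_cases j
      · exact absurd e hone
      · exact Or.inr ⟨rfl, Or.inl e⟩
      · exact Or.inr ⟨rfl, Or.inr e⟩

end Cfsg.Lib.Linear.AschGen
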