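import Cfsg.Agent.Lib.Linear.AschGen.Wreath
import Cfsg.Agent.Lib.Linear.AschGen.Six

/-!
# The six kinds of irreducible groups

An irreducible group over a finite field is imprimitive, semilinear over an extension field,
stabilises a tensor decomposition or a tensor power, normalises a group of symplectic type, or is
almost simple modulo scalars with absolutely irreducible socle. Each case comes with the normal
subgroup responsible for it, so that the case can be refined in the presence of a form.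
-/

set_option autoImplicit false
set_option linter.unusedSectionVars false
set_option linter.style.haveILetI false

namespace Cfsg.Lib.Linear.AschGen

open Cfsg.Geo Cfsg.Lib.Linear.Asch Module
open scoped Matrix MatrixGroups commutatorElement

variable {ι : Type} [Fintype ι] [DecidableEq ι] {F : Type*} [Field F]

/-- A normal subgroup has several permuted primitive idempotents in the centre of its commutant. -/
def Imprimitive (H : Subgroup (GL ι F)) : Prop :=
  ∃ (N : Subgroup (GL ι F)) (t : ℕ) (e : Fin t → Matrix ι ι F),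
    2 ≤ t ∧ NormalSub H N ∧ IdemSystem H N e

/-- For a normal subgroup the centre of the commutant is an extension field. -/
def FieldExt (H : Subgroup (GL ι F)) : Prop :=
  ∃ N : Subgroup (GL ι F), NormalSub H N ∧ 1 < finrank F (bicomm N) ∧
    IsFieldSubalgebra (finrank F (bicomm N)) (bicomm N)

/-- A normal subgroup spans one factor of a proper tensor decomposition. -/
def TensorProd (H : Subgroup (GL ι F)) : Prop :=
  ∃ (N : Subgroup (GL ι F)) (d k : ℕ) (e : ι ≃ Fin d × Fin k) (P : GL ι F), NormalSub H N ∧ 2 ≤ d ∧ 2 ≤ k ∧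
    (∀ X, X ∈ adj N ↔ ∃ a, X = tensMat e P a 1) ∧ H ≤ tensorProductSubgroup d k e P

/-- A normal subgroup is of symplectic type. -/
def ClassSix (H : Subgroup (GL ι F)) : Prop :=
  ∃ (R : Subgroup (GL ι F)) (r m : ℕ), Six H R r m

/-- Commuting perfect subgroups span the factors of a tensor power. -/
structure PowData (H : Subgroup (GL ι F)) {d t : ℕ} (M : Fin t → Subgroup (GL ι F))
    (e : ι ≃ (Fin t → Fin d)) (P : GL ι F) : Prop where
  le : ∀ i, M i ≤ H
  perfect : ∀ i, ⁅M i, M i⁆ = M i
  comm : ∀ i j, i ≠ j → ∀ x ∈ M i, ∀ y ∈ M j, x * y = y * x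
  perm : ∀ h ∈ H, ∃ σ : Equiv.Perm (Fin t), ∀ i, (M i).map (MulAut.conj h).toMonoidHom = M (σ i)
  trans : ∀ i j, ∃ h ∈ H, (M i).map (MulAut.conj h).toMonoidHom = M j
  span : ∀ i X, X ∈ adj (M i) ↔ ∃ a, X = powEmb e P i a
  stab : H ≤ tensorWreathSubgroup d t e P

/-- `H` stabilises a tensor power decomposition through commuting perfect subgroups. -/
def TensorPow (H : Subgroup (GL ι F)) : Prop :=
  ∃ (d t : ℕ) (M : Fin t → Subgroup (GL ι F)) (e : ι ≃ (Fin t → Fin d)) (P : GL ι F),
    2 ≤ d ∧ 2 ≤ t ∧ PowData H M e P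

/-- The conditions of the residual class apart from realisability over subfields. -/
structure AlmostCore (H P : Subgroup (GL ι F)) : Prop where
  sub : NormalSub H P
  perfect : ⁅P, P⁆ = P
  simple : IsSimpleGroup (P ⧸ (scalars ι F).subgroupOf P)
  nonabelian : ¬ IsMulCommutative (P ⧸ (scalars ι F).subgroupOf P)
  centralizer_scalar : ∀ h ∈ H, (∀ x ∈ P, h * x * h⁻¹ * x⁻¹ ∈ scalars ι F) → h ∈ scalars ι F
  absIrred : ActsAbsolutelyIrreducibly (matrixSet P)

/-- `H` is almost simple modulo scalars with absolutely irreducible socle. -/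
def AlmostSimple (H : Subgroup (GL ι F)) : Prop := ∃ P, AlmostCore H P

theorem adj_map_conj (M : Subgroup (GL ι F)) (h : GL ι F) :
    adj (M.map (MulAut.conj h).toMonoidHom) = (adj M).map (conjA h).toAlgHom := by
  rw [adj, adj, AlgHom.map_adjoin]
  congr 1
  ext X
  constructor
  · rintro ⟨_, ⟨y, hy, rfl⟩, rfl⟩
    exact ⟨y.val, mem_matrixSet hy, by simp [conjA_apply]⟩
  · rintro ⟨_, ⟨y, hy, rfl⟩, rfl⟩
    exact ⟨_, ⟨y, hy, rfl⟩, by simp [conjA_apply]⟩

theorem absIrr_of_adj_top [Nonempty ι] {N : Subgroup (GL ι F)} (h : adj N = ⊤) :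
    ActsAbsolutelyIrreducibly (matrixSet N) := by
  refine ⟨irr_iff.2 fun W hW => ?_, fun M hM => ?_⟩
  · have hall : ∀ X : Matrix ι ι F, ∀ w ∈ W, X *ᵥ w ∈ W := fun X => by
      have hX : X ∈ adj N := h ▸ Algebra.mem_top
      induction hX using Algebra.adjoin_induction with
      | mem x hx => obtain ⟨g, hg, rfl⟩ := hx; exact hW g hg
      | algebraMap r =>
        intro w hw
        rw [Algebra.algebraMap_eq_smul_one, Matrix.smul_mulVec, Matrix.one_mulVec]
        exact W.smul_mem r hw
      | add x y _ _ hx hy => intro w hw; rw [Matrix.add_mulVec]; exact W.add_mem (hx w hw) (hy w hw)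
      | mul x y _ _ hx hy => intro w hw; rw [← Matrix.mulVec_mulVec]; exact hx _ (hy w hw)
    rw [or_iff_not_imp_left]
    intro h0
    obtain ⟨w, hw, hw0⟩ := Submodule.exists_mem_ne_zero_of_ne_bot h0
    obtain ⟨j, hj⟩ := Function.ne_iff.1 hw0
    refine eq_top_iff.2 fun v _ => ?_
    have h1 := hall (Matrix.of fun i l => if l = j then v i * (w j)⁻¹ else 0) w hw
    convert h1 using 1
    funext i
    simp only [Matrix.mulVec, dotProduct, Matrix.of_apply]
    rw [Finset.sum_eq_single j (fun l _ hl => by rw [if_neg hl, zero_mul])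
      (fun hn => absurd (Finset.mem_univ _) hn), if_pos rfl, mul_assoc, inv_mul_cancel₀ hj, mul_one]
  · have hall : ∀ X : Matrix ι ι F, X * M = M * X := by
      intro X
      have h1 : adj N ≤ Subalgebra.centralizer F ({M} : Set (Matrix ι ι F)) :=
        Algebra.adjoin_le fun g hg => (Subalgebra.mem_centralizer_iff F).2 fun m hm => by
          rw [Set.mem_singleton_iff] at hm
          subst hm
          exact hM g hg
      exact ((Subalgebra.mem_centralizer_iff F).1 (h1 (h ▸ Algebra.mem_top : X ∈ adj N)) M rfl).symm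
    obtain ⟨c, hc⟩ := Matrix.mem_range_scalar_of_commute_single (M := M) (fun i j _ => hall _)
    exact ⟨c, by rw [← hc, Matrix.scalar_apply, Matrix.smul_one_eq_diagonal]⟩

theorem le_scalars_of_range_one [Nonempty ι] {N : Subgroup (GL ι F)}
    {f : Matrix (Fin 1) (Fin 1) F →ₐ[F] Matrix ι ι F} (hf : adj N ≤ f.range) : N ≤ scalars ι F := by
  intro g hg
  obtain ⟨a, ha⟩ := hf (Algebra.subset_adjoin (mem_matrixSet hg))
  have h1 : a = a 0 0 • (1 : Matrix (Fin 1) (Fin 1) F) := by
    ext i j
    rw [Subsingleton.elim i 0, Subsingleton.elim j 0]; simp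
  refine mem_scalars_of_smul (c := a 0 0) ?_
  rw [← ha]
  show f a = _
  conv_lhs => rw [h1, map_smul, map_one]

theorem exists_min_card [Finite F] {p : Subgroup (GL ι F) → Prop} (h : ∃ K, p K) :
    ∃ N, p N ∧ ∀ K, p K → Nat.card N ≤ Nat.card K := by
  classical
  have hex : ∃ n, ∃ K, p K ∧ Nat.card K = n := let ⟨K, hK⟩ := h; ⟨_, K, hK, rfl⟩
  obtain ⟨N, hN, hc⟩ := Nat.find_spec hex
  exact ⟨N, hN, fun K hK => hc ▸ Nat.find_min' hex ⟨K, hK, rfl⟩⟩

theorem eq_of_le_of_card [Finite F] {K N : Subgroup (GL ι F)} (h : K ≤ N) (hc : Nat.card N ≤ Nat.card K) :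
    K = N :=
  SetLike.coe_injective (Set.eq_of_subset_of_ncard_le h (by
    rwa [← Nat.card_coe_set_eq, ← Nat.card_coe_set_eq]) (Set.toFinite _))

set_option maxHeartbeats 800000 in
/-- A perfect absolutely irreducible minimal normal subgroup is simple modulo scalars or decomposes
as a tensor power. -/
theorem perfect_cases [Finite F] {H N : Subgroup (GL ι F)} (hn : 2 ≤ Fintype.card ι) (hN : NormalSub H N)
    (habs : ActsAbsolutelyIrreducibly (matrixSet N)) (hperf : ⁅N, N⁆ = N)
    (hmin : ∀ K ≤ N, (∀ h ∈ H, ∀ x ∈ K, h * x * h⁻¹ ∈ K) → ¬ K ≤ scalars ι F → K = N) :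
    TensorPow H ∨ AlmostSimple H := by
  classical
  haveI : Nonempty ι := Fintype.card_pos_iff.1 (by omega)
  have hns : ¬ N ≤ scalars ι F := fun h => not_irr_scalars hn h habs.1
  let p : Subgroup (GL ι F) → Prop := fun K => NormalSub N K ∧ ¬ K ≤ scalars ι F
  by_cases hsimp : ∀ K, p K → K = N
  · refine Or.inr ⟨N, hN, hperf, ?_, fun hab => hns ?_, fun h hh hs => ?_, habs⟩
    · haveI : Nontrivial (N ⧸ (scalars ι F).subgroupOf N) := by
        obtain ⟨x, hx, hxs⟩ := Set.not_subset.1 hns
        exact ⟨⟨QuotientGroup.mk ⟨x, hx⟩, 1, fun e => hxs (Subgroup.mem_subgroupOf.1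
          ((QuotientGroup.eq_one_iff (⟨x, hx⟩ : N)).1 e))⟩⟩
      refine ⟨fun K' hK' => ?_⟩
      set q := QuotientGroup.mk' ((scalars ι F).subgroupOf N)
      by_cases hle : (K'.comap q).map N.subtype ≤ scalars ι F
      · left
        rw [eq_bot_iff]
        intro z hz
        obtain ⟨g, rfl⟩ := QuotientGroup.mk'_surjective _ z
        exact Subgroup.mem_bot.2 ((QuotientGroup.eq_one_iff g).2
          (Subgroup.mem_subgroupOf.2 (hle ⟨g, hz, rfl⟩)))
      · right
        have h1 : (K'.comap q).map N.subtype = N := hsimp _ ⟨⟨Subgroup.map_subtype_le _, by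
          rintro h hh _ ⟨y, hy, rfl⟩
          refine ⟨⟨h, hh⟩ * y * ⟨h, hh⟩⁻¹, ?_, rfl⟩
          exact (Subgroup.Normal.comap hK' q).conj_mem y hy _⟩, hle⟩
        rw [eq_top_iff]
        intro z _
        obtain ⟨g, rfl⟩ := QuotientGroup.mk'_surjective _ z
        obtain ⟨g', hg', e⟩ := (SetLike.le_def.1 h1.ge) g.2
        rwa [show g' = g from Subtype.ext e] at hg'
    · rw [← hperf, Subgroup.commutator_le]
      intro a ha b hb
      have h1 := hab.is_comm.comm (QuotientGroup.mk' ((scalars ι F).subgroupOf N) ⟨a, ha⟩)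
        (QuotientGroup.mk' _ ⟨b, hb⟩)
      rw [← commutatorElement_eq_one_iff_mul_comm, ← map_commutatorElement, QuotientGroup.mk'_apply,
        QuotientGroup.eq_one_iff, Subgroup.mem_subgroupOf] at h1
      exact h1
    · exact absIrr_center habs fun x hx => comm_commutator hs x (by rw [hperf]; exact hx)
  · left
    push Not at hsimp
    obtain ⟨M₁, hM₁, hM₁min⟩ := exists_min_card (p := p) ⟨hsimp.choose, hsimp.choose_spec.1⟩
    have hM₁ne : M₁ ≠ N := fun e => by
      obtain ⟨K, hK, hKne⟩ := hsimp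
      exact hKne (eq_of_le_of_card hK.1.le (e ▸ hM₁min K hK))
    let S : Set (Subgroup (GL ι F)) := {K | ∃ h ∈ H, M₁.map (MulAut.conj h).toMonoidHom = K}
    have hpS : ∀ K ∈ S, p K ∧ Nat.card K = Nat.card M₁ := by
      rintro _ ⟨h, hh, rfl⟩
      refine ⟨⟨⟨?_, ?_⟩, fun hle => hM₁.2 fun x hx => ?_⟩, ?_⟩
      · rintro _ ⟨x, hx, rfl⟩
        exact hN.normal h hh x (hM₁.1.le hx)
      · rintro g hg _ ⟨x, hx, rfl⟩
        refine ⟨(h⁻¹ * g * h) * x * (h⁻¹ * g * h)⁻¹, hM₁.1.normal _ ?_ x hx, ?_⟩
        · simpa using hN.normal h⁻¹ (inv_mem hh) g hg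
        · simp [mul_assoc]
      · have h1 : h * x * h⁻¹ ∈ scalars ι F := hle ⟨x, hx, rfl⟩
        have h2 : h⁻¹ * (h * x * h⁻¹) * (h⁻¹)⁻¹ ∈ scalars ι F := (scalars_normal).conj_mem _ h1 _
        simpa [mul_assoc] using h2
      · exact Nat.card_congr ((M₁.equivMapOfInjective _ (MulEquiv.injective (MulAut.conj h))).symm).toEquiv
    haveI : Finite (Subgroup (GL ι F)) := Finite.of_injective _ SetLike.coe_injective
    set t := Nat.card S
    let E : S ≃ Fin t := Finite.equivFin S
    let M : Fin t → Subgroup (GL ι F) := fun j => (E.symm j).1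
    have hMS : ∀ j, M j ∈ S := fun j => (E.symm j).2
    have hMinj : Function.Injective M := fun i j e => E.symm.injective (Subtype.ext e)
    have hinf : ∀ i j, i ≠ j → M i ⊓ M j ≤ scalars ι F := by
      intro i j hij
      by_contra hle
      obtain ⟨⟨⟨hle1, hn1⟩, -⟩, hc1⟩ := hpS _ (hMS i)
      obtain ⟨⟨⟨hle2, hn2⟩, -⟩, hc2⟩ := hpS _ (hMS j)
      have h1 := hM₁min (M i ⊓ M j) ⟨⟨inf_le_left.trans hle1,
        fun g hg x hx => ⟨hn1 g hg x hx.1, hn2 g hg x hx.2⟩⟩, hle⟩
      exact hij (hMinj ((eq_of_le_of_card inf_le_left (hc1 ▸ h1)).symm.trans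
        (eq_of_le_of_card inf_le_right (hc2 ▸ h1))))
    have hcs : ∀ i j, i ≠ j → ∀ y ∈ M i, ∀ x ∈ M j, y * x * y⁻¹ * x⁻¹ ∈ scalars ι F := by
      intro i j hij y hy x hx
      obtain ⟨⟨⟨hle1, hn1⟩, -⟩, -⟩ := hpS _ (hMS i)
      obtain ⟨⟨⟨hle2, hn2⟩, -⟩, -⟩ := hpS _ (hMS j)
      refine hinf i j hij (Subgroup.mem_inf.2 ⟨?_, mul_mem (hn2 y (hle1 hy) x hx) (inv_mem hx)⟩)
      rw [show y * x * y⁻¹ * x⁻¹ = y * (x * y⁻¹ * x⁻¹) by group]
      exact mul_mem hy (hn1 x (hle2 hx) _ (inv_mem hy))
    have hperm : ∀ h ∈ H, ∃ σ : Equiv.Perm (Fin t), ∀ i, (M i).map (MulAut.conj h).toMonoidHom = M (σ i) := by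
      intro h hh
      have hS : ∀ K ∈ S, K.map (MulAut.conj h).toMonoidHom ∈ S := by
        rintro _ ⟨g, hg, rfl⟩
        refine ⟨h * g, mul_mem hh hg, ?_⟩
        rw [Subgroup.map_map]
        congr 1
        ext x
        simp [mul_assoc]
      let τ : S → S := fun K => ⟨_, hS K K.2⟩
      have hτ : Function.Injective τ := fun K K' e => Subtype.ext
        (Subgroup.map_injective (MulEquiv.injective (MulAut.conj h)) (congrArg Subtype.val e))
      let τ' : Equiv.Perm S := Equiv.ofBijective τ ⟨hτ, Finite.injective_iff_surjective.1 hτ⟩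
      refine ⟨E.symm.trans (τ'.trans E), fun i => ?_⟩
      show _ = (E.symm (E (τ (E.symm i)))).1
      rw [Equiv.symm_apply_apply]
    have hsupeq : (⨆ j, M j) = N := by
      refine hmin _ (iSup_le fun j => (hpS _ (hMS j)).1.1.le) (fun h hh x hx => ?_) fun hle => ?_
      · obtain ⟨σ, hσ⟩ := hperm h hh
        have h1 : (⨆ j, M j).map (MulAut.conj h).toMonoidHom ≤ ⨆ j, M j := by
          rw [Subgroup.map_iSup]
          exact iSup_le fun j => (hσ j).le.trans (le_iSup M (σ j))
        exact h1 ⟨x, hx, rfl⟩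
      · refine hM₁.2 (le_trans ?_ hle)
        have hmem : M₁ ∈ S := ⟨1, one_mem H, by ext x; simp⟩
        exact le_of_eq_of_le (show M₁ = M (E ⟨M₁, hmem⟩) by simp [M]) (le_iSup M _)
    have hMperf : ∀ j, ⁅M j, M j⁆ = M j := by
      intro j
      obtain ⟨⟨⟨hlej, hnj⟩, -⟩, hcj⟩ := hpS _ (hMS j)
      refine eq_of_le_of_card (Subgroup.commutator_le.2 fun a ha b hb =>
        mul_mem (mul_mem (mul_mem ha hb) (inv_mem ha)) (inv_mem hb)) (hcj ▸ hM₁min _ ⟨⟨?_, ?_⟩, fun hle => ?_⟩)
      · exact (Subgroup.commutator_mono hlej hlej).trans hperf.le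
      · exact commutator_normal hnj
      · refine hns ?_
        rw [← hperf]
        set q := QuotientGroup.mk' (scalars ι F)
        have hq : ∀ i k, ∀ a ∈ M i, ∀ b ∈ M k, q a * q b = q b * q a := by
          intro i k a ha b hb
          rw [← commutatorElement_eq_one_iff_mul_comm, ← map_commutatorElement, QuotientGroup.mk'_apply,
            QuotientGroup.eq_one_iff]
          by_cases hik : i = k
          · subst hik
            obtain ⟨g, hg, eg⟩ := hMS i
            obtain ⟨g', hg', eg'⟩ := hMS j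
            have hgg : M i = (M j).map (MulAut.conj (g * g'⁻¹)).toMonoidHom := by
              rw [← show M₁.map _ = M i from eg, ← show M₁.map _ = M j from eg', Subgroup.map_map]
              congr 1
              ext x
              simp [mul_assoc]
            rw [hgg] at ha hb
            obtain ⟨a', ha', rfl⟩ := ha
            obtain ⟨b', hb', rfl⟩ := hb
            rw [← map_commutatorElement]
            exact scalars_normal.conj_mem _ (hle (Subgroup.commutator_mem_commutator ha' hb')) _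
          · simpa [commutatorElement_def] using hcs i k hik a ha b hb
        have h1 : ∀ a ∈ N, ∀ b ∈ N, q a * q b = q b * q a := by
          rw [← hsupeq]
          intro a ha
          induction ha using Subgroup.iSup_induction' with
          | hp i a ha =>
            intro b hb
            induction hb using Subgroup.iSup_induction' with
            | hp k b hb => exact hq i k a ha b hb
            | h1 => simp
            | hmul b b' _ _ h h' => rw [map_mul]; exact Commute.mul_right (h : Commute _ _) (h' : Commute _ _)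
          | h1 => intro b _; simp
          | hmul a a' _ _ h h' =>
            intro b hb
            rw [map_mul]
            exact Commute.mul_left (h b hb : Commute _ _) (h' b hb : Commute _ _)
        rw [Subgroup.commutator_le]
        intro a ha b hb
        rw [← QuotientGroup.eq_one_iff, ← QuotientGroup.mk'_apply, map_commutatorElement]
        exact commutatorElement_eq_one_iff_mul_comm.2 (h1 a ha b hb)
    have hcomm : ∀ i j, i ≠ j → ∀ x ∈ M i, ∀ y ∈ M j, x * y = y * x := by
      intro i j hij x hx y hy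
      refine comm_commutator (M := M j) (fun z hz => hcs i j hij x hx z hz) y ?_
      rwa [hMperf]
    have hbic : ∀ i, bicomm (M i) = ⊥ := by
      intro i
      rw [eq_bot_iff]
      intro X hX
      have hc : ∀ g ∈ N, g.val * X = X * g.val := by
        rw [← hsupeq]
        intro g hg
        induction hg using Subgroup.iSup_induction' with
        | hp j g hg =>
          by_cases hij : i = j
          · subst hij; exact bicomm_le_centralizer hX g hg
          · refine (Subalgebra.mem_centralizer_iff F).1 (Algebra.mem_inf.1 hX).2 _ ?_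
            refine (Subalgebra.mem_centralizer_iff F).2 ?_
            rintro _ ⟨y, hy, rfl⟩
            rw [← Units.val_mul, hcomm i j hij y hy g hg, Units.val_mul]
        | h1 => simp
        | hmul a b _ _ ha hb => rw [Units.val_mul, mul_assoc, hb, ← mul_assoc, ha, mul_assoc]
      obtain ⟨c, hc'⟩ := habs.2 X (by rintro _ ⟨g, hg, rfl⟩; exact (hc g hg).symm)
      exact Algebra.mem_bot.2 ⟨c, by rw [hc', Algebra.algebraMap_eq_smul_one]⟩
    have ht0 : 0 < t := by
      have hmem : M₁ ∈ S := ⟨1, one_mem H, by ext x; simp⟩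
      exact Nat.card_pos_iff.2 ⟨⟨⟨M₁, hmem⟩⟩, inferInstance⟩
    let i₀ : Fin t := ⟨0, ht0⟩
    obtain ⟨d, f₁, hd0, -, hf₁⟩ := exists_matrix_adj habs.1 (hpS _ (hMS i₀)).1.1 (hbic i₀)
    have hd : 2 ≤ d := by
      by_contra hd2
      obtain rfl : d = 1 := by omega
      exact (hpS _ (hMS i₀)).1.2 (le_scalars_of_range_one hf₁.ge)
    have htr : ∀ j, ∃ g ∈ H, M j = (M i₀).map (MulAut.conj g).toMonoidHom := by
      intro j
      obtain ⟨g, hg, eg⟩ := hMS j
      obtain ⟨g', hg', eg'⟩ := hMS i₀
      refine ⟨g * g'⁻¹, mul_mem hg (inv_mem hg'), ?_⟩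
      rw [← show M₁.map _ = M j from eg, ← show M₁.map _ = M i₀ from eg', Subgroup.map_map]
      congr 1
      ext x
      simp [mul_assoc]
    choose g hg hgM using htr
    have htrans : ∀ i j, ∃ h ∈ H, (M i).map (MulAut.conj h).toMonoidHom = M j := fun i j => by
      refine ⟨g j * (g i)⁻¹, mul_mem (hg j) (inv_mem (hg i)), ?_⟩
      rw [hgM i, hgM j, Subgroup.map_map]
      congr 1
      ext x
      simp [mul_assoc]
    let f : Fin t → Matrix (Fin d) (Fin d) F →ₐ[F] Matrix ι ι F := fun j => (conjA (g j)).toAlgHom.comp f₁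
    have hfr : ∀ j, (f j).range = adj (M j) := fun j => by
      rw [hgM j, adj_map_conj, ← hf₁, AlgHom.range_comp]
    have hfc : ∀ i j, i ≠ j → ∀ X Y, Commute (f i X) (f j Y) := by
      intro i j hij X Y
      have h1 : adj (M i) ≤ Subalgebra.centralizer F (adj (M j) : Set (Matrix ι ι F)) := by
        refine Algebra.adjoin_le ?_
        rintro _ ⟨x, hx, rfl⟩
        have h2 : adj (M j) ≤ Subalgebra.centralizer F ({x.val} : Set (Matrix ι ι F)) := by
          refine Algebra.adjoin_le ?_
          rintro _ ⟨y, hy, rfl⟩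
          refine (Subalgebra.mem_centralizer_iff F).2 fun z hz => ?_
          rw [Set.mem_singleton_iff] at hz
          rw [hz, ← Units.val_mul, hcomm i j hij x hx y hy, Units.val_mul]
        exact (Subalgebra.mem_centralizer_iff F).2 fun z hz =>
          ((Subalgebra.mem_centralizer_iff F).1 (h2 hz) _ rfl).symm
      exact ((Subalgebra.mem_centralizer_iff F).1 (h1 ((hfr i).le ⟨X, rfl⟩)) _ ((hfr j).le ⟨Y, rfl⟩)).symm
    have hgen : Algebra.adjoin F (⋃ i, Set.range (f i)) = ⊤ := by
      have hNle : ∀ x ∈ N, x.val ∈ Algebra.adjoin F (⋃ i, Set.range (f i)) := by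
        rw [← hsupeq]
        intro x hx
        induction hx using Subgroup.iSup_induction' with
        | hp j x hx =>
          obtain ⟨a, ha⟩ := (hfr j).ge (Algebra.subset_adjoin (mem_matrixSet hx))
          exact Algebra.subset_adjoin (Set.mem_iUnion.2 ⟨j, a, ha⟩)
        | h1 => exact one_mem _
        | hmul a b _ _ ha hb => rw [Units.val_mul]; exact mul_mem ha hb
      rw [eq_top_iff]
      intro X _
      have h1 : X ∈ Submodule.span F (matrixSet N) := by rw [span_eq_top habs]; exact Submodule.mem_top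
      exact (Submodule.span_le (p := Subalgebra.toSubmodule (Algebra.adjoin F (⋃ i, Set.range (f i))))).2
        (by rintro _ ⟨x, hx, rfl⟩; exact hNle x hx) h1
    obtain ⟨e, P, hP⟩ := exists_powEmb (by omega) f hfc hgen
    have hspan : ∀ i X, X ∈ adj (M i) ↔ ∃ a, X = powEmb e P i a := fun i X => by
      rw [← hfr i]
      exact ⟨fun ⟨a, ha⟩ => ⟨a, by rw [← ha, ← hP]; rfl⟩, fun ⟨a, ha⟩ => ⟨a, by rw [ha, ← hP]; rfl⟩⟩
    have ht : 2 ≤ t := by
      by_contra ht2
      haveI : Subsingleton (Fin t) := Fin.subsingleton_iff_le_one.2 (by omega)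
      refine hM₁ne ?_
      have h1 : N ≤ M i₀ := hsupeq ▸ iSup_le fun j => le_of_eq (by rw [Subsingleton.elim j i₀])
      refine eq_of_le_of_card hM₁.1.le ?_
      rw [← (hpS _ (hMS i₀)).2]
      exact Subgroup.card_le_of_le h1
    refine ⟨d, t, M, e, P, hd, ht, fun i => (hpS _ (hMS i)).1.1.le.trans hN.le, hMperf, hcomm, hperm, htrans,
      hspan, fun h hh => ?_⟩
    obtain ⟨σ, hσ⟩ := hperm h hh
    refine mem_tensorWreathSubgroup_of_conj (by omega) (by omega) σ fun i X => ?_
    rw [← hspan (σ i), ← hσ i, adj_map_conj]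
    exact ⟨_, (hspan i _).2 ⟨X, rfl⟩, rfl⟩

/-- The main case division for irreducible groups. -/
theorem core [Finite F] {H : Subgroup (GL ι F)} (hirr : ActsIrreducibly (matrixSet H))
    (hn : 2 ≤ Fintype.card ι) :
    Imprimitive H ∨ FieldExt H ∨ TensorProd H ∨ ClassSix H ∨ TensorPow H ∨ AlmostSimple H := by
  classical
  haveI : Nonempty ι := Fintype.card_pos_iff.1 (by omega)
  haveI : Finite (Matrix ι ι F) := inferInstanceAs (Finite (ι → ι → F))
  obtain ⟨N, ⟨hN, hNs⟩, hNmin⟩ := exists_min_card (p := fun K => NormalSub H K ∧ ¬ K ≤ scalars ι F)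
    ⟨H, NormalSub.self H, fun h => not_irr_scalars hn h hirr⟩
  have hmin : ∀ K ≤ N, (∀ h ∈ H, ∀ x ∈ K, h * x * h⁻¹ ∈ K) → ¬ K ≤ scalars ι F → K = N :=
    fun K hK hKn hKs => eq_of_le_of_card hK (hNmin K ⟨⟨hK.trans hN.le, hKn⟩, hKs⟩)
  rcases split hirr hN with ⟨t, e, ht, hs⟩ | ⟨h1, hK⟩ | ⟨d, f, hd, -, hf⟩
  · exact Or.inl ⟨N, t, e, ht, hN, hs⟩
  · exact Or.inr (Or.inl ⟨N, hN, h1, hK⟩)
  · have hd2 : 2 ≤ d := by
      by_contra hd2
      obtain rfl : d = 1 := by omega
      exact hNs (le_scalars_of_range_one hf.ge)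
    obtain ⟨k, e, P, hfe⟩ := exists_tensMat hd f
    have hmem : ∀ X, X ∈ adj N ↔ ∃ a, X = tensMat e P a 1 := fun X => by
      rw [← hf]
      exact ⟨fun ⟨a, ha⟩ => ⟨a, by rw [← ha, ← hfe]; rfl⟩, fun ⟨a, ha⟩ => ⟨a, by rw [ha, ← hfe]; rfl⟩⟩
    have hcard : Fintype.card ι = d * k := by
      rw [Fintype.card_congr e, Fintype.card_prod, Fintype.card_fin, Fintype.card_fin]
    rcases Nat.lt_or_ge k 2 with hk | hk
    · obtain rfl : k = 1 := by
        rcases Nat.lt_or_ge k 1 with h | h
        · obtain rfl : k = 0 := by omega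
          omega
        · omega
      have htop : adj N = ⊤ := eq_top_iff.2 fun X _ => (hmem X).2
        ⟨Matrix.of fun i j => (conjA P).symm X (e.symm (i, 0)) (e.symm (j, 0)), by
          rw [tensMat]
          conv_lhs => rw [← (conjA P).apply_symm_apply X]
          congr 1
          ext i j
          rw [Matrix.submatrix_apply, Matrix.kroneckerMap_apply, Matrix.of_apply,
            Subsingleton.elim (e i).2 0, Subsingleton.elim (e j).2 0, Matrix.one_apply_eq, mul_one,
            show ((e i).1, (0 : Fin 1)) = e i from Prod.ext rfl (Subsingleton.elim _ _),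
            show ((e j).1, (0 : Fin 1)) = e j from Prod.ext rfl (Subsingleton.elim _ _),
            e.symm_apply_apply, e.symm_apply_apply]⟩
      have habs := absIrr_of_adj_top htop
      by_cases hcs : ⁅N, N⁆ ≤ scalars ι F
      · obtain ⟨r, m, h6⟩ := six_of_minimal hn hN habs hcs hmin
        exact Or.inr (Or.inr (Or.inr (Or.inl ⟨N, r, m, h6⟩)))
      · have hperf : ⁅N, N⁆ = N := hmin _ (Subgroup.commutator_le.2 fun a ha b hb =>
          mul_mem (mul_mem (mul_mem ha hb) (inv_mem ha)) (inv_mem hb)) (commutator_normal hN.normal) hcs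
        rcases perfect_cases hn hN habs hperf hmin with h | h
        · exact Or.inr (Or.inr (Or.inr (Or.inr (Or.inl h))))
        · exact Or.inr (Or.inr (Or.inr (Or.inr (Or.inr h))))
    · refine Or.inr (Or.inr (Or.inl ⟨N, d, k, e, P, hN, hd2, hk, hmem, fun h hh => ?_⟩))
      refine mem_tensorProductSubgroup_of_conj hd (by omega) fun a => ?_
      exact (hmem _).1 (conjA_adj hN hh ((hmem _).2 ⟨a, rfl⟩))

/-- An irreducible group which is not absolutely irreducible is semilinear over an extension field. -/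
theorem absIrr_or_fieldExt [Finite F] [Nonempty ι] {H : Subgroup (GL ι F)} (hirr : ActsIrreducibly (matrixSet H)) :
    ActsAbsolutelyIrreducibly (matrixSet H) ∨ FieldExt H := by
  haveI : Finite (Matrix ι ι F) := inferInstanceAs (Finite (ι → ι → F))
  obtain ⟨hC, -⟩ := centralizer_field hirr
  set C := Subalgebra.centralizer F (matrixSet H) with hCdef
  rcases Nat.lt_or_ge 1 (finrank F C) with h | h
  · have hb : bicomm H = C := le_antisymm inf_le_left (le_inf le_rfl fun x hx =>
      (Subalgebra.mem_centralizer_iff F).2 fun c hc => hC.comm c hc x hx)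
    exact Or.inr ⟨H, NormalSub.self H, by rw [hb]; exact h, by rw [hb]; exact hC⟩
  · refine Or.inl ⟨hirr, fun M hM => ?_⟩
    have hM' : M ∈ C := (Subalgebra.mem_centralizer_iff F).2 fun g hg => (hM g hg).symm
    rw [Subalgebra.eq_bot_of_finrank_one (le_antisymm h Module.finrank_pos)] at hM'
    obtain ⟨c, hc⟩ := Algebra.mem_bot.1 hM'
    exact ⟨c, by rw [← hc, Algebra.algebraMap_eq_smul_one]⟩

end Cfsg.Lib.Linear.AschGen
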