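import Cfsg.Agent.Lib.Linear.AschGen.Core

/-!
# A group of symplectic type is realised over any field containing its scalars
-/

set_option autoImplicit false
set_option linter.unusedSectionVars false
set_option linter.style.haveILetI false

namespace Cfsg.Lib.Linear.AschGen

open Cfsg.Geo Cfsg.Lib.Linear.Asch Module
open scoped Matrix MatrixGroups

variable {ι : Type} [Fintype ι] [DecidableEq ι] {F : Type*} [Field F]

/-- A group with all its matrices rational in some basis is realised over the subfield. -/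
theorem realisable_of_basis {R : Subgroup (GL ι F)} {F₀ : Subfield F} (b : Module.Basis ι F (ι → F))
    (h : ∀ g ∈ R, ∀ i j, b.repr (g.val *ᵥ b j) i ∈ F₀) : RealisableOver F₀ (matrixSet R) := by
  let M := b.toMatrix (Pi.basisFun F ι)
  let M' := (Pi.basisFun F ι).toMatrix b
  refine ⟨⟨M, M', Basis.toMatrix_mul_toMatrix_flip _ _, Basis.toMatrix_mul_toMatrix_flip _ _⟩, ?_⟩
  rintro _ ⟨g, hg, rfl⟩ i j
  show (M * g.val * M') i j ∈ F₀
  have h1 : M * LinearMap.toMatrix (Pi.basisFun F ι) (Pi.basisFun F ι) (Matrix.toLin' g.val) * M' =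
      LinearMap.toMatrix b b (Matrix.toLin' g.val) := basis_toMatrix_mul_linearMap_toMatrix_mul_basis_toMatrix _ _ _ _ _
  rw [LinearMap.toMatrix_eq_toMatrix', LinearMap.toMatrix'_toLin'] at h1
  rw [h1, LinearMap.toMatrix_apply, Matrix.toLin'_apply]
  exact h g hg i j

set_option maxHeartbeats 1000000 in
/-- A subalgebra spanned over a subfield by an irreducible group has trivial radical. -/
theorem jacobson_eq_bot [Finite F] {R : Subgroup (GL ι F)} {K : Type*} [CommRing K] [Algebra K (Matrix ι ι F)]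
    (hirr : ActsIrreducibly (matrixSet R)) (A : Subalgebra K (Matrix ι ι F))
    (hA : ∀ h ∈ R, (h : Matrix ι ι F) ∈ A) [IsArtinianRing A] [Nontrivial A] : Ring.jacobson A = ⊥ := by
  obtain ⟨n, hn⟩ := IsSemiprimaryRing.isNilpotent (R := A)
  let J : Set (Matrix ι ι F) := Subtype.val '' (Ring.jacobson A : Set A)
  have hconj : ∀ h ∈ R, ∀ x ∈ J, conjA h x ∈ J := by
    rintro h hh _ ⟨x, hx, rfl⟩
    refine ⟨⟨h.val, hA h hh⟩ * x *
      ⟨(h⁻¹).val, hA h⁻¹ (inv_mem hh)⟩, ?_, rfl⟩
    exact Ideal.mul_mem_right _ _ (Ideal.mul_mem_left _ _ hx)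
  have hv : ∃ v : ι → F, v ≠ 0 ∧ ∀ x ∈ J, x *ᵥ v = 0 := by
    obtain ⟨k, hk, hne⟩ : ∃ k, Ring.jacobson A * Ring.jacobson A ^ k = ⊥ ∧ Ring.jacobson A ^ k ≠ ⊥ := by
      have hex : ∃ k, Ring.jacobson A ^ k = ⊥ := ⟨n, hn⟩
      have hk := Nat.find_spec hex
      rcases hk0 : Nat.find hex with _ | k
      · rw [hk0] at hk
        rw [Submodule.pow_zero, Ideal.one_eq_top] at hk
        exact absurd hk top_ne_bot
      · rw [hk0] at hk
        exact ⟨k, (Ideal.IsTwoSided.pow_succ k).symm.trans hk, Nat.find_min hex (by omega)⟩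
    obtain ⟨x, hx, hx0⟩ := Submodule.exists_mem_ne_zero_of_ne_bot hne
    obtain ⟨u, hu⟩ : ∃ u, (x : Matrix ι ι F) *ᵥ u ≠ 0 := by
      by_contra hz
      push Not at hz
      exact hx0 (Subtype.ext (Matrix.ext_of_mulVec_single fun j => by
        rw [hz, ZeroMemClass.coe_zero, Matrix.zero_mulVec]))
    refine ⟨_, hu, ?_⟩
    rintro _ ⟨y, hy, rfl⟩
    have h1 : y * x ∈ Ring.jacobson A * Ring.jacobson A ^ k := Ideal.mul_mem_mul hy hx
    rw [hk, Submodule.mem_bot] at h1
    rw [Matrix.mulVec_mulVec, ← MulMemClass.coe_mul, h1, ZeroMemClass.coe_zero, Matrix.zero_mulVec]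
  rw [Submodule.eq_bot_iff]
  exact fun x hx => Subtype.ext (eq_zero_of_common_kernel hirr hconj hv _ ⟨x, hx, rfl⟩)

theorem realisable_six [Finite F] [Nonempty ι] {H R : Subgroup (GL ι F)} {r m : ℕ} (hS : Six H R r m)
    (F₀ : Subfield F) (hz : ∀ x ∈ R, ∀ c : F, (x : Matrix ι ι F) = c • 1 → c ∈ F₀) :
    RealisableOver F₀ (matrixSet R) := by
  classical
  haveI : Finite (Matrix ι ι F) := inferInstanceAs (Finite (ι → ι → F))
  set Q := R ⧸ Subgroup.center R with hQ
  haveI := Fintype.ofFinite Q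
  let B : Q → Matrix ι ι F := fun q => (q.out : R).1.val
  have hmk : ∀ x : R, ∃ c : F₀, x.1.val = (c : F) • B (QuotientGroup.mk x) := fun x => by
    have h1 : (QuotientGroup.mk x : Q).out⁻¹ * x ∈ Subgroup.center R :=
      QuotientGroup.eq.1 (QuotientGroup.out_eq' _)
    obtain ⟨c, hc⟩ := (mem_scalars_iff _).1 (Subgroup.mem_subgroupOf.1 (hS.center_eq.le h1))
    refine ⟨⟨c, hz _ ((QuotientGroup.mk x : Q).out⁻¹ * x).2 c hc⟩, ?_⟩
    have h2 : (x : GL ι F) = ((QuotientGroup.mk x : Q).out : R).1 *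
        (((QuotientGroup.mk x : Q).out⁻¹ * x : R) : GL ι F) := by simp
    refine (congrArg Units.val h2).trans ?_
    exact ((Units.val_mul _ _).trans (congrArg (fun z => _ * z) hc)).trans (by rw [Matrix.mul_smul, mul_one])
  have hspan : ⊤ ≤ Submodule.span F (Set.range B) := by
    rw [← span_eq_top hS.absIrr, Submodule.span_le]
    rintro _ ⟨g, hg, rfl⟩
    obtain ⟨c, hc⟩ := hmk ⟨g, hg⟩
    show g.val ∈ _
    rw [show g.val = _ from hc]
    exact Submodule.smul_mem _ _ (Submodule.subset_span ⟨_, rfl⟩)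
  have hQcard : Fintype.card Q = Fintype.card ι * Fintype.card ι := by
    have h1 := Subgroup.card_eq_card_quotient_mul_card_subgroup (Subgroup.center R)
    rw [hS.card] at h1
    rw [← Nat.card_eq_fintype_card, ← (Nat.eq_of_mul_eq_mul_right Nat.card_pos h1), hS.card_eq, ← pow_add, two_mul]
  have hli : LinearIndependent F B := linearIndependent_of_top_le_span_of_card_eq_finrank hspan
    (by rw [hQcard, Module.finrank_matrix, Module.finrank_self, mul_one])
  set A := Algebra.adjoin F₀ (matrixSet R) with hA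
  have hclos : (Submonoid.closure (matrixSet R) : Set (Matrix ι ι F)) = matrixSet R := by
    refine Set.Subset.antisymm ?_ Submonoid.subset_closure
    intro x hx
    refine Submonoid.closure_induction (motive := fun x _ => x ∈ matrixSet R) (fun x hx => hx) ⟨1, one_mem R, rfl⟩ ?_ hx
    rintro _ _ - - ⟨a, ha, rfl⟩ ⟨b, hb, rfl⟩
    exact ⟨a * b, mul_mem ha hb, rfl⟩
  have hAspan : Subalgebra.toSubmodule A = Submodule.span F₀ (Set.range B) := by
    rw [hA, Algebra.adjoin_eq_span, hclos]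
    refine le_antisymm (Submodule.span_le.2 ?_) (Submodule.span_mono ?_)
    · rintro _ ⟨g, hg, rfl⟩
      obtain ⟨c, hc⟩ := hmk ⟨g, hg⟩
      show g.val ∈ _
      rw [show g.val = _ from hc]
      exact Submodule.smul_mem _ c (Submodule.subset_span ⟨_, rfl⟩)
    · rintro _ ⟨q, rfl⟩
      exact mem_matrixSet q.out.2
  have hli₀ : LinearIndependent F₀ B := hli.restrict_scalars' F₀
  haveI : Module.Finite F₀ A := Module.Finite.of_finite
  have hfr : finrank F₀ A = Fintype.card ι * Fintype.card ι := by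
    rw [← hQcard, ← finrank_span_eq_card hli₀, ← hAspan]
    rfl
  haveI : IsArtinianRing A := inferInstance
  have hirrR := hS.absIrr.1
  have hjac : Ring.jacobson A = ⊥ := jacobson_eq_bot hirrR A fun h hh => Algebra.subset_adjoin (mem_matrixSet hh)
  have hcen : ∀ z : A, (∀ a, a * z = z * a) → ∃ c : F₀, z = algebraMap F₀ A c := by
    intro z hzc
    obtain ⟨c, hc⟩ := hS.absIrr.2 z.1 (fun g hg =>
      (congrArg Subtype.val (hzc ⟨g, Algebra.subset_adjoin hg⟩)).symm)
    refine ⟨⟨c, ?_⟩, Subtype.ext (by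
      rw [hc, Subalgebra.coe_algebraMap, Algebra.algebraMap_eq_smul_one]; rfl)⟩
    have hz' : z.1 ∈ Submodule.span F₀ (Set.range B) := hAspan ▸ z.2
    rw [Submodule.mem_span_range_iff_exists_fun] at hz'
    obtain ⟨a, ha⟩ := hz'
    set q₀ : Q := QuotientGroup.mk (1 : R)
    obtain ⟨c₀, hc₀⟩ := hmk 1
    have h1 : (c : F) • (((c₀ : F)) • B q₀) = ∑ q, ((a q : F₀) : F) • B q := by
      rw [← hc₀]
      simpa [Subfield.smul_def] using hc.symm.trans ha.symm
    have h2 : ∑ q, ((a q : F) - if q = q₀ then c * c₀ else 0) • B q = 0 := by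
      simp only [sub_smul, Finset.sum_sub_distrib, ite_smul, zero_smul, ← h1, smul_smul]
      rw [Finset.sum_eq_single q₀ (fun q _ hq => if_neg hq) (fun h => absurd (Finset.mem_univ _) h), if_pos rfl,
        sub_self]
    have h3 := Fintype.linearIndependent_iff.1 hli _ h2 q₀
    rw [if_pos rfl, sub_eq_zero] at h3
    have hc₀0 : (c₀ : F) ≠ 0 := fun h => by
      rw [h, zero_smul] at hc₀
      exact (1 : R).1.isUnit.ne_zero hc₀
    have h4 : c = ((a q₀ : F₀) : F) * ((c₀ : F))⁻¹ := by rw [h3, mul_inv_cancel_right₀ hc₀0]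
    rw [h4]
    exact mul_mem (a q₀).2 (inv_mem c₀.2)
  obtain ⟨d, hd, ⟨Φ⟩⟩ := exists_matrix_of_central hjac hcen
  have hdn : d = Fintype.card ι := by
    have h1 := Φ.toLinearEquiv.finrank_eq
    rw [Module.finrank_matrix, Module.finrank_self, Fintype.card_fin, mul_one, hfr] at h1
    exact Nat.mul_self_inj.1 h1
  let z : Fin d := ⟨0, hd⟩
  let φ : Matrix (Fin d) (Fin d) F₀ →ₐ[F₀] Matrix ι ι F := A.val.comp Φ.toAlgHom
  have hφinj : Function.Injective φ := Subtype.val_injective.comp Φ.injective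
  let E : Fin d → Fin d → Matrix (Fin d) (Fin d) F₀ := fun a b => Matrix.single a b 1
  have hE0 : φ (E z z) ≠ 0 := fun h => by
    have h1 := congrFun (congrFun (hφinj (h.trans (map_zero φ).symm)) z) z
    simp [E] at h1
  obtain ⟨w₀, hw₀⟩ : ∃ w, φ (E z z) *ᵥ w ≠ 0 := by
    by_contra hcon
    push Not at hcon
    exact hE0 (Matrix.ext_of_mulVec_single fun j => by rw [hcon, Matrix.zero_mulVec])
  set w := φ (E z z) *ᵥ w₀ with hw
  have hfix : φ (E z z) *ᵥ w = w := by rw [hw, Matrix.mulVec_mulVec, ← map_mul]; simp [E]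
  let u : Fin d → (ι → F) := fun a => φ (E a z) *ᵥ w
  have hlu : LinearIndependent F u := by
    rw [Fintype.linearIndependent_iff]
    intro c hc b
    have h1 := congrArg (fun v => φ (E z b) *ᵥ v) hc
    simp only [Matrix.mulVec_sum, Matrix.mulVec_smul, Matrix.mulVec_zero, u, Matrix.mulVec_mulVec, ← map_mul] at h1
    rw [Finset.sum_eq_single b (fun a _ ha => by simp [E, ha.symm]) (fun h => absurd (Finset.mem_univ _) h),
      show E z b * E b z = E z z by simp [E], hfix] at h1
    exact (smul_eq_zero.1 h1).resolve_right hw₀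
  haveI : Nonempty (Fin d) := ⟨z⟩
  let bu : Basis (Fin d) F (ι → F) := basisOfLinearIndependentOfCardEqFinrank hlu
    (by rw [Module.finrank_fintype_fun_eq_card, Fintype.card_fin, hdn])
  let ei : Fin d ≃ ι := (Fintype.equivFinOfCardEq hdn.symm).symm
  refine realisable_of_basis (bu.reindex ei) fun g hg i j => ?_
  obtain ⟨a, ha⟩ : ∃ a, φ a = g.val :=
    ⟨Φ.symm ⟨g, Algebra.subset_adjoin (mem_matrixSet hg)⟩, by simp [φ]⟩
  have hact : g.val *ᵥ (bu.reindex ei) j = ∑ y, ((a y (ei.symm j) : F₀) : F) • bu y := by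
    simp only [Basis.reindex_apply, bu, coe_basisOfLinearIndependentOfCardEqFinrank, u]
    rw [Matrix.mulVec_mulVec, ← ha, ← map_mul, show a * E (ei.symm j) z = ∑ y, a y (ei.symm j) • E y z by
      ext p q
      by_cases hq : q = z
      · subst hq; simp [E, Matrix.sum_apply, Matrix.single_apply]
      · simp [E, Matrix.sum_apply, Matrix.single_apply, Ne.symm hq, hq]]
    simp only [map_sum, map_smul, Matrix.sum_mulVec]
    exact Finset.sum_congr rfl fun y _ => Matrix.smul_mulVec _ _ _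
  rw [hact, Basis.repr_reindex_apply, map_sum, Finset.sum_apply']
  simp only [map_smul, Finsupp.smul_apply, smul_eq_mul, Basis.repr_self, Finsupp.single_apply, mul_ite, mul_one,
    mul_zero, Finset.sum_ite_eq', Finset.mem_univ, if_true]
  exact (a _ _).2

end Cfsg.Lib.Linear.AschGen
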