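import Cfsg.Agent.Lib.Linear.AschGen.Small

/-!
# Monomial groups of degree four over the field with five elements are not maximal

The monomial group of determinant one in dimension four normalises the group of signed translations of
the four coordinates, which is also normalised by a Hadamard matrix.
-/

set_option autoImplicit false
set_option linter.unusedSectionVars false
set_option linter.style.haveILetI false

namespace Cfsg.Lib.Linear.AschGen

open Cfsg.Geo Cfsg.Lib.Linear Cfsg.Lib.Linear.Asch Module
open scoped Matrix MatrixGroups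

/-- The translations of the four coordinates. -/
def shiftFour (k j : Fin 4) : Fin 4 := ![![0, 1, 2, 3], ![1, 0, 3, 2], ![2, 3, 0, 1], ![3, 2, 1, 0]] k j

/-- A translation followed by a diagonal matrix. -/
def shiftMat {R : Type*} [Zero R] (k : Fin 4) (r : Fin 4 → R) : Matrix (Fin 4) (Fin 4) R :=
  Matrix.of fun i j => if i = shiftFour k j then r j else 0

/-- A character of the group of translations. -/
def signVec {R : Type*} [One R] [Neg R] (u v : Bool) : Fin 4 → R :=
  ![1, if u then -1 else 1, if v then -1 else 1, if u == v then 1 else -1]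

/-- The Hadamard matrix of order four. -/
def hadFour (R : Type*) [One R] [Neg R] : Matrix (Fin 4) (Fin 4) R :=
  !![1, 1, 1, 1; 1, -1, 1, -1; 1, 1, -1, -1; 1, -1, -1, 1]

theorem shiftFour_perm : ∀ π : Equiv.Perm (Fin 4), ∀ k, ∃ k', ∀ j, π (shiftFour k j) = shiftFour k' (π j) := by
  decide +kernel

theorem shiftFour_shiftFour : ∀ k j, shiftFour k (shiftFour k j) = j := by decide

theorem hadFour_sq : hadFour ℤ * hadFour ℤ = (4 : ℤ) • (1 : Matrix (Fin 4) (Fin 4) ℤ) := by decide +kernel

theorem det_hadFour : (hadFour ℤ).det = 16 := by decide +kernel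

theorem hadFour_conj : ∀ (k : Fin 4) (u v : Bool), ∃ (k' : Fin 4) (u' v' neg : Bool),
    hadFour ℤ * shiftMat k (signVec u v) =
      (if neg then (-1 : ℤ) else 1) • (shiftMat k' (signVec u' v') * hadFour ℤ) := by
  decide +kernel

theorem sign_rule : ∀ (s : Fin 4 → Bool) (k i j : Fin 4),
    (Bool.xor (Bool.xor (s 0) (s 1)) (Bool.xor (s 2) (s 3))) = false →
      (Bool.xor (s (shiftFour k i)) (s i)) = (Bool.xor (s (shiftFour k j)) (s j)) := by
  decide +kernel

variable {ι : Type} [Fintype ι] [DecidableEq ι] {F : Type*} [Field F] [Fintype F]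

/-- The monomial group in dimension four over five elements is not maximal. -/
theorem lines_five {H : Subgroup (GL ι F)} (hn : Fintype.card ι = 4) (hq : Fintype.card F = 5) {t : ℕ}
    {D : Fin t → Submodule F (ι → F)} (hD : IsMDecomposition 1 D) (hle : H ≤ decompositionStabilizer D)
    (hH : IsMaximalIn (specialLinear ι F) H) : False := by
  classical
  haveI : Nonempty ι := Fintype.card_pos_iff.1 (by omega)
  obtain rfl : t = 4 := by rw [← hn, ← card_eq_of_decomposition hD, mul_one]
  obtain ⟨b, hb⟩ := decomp_gen hD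
  have h5 : (5 : F) = 0 := by
    have := Nat.cast_card_eq_zero F
    rw [hq] at this
    exact_mod_cast this
  have hpow : ∀ c : F, c ≠ 0 → c ^ 4 = 1 := fun c hc => by
    have := FiniteField.pow_card_sub_one_eq_one c hc
    rwa [hq] at this
  have hsign : ∀ c : F, c ≠ 0 → c * c = 1 ∨ c * c = -1 := fun c hc =>
    mul_self_eq_one_iff.1 (by rw [← hpow c hc]; ring)
  let Φ : Matrix (Fin 4) (Fin 4) F ≃ₐ[F] Matrix ι ι F :=
    (LinearMap.toMatrixAlgEquiv b).symm.trans Matrix.toLinAlgEquiv'.symm
  have hΦ : ∀ g : Matrix ι ι F, Φ.symm g = LinearMap.toMatrix b b (Matrix.toLin' g) := fun _ => rfl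
  let ok : (Fin 4 → F) → Prop := fun r => (∀ i j, r i * r i = r j * r j) ∧ ∏ i, r i = 1
  let S : Set (Matrix ι ι F) := {x | ∃ k r, ok r ∧ x = Φ (shiftMat k r)}
  haveI : Finite (Matrix ι ι F) := inferInstanceAs (Finite (ι → ι → F))
  let M : Subgroup (GL ι F) :=
    { carrier := {g | ∀ x ∈ S, conjA g x ∈ S}
      one_mem' := fun x hx => by rwa [conjA_one]
      mul_mem' := fun {g g'} hg hg' x hx => by rw [conjA_mul]; exact hg _ (hg' x hx)
      inv_mem' := fun {g} hg x hx => by
        obtain ⟨⟨y, hy⟩, hyx⟩ := Finite.surjective_of_injective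
          (f := fun y : S => (⟨conjA g y.1, hg y.1 y.2⟩ : S))
          (fun y y' h => Subtype.ext ((conjA g).injective (congrArg Subtype.val h))) ⟨x, hx⟩
        rw [← show conjA g y = x from congrArg Subtype.val hyx, conjA_inv]
        exact hy }
  have hconj : ∀ (g : GL ι F) (G X X' : Matrix (Fin 4) (Fin 4) F), Φ G = g.val → G * X = X' * G →
      conjA g (Φ X) = Φ X' := fun g G X X' hg h => by
    rw [conjA_apply, ← hg, ← map_mul, h, map_mul, hg, mul_assoc, Units.mul_inv, mul_one]
  -- monomial elements
  have hHM : H ≤ M := by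
    intro g hg x hx
    obtain ⟨k, r, ⟨hr2, hrp⟩, rfl⟩ := hx
    obtain ⟨π, ε, hε0, hgb⟩ := decomp_act hb (hle hg)
    let G : Matrix (Fin 4) (Fin 4) F := Matrix.of fun i j => if i = π j then ε j else 0
    have hG : Φ.symm g.val = G := by
      ext i j
      rw [hΦ, LinearMap.toMatrix_apply, Matrix.toLin'_apply, hgb, map_smul, Finsupp.smul_apply, b.repr_self,
        Finsupp.single_apply, smul_eq_mul]
      simp only [G, Matrix.of_apply, eq_comm (a := π j)]
      split_ifs <;> simp
    obtain ⟨k', hk'⟩ := shiftFour_perm π k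
    let r' : Fin 4 → F := fun i => ε (shiftFour k (π.symm i)) * r (π.symm i) * (ε (π.symm i))⁻¹
    have hprodε : (∏ i, ε i) * ∏ i, ε i = 1 := by
      have h1 : G = (Matrix.diagonal ε).submatrix π.symm id := by
        ext i j
        simp only [G, Matrix.of_apply, Matrix.submatrix_apply, Matrix.diagonal_apply, id, Equiv.symm_apply_eq]
        split_ifs with h
        · rw [h, Equiv.symm_apply_apply]
        · rfl
      have h2 : G.det = 1 := by
        rw [← hG, hΦ, LinearMap.det_toMatrix, LinearMap.det_toLin']
        have := congrArg Units.val (MonoidHom.mem_ker.1 (hH.1.le hg))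
        rw [Units.val_one] at this
        exact this
      rw [h1, Matrix.det_permute, Matrix.det_diagonal] at h2
      rcases Int.units_eq_one_or (Equiv.Perm.sign π.symm) with hs | hs <;> rw [hs] at h2 <;> simp at h2
      · rw [h2, one_mul]
      · linear_combination (1 - ∏ i, ε i) * h2
    have hok : ok r' := by
      refine ⟨?_, ?_⟩
      · suffices h : ∀ i j, ε (shiftFour k i) * ε (shiftFour k i) * (ε i * ε i) =
            ε (shiftFour k j) * ε (shiftFour k j) * (ε j * ε j) by
          intro i j
          have hinv : ∀ i, (ε i)⁻¹ * (ε i)⁻¹ = ε i * ε i := fun i => by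
            rcases hsign _ (hε0 i) with h | h
            · rw [← mul_inv, h, inv_one]
            · rw [← mul_inv, h, inv_neg, inv_one]
          calc r' i * r' i = (ε (shiftFour k (π.symm i)) * ε (shiftFour k (π.symm i)) *
                ((ε (π.symm i))⁻¹ * (ε (π.symm i))⁻¹)) * (r (π.symm i) * r (π.symm i)) := by simp only [r']; ring
            _ = (ε (shiftFour k (π.symm j)) * ε (shiftFour k (π.symm j)) *
                ((ε (π.symm j))⁻¹ * (ε (π.symm j))⁻¹)) * (r (π.symm j) * r (π.symm j)) := by
                rw [hinv, hinv, h _ (π.symm j), hr2 _ (π.symm j)]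
            _ = r' j * r' j := by simp only [r']; ring
        let s : Fin 4 → Bool := fun i => decide (ε i * ε i = -1)
        let val : Bool → F := fun c => if c then -1 else 1
        have hval : ∀ i, ε i * ε i = val (s i) := fun i => by
          by_cases h : ε i * ε i = -1
          · simp [s, val, h]
          · simp [s, val, h, (hsign _ (hε0 i)).resolve_right h]
        have hxor : ∀ c d, val c * val d = val (Bool.xor c d) := by rintro (_ | _) (_ | _) <;> simp [val]
        intro i j
        simp only [hval, hxor]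
        refine congrArg val (sign_rule s k i j ?_)
        have h1 : val (Bool.xor (Bool.xor (s 0) (s 1)) (Bool.xor (s 2) (s 3))) = 1 := by
          simp only [← hxor, ← hval]
          rw [Fin.prod_univ_four] at hprodε
          linear_combination hprodε
        generalize Bool.xor (Bool.xor (s 0) (s 1)) (Bool.xor (s 2) (s 3)) = c at h1
        cases c
        · rfl
        · exfalso
          simp only [val, if_true] at h1
          exact one_ne_zero (show (1 : F) = 0 by linear_combination 2 * h1 + h5)
      · simp only [r', Finset.prod_mul_distrib, Finset.prod_inv_distrib]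
        rw [Equiv.prod_comp π.symm r, hrp, mul_one, Equiv.prod_comp π.symm ε,
          Equiv.prod_comp π.symm (fun i => ε (shiftFour k i)),
          show (∏ i, ε (shiftFour k i)) = ∏ i, ε i from
            Equiv.prod_comp (Function.Involutive.toPerm (shiftFour k) (shiftFour_shiftFour k)) ε,
          mul_inv_cancel₀ (Finset.prod_ne_zero_iff.2 fun i _ => hε0 i)]
    refine ⟨k', r', hok, hconj g G _ _ (by rw [← hG, Φ.apply_symm_apply]) ?_⟩
    ext i j
    rw [Matrix.mul_apply, Matrix.mul_apply, Finset.sum_eq_single (shiftFour k j) (fun l _ hl => by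
        simp [shiftMat, hl]) (fun h => absurd (Finset.mem_univ _) h),
      Finset.sum_eq_single (π j) (fun l _ hl => by simp [G, hl]) (fun h => absurd (Finset.mem_univ _) h)]
    simp only [G, shiftMat, Matrix.of_apply, hk', r', Equiv.symm_apply_apply, if_true]
    by_cases hi : i = shiftFour k' (π j)
    · rw [if_pos hi, if_pos hi]
      field_simp [hε0]
    · rw [if_neg hi, if_neg hi, zero_mul, zero_mul]
  -- the Hadamard element
  let f : ℤ →+* F := Int.castRingHom F
  let W : Matrix (Fin 4) (Fin 4) F := (hadFour ℤ).map f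
  have hWW : W * W = (4 : F) • (1 : Matrix (Fin 4) (Fin 4) F) := by
    simp only [W, ← Matrix.map_mul, hadFour_sq]
    ext i j
    rw [Matrix.map_apply, Matrix.smul_apply, Matrix.smul_apply, Matrix.one_apply, Matrix.one_apply]
    split_ifs <;> simp [f]
  have h44 : (4 : F) * (4 : F) = 1 := by linear_combination 3 * h5
  let w : GL ι F := ⟨Φ W, Φ ((4 : F) • W),
    by rw [← map_mul, Matrix.mul_smul, hWW, smul_smul, h44, one_smul, map_one],
    by rw [← map_mul, Matrix.smul_mul, hWW, smul_smul, h44, one_smul, map_one]⟩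
  have hwSL : w ∈ specialLinear ι F := by
    rw [specialLinear, MonoidHom.mem_ker]
    refine Units.ext ?_
    show (Φ W).det = 1
    rw [← LinearMap.det_toLin', ← LinearMap.det_toMatrix b, ← hΦ, Φ.symm_apply_apply]
    show ((hadFour ℤ).map f).det = 1
    rw [← RingHom.mapMatrix_apply, ← RingHom.map_det, det_hadFour]
    show ((16 : ℤ) : F) = 1
    push_cast
    linear_combination 3 * h5
  have hwM : w ∈ M := by
    intro x hx
    obtain ⟨k, r, ⟨hr2, hrp⟩, rfl⟩ := hx
    have hr0 : r 0 ≠ 0 := fun h => zero_ne_one (α := F) (by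
      rw [← hrp, Finset.prod_eq_zero (Finset.mem_univ 0) h])
    obtain ⟨u, hu⟩ : ∃ u : Bool, r 1 = r 0 * (if u then -1 else 1) := by
      rcases mul_self_eq_mul_self_iff.1 (hr2 1 0) with h | h
      · exact ⟨false, by simp [h]⟩
      · exact ⟨true, by simp [h]⟩
    obtain ⟨v, hv⟩ : ∃ v : Bool, r 2 = r 0 * (if v then -1 else 1) := by
      rcases mul_self_eq_mul_self_iff.1 (hr2 2 0) with h | h
      · exact ⟨false, by simp [h]⟩
      · exact ⟨true, by simp [h]⟩
    have h3 : r 3 = r 0 * (if u == v then 1 else -1) := by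
      rw [Fin.prod_univ_four, hu, hv] at hrp
      have h4 := hpow _ hr0
      cases u <;> cases v <;> simp at hrp ⊢
      all_goals first
        | linear_combination (r 0) * hrp - (r 3) * h4
        | linear_combination -(r 0) * hrp - (r 3) * h4
    have hx : shiftMat k r = r 0 • (shiftMat k (signVec u v)).map f := by
      ext i j
      simp only [shiftMat, Matrix.of_apply, Matrix.smul_apply, Matrix.map_apply, smul_eq_mul]
      split_ifs with h
      · fin_cases j <;> simp [signVec, f, hu, hv, h3] <;> split_ifs <;> simp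
      · simp [f]
    obtain ⟨k', u', v', neg, hW⟩ := hadFour_conj k u v
    set e : F := if neg then -1 else 1 with he
    refine ⟨k', fun j => r 0 * e * f (signVec u' v' j), ⟨fun i j => ?_, ?_⟩, hconj w W _ _ rfl ?_⟩
    · have hsq : ∀ i, f (signVec u' v' i) * f (signVec u' v' i) = 1 := fun i => by
        cases u' <;> cases v' <;> fin_cases i <;> simp [signVec, f]
      linear_combination (r 0 * e) * (r 0 * e) * hsq i - (r 0 * e) * (r 0 * e) * hsq j
    · rw [Finset.prod_mul_distrib, Finset.prod_const, Finset.card_univ, Fintype.card_fin, mul_pow, hpow _ hr0,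
        one_mul, Fin.prod_univ_four]
      cases u' <;> cases v' <;> cases neg <;> simp [signVec, f, he] <;> norm_num
    · have h1 : (shiftMat k' fun j => r 0 * e * f (signVec u' v' j)) =
          (r 0 * e) • (shiftMat k' (signVec u' v')).map f := by
        ext i j
        simp only [shiftMat, Matrix.of_apply, Matrix.smul_apply, Matrix.map_apply, smul_eq_mul]
        split_ifs <;> simp
      rw [hx, h1, Matrix.mul_smul, Matrix.smul_mul, ← smul_smul]
      congr 1
      simp only [W, ← Matrix.map_mul, hW]
      ext i j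
      cases neg <;> simp [he, f]
  have hwH : w ∉ H := fun hw => by
    obtain ⟨π, ε, -, hwb⟩ := decomp_act hb (hle hw)
    have h1 : ∀ i, W i 0 = if π 0 = i then ε 0 else 0 := fun i => by
      rw [← Φ.symm_apply_apply W, hΦ, LinearMap.toMatrix_apply, Matrix.toLin'_apply]
      show b.repr (w.val *ᵥ b 0) i = _
      rw [hwb, map_smul, Finsupp.smul_apply, b.repr_self, Finsupp.single_apply, smul_eq_mul]
      split_ifs <;> simp
    by_cases h0 : π 0 = 0
    · have h2 := h1 1
      rw [if_neg (by rw [h0]; decide)] at h2
      simp [W, hadFour, f] at h2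
    · have h2 := h1 0
      rw [if_neg h0] at h2
      simp [W, hadFour, f] at h2
  rcases hH.2 (M ⊓ specialLinear ι F) (le_inf hHM hH.1.le) inf_le_right with h | h
  · exact hwH (h ▸ ⟨hwM, hwSL⟩)
  · let X : Finset (Matrix ι ι F) := (Finset.univ : Finset (Fin 4 × F × Bool × Bool)).image fun p =>
      Φ (shiftMat p.1 ![p.2.1, if p.2.2.1 then -p.2.1 else p.2.1, if p.2.2.2 then -p.2.1 else p.2.1,
        (p.2.1 * (if p.2.2.1 then -p.2.1 else p.2.1) * (if p.2.2.2 then -p.2.1 else p.2.1))⁻¹])
    have hk : ∀ c : F, Φ (shiftMat 1 (fun _ => (1 : F))) ≠ c • 1 := fun c hc => by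
      rw [← map_one Φ, ← map_smul] at hc
      have := congrFun (congrFun (Φ.injective hc) 1) 0
      simp [shiftMat, shiftFour] at this
    have hX := card_conjInvariant (X := X) hk fun g hg => by
      obtain ⟨k, r, ⟨hr2, hrp⟩, he⟩ := (inf_eq_right.1 h hg) _ ⟨1, fun _ => 1, ⟨fun _ _ => rfl, by simp⟩, rfl⟩
      refine Finset.mem_image.2 ⟨(k, r 0, decide (r 1 ≠ r 0), decide (r 2 ≠ r 0)), Finset.mem_univ _, ?_⟩
      rw [show g.val * _ * (g⁻¹).val = _ from he]
      congr 2
      have e1 : ∀ i, (if decide (r i ≠ r 0) then -r 0 else r 0) = r i := fun i => by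
        rcases eq_or_ne (r i) (r 0) with hi | hi
        · simp [hi]
        · rw [decide_eq_true hi, if_pos rfl, ← (mul_self_eq_mul_self_iff.1 (hr2 i 0)).resolve_left hi]
      simp only [e1]
      have e3 : r 3 = (r 0 * r 1 * r 2)⁻¹ := by
        rw [Fin.prod_univ_four] at hrp
        exact (inv_eq_of_mul_eq_one_right hrp).symm
      rw [← e3]
      ext i
      fin_cases i <;> rfl
    have hc : X.card ≤ 80 := Finset.card_image_le.trans (by simp [hq])
    rw [hn, hq] at hX
    omega

end Cfsg.Lib.Linear.AschGen
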