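import Cfsg.Agent.Lib.Linear.AschGen.Core
import Cfsg.Agent.Lib.Linear.Aschbacher.Linear

/-!
# Forms given by a Gram matrix
-/

set_option autoImplicit false
set_option linter.unusedSectionVars false
set_option linter.style.haveILetI false

namespace Cfsg.Lib.Linear.AschGen

open Cfsg.Geo Cfsg.Lib.Linear.Asch Module
open scoped Matrix MatrixGroups

variable {ι : Type} [Fintype ι] [DecidableEq ι] {F : Type*} [Field F]

/-- The form with Gram matrix `G`, semilinear in the second argument. -/
def gramForm (σ : F ≃+* F) (G : Matrix ι ι F) (u v : ι → F) : F := u ⬝ᵥ G *ᵥ (σ ∘ v)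

variable {σ : F ≃+* F} {G : Matrix ι ι F}

theorem gramForm_act (g : Matrix ι ι F) (u v : ι → F) :
    gramForm σ G (g *ᵥ u) (g *ᵥ v) = u ⬝ᵥ (gᵀ * G * g.map σ) *ᵥ (σ ∘ v) := by
  rw [gramForm, map_mulVec', Matrix.mulVec_mulVec, ← Matrix.vecMul_transpose, ← Matrix.dotProduct_mulVec,
    Matrix.mulVec_mulVec, Matrix.mul_assoc]

theorem isSesq_gramForm (hG : IsUnit G.det) : IsSesq σ (gramForm σ G) where
  add_left x y v := by simp [gramForm, add_dotProduct]
  smul_left c x v := by simp [gramForm, smul_dotProduct]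
  add_right v x y := by
    simp only [gramForm]
    rw [show σ ∘ (x + y) = σ ∘ x + σ ∘ y from funext fun i => map_add σ _ _, Matrix.mulVec_add, dotProduct_add]
  smul_right c v x := by
    simp only [gramForm]
    rw [show σ ∘ (c • x) = σ c • (σ ∘ x) from funext fun i => map_mul σ _ _, Matrix.mulVec_smul, dotProduct_smul,
      smul_eq_mul]
  nondeg v hv := by
    have h0 : G *ᵥ (σ ∘ v) ≠ 0 := fun h => by
      have h1 := congrArg (fun w => G⁻¹ *ᵥ w) h
      simp only [Matrix.mulVec_mulVec, Matrix.nonsing_inv_mul _ hG, Matrix.one_mulVec, Matrix.mulVec_zero] at h1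
      exact hv (funext fun i => σ.injective (by simpa using congrFun h1 i))
    obtain ⟨i, hi⟩ := Function.ne_iff.1 h0
    exact ⟨Pi.single i 1, by simpa [gramForm] using hi⟩

theorem gramForm_herm (hinv : ∀ a, σ (σ a) = a) (hG : (G.map σ)ᵀ = G) (v w : ι → F) :
    gramForm σ G v w = σ (gramForm σ G w v) := by
  conv_lhs => rw [← hG]
  simp only [gramForm, dotProduct, Matrix.mulVec, Matrix.transpose_apply, Matrix.map_apply, Function.comp_apply,
    map_sum, map_mul, Finset.mul_sum, hinv]
  rw [Finset.sum_comm]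
  exact Finset.sum_congr rfl fun i _ => Finset.sum_congr rfl fun j _ => by ring

theorem nondeg_gramForm (hG : IsUnit G.det) (hsw : ∀ v w, gramForm σ G v w = 0 → gramForm σ G w v = 0) :
    IsNondegenerateForm (gramForm σ G) := fun v hv => by
  obtain ⟨x, hx⟩ := (isSesq_gramForm hG).nondeg v hv
  exact ⟨⟨x, hx⟩, ⟨x, fun h => hx (hsw _ _ h)⟩⟩

theorem isUnitaryForm_gram (hne : σ ≠ RingEquiv.refl F) (hinv : ∀ a, σ (σ a) = a) (hG : IsUnit G.det)
    (hH : (G.map σ)ᵀ = G) : IsUnitaryForm σ (gramForm σ G) where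
  ne_refl := hne
  involutive := hinv
  add_left := (isSesq_gramForm hG).add_left
  smul_left := (isSesq_gramForm hG).smul_left
  herm := gramForm_herm hinv hH
  nondegenerate := nondeg_gramForm hG fun v w h => by rw [gramForm_herm hinv hH, h, map_zero]

theorem isBilinearForm_gram (hG : IsUnit G.det) : IsBilinearForm (gramForm (RingEquiv.refl F) G) where
  add_left := (isSesq_gramForm hG).add_left
  smul_left := (isSesq_gramForm hG).smul_left
  add_right := (isSesq_gramForm hG).add_right
  smul_right := fun c v x => (isSesq_gramForm hG).smul_right c v x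

theorem gramForm_swap {ε : F} (hG : Gᵀ = ε • G) (v w : ι → F) :
    gramForm (RingEquiv.refl F) G w v = ε * gramForm (RingEquiv.refl F) G v w := by
  simp only [gramForm]
  show w ⬝ᵥ G *ᵥ v = ε * (v ⬝ᵥ G *ᵥ w)
  rw [Matrix.dotProduct_mulVec, dotProduct_comm, ← Matrix.mulVec_transpose, hG, Matrix.smul_mulVec, dotProduct_smul,
    smul_eq_mul]

theorem alternating_gram (hG : Gᵀ = -G) (hd : ∀ i, G i i = 0) (v : ι → F) :
    gramForm (RingEquiv.refl F) G v v = 0 := by
  show v ⬝ᵥ G *ᵥ v = 0
  simp only [dotProduct, Matrix.mulVec, Finset.mul_sum]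
  rw [← Finset.sum_product']
  have hsk : ∀ i j, G j i = - G i j := fun i j => by
    simpa using congrFun (congrFun hG i) j
  refine Finset.sum_involution (fun p _ => (p.2, p.1)) (fun p _ => ?_) (fun p _ hp e => hp ?_)
    (fun p _ => Finset.mem_product.2 ⟨Finset.mem_univ _, Finset.mem_univ _⟩) (fun p _ => rfl)
  · dsimp only
    rw [hsk p.1 p.2]
    ring
  · have h1 : p.2 = p.1 := congrArg Prod.fst e
    rw [h1, hd, zero_mul, mul_zero]

theorem isSymplecticForm_gram (hu : IsUnit G.det) (hG : Gᵀ = -G) (hd : ∀ i, G i i = 0) :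
    IsSymplecticForm (gramForm (RingEquiv.refl F) G) where
  bilinear := isBilinearForm_gram hu
  skew v w := by
    have h := gramForm_swap (ε := -1) (by rw [hG, neg_one_smul]) w v
    rw [h, neg_one_mul]
  alternating := alternating_gram hG hd
  nondegenerate := nondeg_gramForm hu fun v w h => by
    rw [gramForm_swap (ε := -1) (by rw [hG, neg_one_smul]) v w, h, mul_zero]

theorem quad_gram [Fintype F] (hu : IsUnit G.det) (h2 : (2 : F) ≠ 0) (hG : Gᵀ = G) :
    ∃ Q, IsNondegenerateQuadraticForm Q ∧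
      similarityGroup (gramForm (RingEquiv.refl F) G) ≤ quadSimilarityGroup Q := by
  set f := gramForm (RingEquiv.refl F) G with hf
  have hb : IsBilinearForm f := isBilinearForm_gram hu
  have hsym : ∀ v w, f w v = f v w := fun v w => by
    rw [hf, gramForm_swap (ε := 1) (by rw [hG, one_smul]) v w, one_mul]
  have hpolar : QuadraticMap.polar (fun v => f v v) = fun v w => 2 * f v w := by
    funext v w
    show f (v + w) (v + w) - f v v - f w w = _
    rw [hb.add_left, hb.add_right, hb.add_right, hsym v w]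
    ring
  refine ⟨fun v => f v v, ⟨fun c v => ?_, ?_, ?_⟩, fun g ⟨c, hc⟩ => ⟨c, fun v => hc v v⟩⟩
  · show f (c • v) (c • v) = _
    rw [hb.smul_left, hb.smul_right]
    ring
  · rw [hpolar]
    exact ⟨fun x y v => by rw [hb.add_left, mul_add], fun c x v => by rw [hb.smul_left]; ring,
      fun v x y => by rw [hb.add_right, mul_add], fun c v x => by rw [hb.smul_right]; ring⟩
  · rw [hpolar]
    intro v hv
    obtain ⟨x, hx⟩ := (isSesq_gramForm hu).nondeg v hv
    exact ⟨⟨x, mul_ne_zero h2 hx⟩, ⟨x, mul_ne_zero h2 (by rw [hsym x v]; exact hx)⟩⟩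

end Cfsg.Lib.Linear.AschGen
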