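import Cfsg.Agent.Lib.Linear.AschGen.Alg

/-!
# A matrix subalgebra is a tensor factor

An injective homomorphism of a full matrix algebra into another one is, in a suitable basis, the
embedding as left Kronecker factor; its normaliser is the stabiliser of that tensor decomposition.
-/

set_option autoImplicit false
set_option linter.unusedSectionVars false
set_option linter.style.haveILetI false

namespace Cfsg.Lib.Linear.AschGen

open Cfsg.Geo Cfsg.Lib.Linear.Asch Module
open scoped Matrix MatrixGroups Kronecker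

variable {ι : Type} [Fintype ι] [DecidableEq ι] {F : Type*} [Field F]

/-- An automorphism of a full matrix algebra is a conjugation. -/
theorem exists_conjA {κ : Type} [Fintype κ] [DecidableEq κ] (φ : Matrix κ κ F ≃ₐ[F] Matrix κ κ F) :
    ∃ a : GL κ F, ∀ X, φ X = conjA a X := by
  let τ : Matrix κ κ F ≃ₐ[F] Module.End F (κ → F) := Matrix.toLinAlgEquiv'
  obtain ⟨T, hT⟩ := AlgEquiv.eq_linearEquivConjAlgEquiv ((τ.symm.trans φ).trans τ)
  let M := LinearMap.toMatrix' T.toLinearMap
  let M' := LinearMap.toMatrix' T.symm.toLinearMap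
  have h1 : M * M' = 1 := by rw [← LinearMap.toMatrix'_comp, LinearEquiv.comp_coe, T.symm_trans_self]; simp
  have h2 : M' * M = 1 := by rw [← LinearMap.toMatrix'_comp, LinearEquiv.comp_coe, T.self_trans_symm]; simp
  refine ⟨⟨M, M', h1, h2⟩, fun X => τ.injective ?_⟩
  have h3 := AlgEquiv.congr_fun hT (τ X)
  simp only [AlgEquiv.trans_apply, AlgEquiv.symm_apply_apply, LinearEquiv.conjAlgEquiv_apply] at h3
  rw [h3, conjA_apply]
  refine LinearMap.ext fun v => ?_
  simp [τ, M, M', map_mul, ← Matrix.mulVec_mulVec, LinearMap.toMatrix'_mulVec]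

/-- Two factors multiplied in the basis given by `e` and `P`. -/
def tensMat {d k : ℕ} (e : ι ≃ Fin d × Fin k) (P : GL ι F) (a : Matrix (Fin d) (Fin d) F)
    (b : Matrix (Fin k) (Fin k) F) : Matrix ι ι F :=
  conjA P ((a ⊗ₖ b).submatrix e e)

variable {d k : ℕ} {e : ι ≃ Fin d × Fin k} {P : GL ι F}

theorem tensMat_mul (a a' : Matrix (Fin d) (Fin d) F) (b b' : Matrix (Fin k) (Fin k) F) :
    tensMat e P a b * tensMat e P a' b' = tensMat e P (a * a') (b * b') := by
  rw [tensMat, tensMat, tensMat, ← map_mul, Matrix.submatrix_mul_equiv, ← Matrix.mul_kronecker_mul]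

theorem tensMat_one : tensMat e P (1 : Matrix (Fin d) (Fin d) F) (1 : Matrix (Fin k) (Fin k) F) = 1 := by
  rw [tensMat, Matrix.one_kronecker_one, Matrix.submatrix_one_equiv, map_one]

theorem mem_tensorProductSubgroup_iff {g : GL ι F} :
    g ∈ tensorProductSubgroup d k e P ↔
      ∃ (a : GL (Fin d) F) (b : GL (Fin k) F), g.val = tensMat e P a.val b.val := by
  constructor
  · rintro ⟨_, ⟨x, ⟨a, b, hx⟩, rfl⟩, rfl⟩
    refine ⟨a, b, ?_⟩
    show P.val * ((glReindex e.symm) x).val * (P⁻¹).val = _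
    rw [tensMat, conjA_apply, ← hx]
    rfl
  · rintro ⟨a, b, hg⟩
    let x : GL (Fin d × Fin k) F := ⟨a.val ⊗ₖ b.val, (a⁻¹).val ⊗ₖ (b⁻¹).val,
      by rw [← Matrix.mul_kronecker_mul, Units.mul_inv, Units.mul_inv, Matrix.one_kronecker_one],
      by rw [← Matrix.mul_kronecker_mul, Units.inv_mul, Units.inv_mul, Matrix.one_kronecker_one]⟩
    refine ⟨_, ⟨x, ⟨a, b, rfl⟩, rfl⟩, Units.ext ?_⟩
    rw [hg]
    rfl

theorem tensorProductSubgroup_swap :
    tensorProductSubgroup d k e P ≤ tensorProductSubgroup k d (e.trans (Equiv.prodComm _ _)) P := by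
  intro g hg
  obtain ⟨a, b, hg⟩ := mem_tensorProductSubgroup_iff.1 hg
  refine mem_tensorProductSubgroup_iff.2 ⟨b, a, ?_⟩
  rw [hg, tensMat, tensMat]
  congr 1
  ext i j
  simp [Matrix.kroneckerMap_apply, mul_comm]

/-- An injective homomorphism of a matrix algebra is a left Kronecker factor in some basis. -/
theorem exists_tensMat {d : ℕ} (hd : 0 < d) (f : Matrix (Fin d) (Fin d) F →ₐ[F] Matrix ι ι F) :
    ∃ (k : ℕ) (e : ι ≃ Fin d × Fin k) (P : GL ι F), ∀ a, f a = tensMat e P a 1 := by
  classical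
  let z : Fin d := ⟨0, hd⟩
  let E : Fin d → Fin d → Matrix (Fin d) (Fin d) F := fun a b => Matrix.single a b 1
  have hEE : ∀ a b c, E a b * E b c = E a c := fun a b c => by simp [E]
  have hEE0 : ∀ a b b' c, b ≠ b' → E a b * E b' c = 0 := fun a b b' c h => by simp [E, h]
  let W := LinearMap.range (Matrix.toLin' (f (E z z)))
  have hW : ∀ a v, f (E z a) *ᵥ v ∈ W := fun a v =>
    ⟨f (E z a) *ᵥ v, by rw [Matrix.toLin'_apply, Matrix.mulVec_mulVec, ← map_mul, hEE]⟩
  have hWfix : ∀ w ∈ W, f (E z z) *ᵥ w = w := by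
    rintro _ ⟨v, rfl⟩
    rw [Matrix.toLin'_apply, Matrix.mulVec_mulVec, ← map_mul, hEE]
  let k := finrank F W
  let b₀ := Module.finBasis F W
  let B : Fin d × Fin k → (ι → F) := fun p => f (E p.1 z) *ᵥ (b₀ p.2 : ι → F)
  have hli : LinearIndependent F B := by
    rw [Fintype.linearIndependent_iff]
    intro c hc p
    have h1 := congrArg (fun v => f (E z p.1) *ᵥ v) hc
    simp only [Matrix.mulVec_sum, Matrix.mulVec_smul, Matrix.mulVec_zero, B, Matrix.mulVec_mulVec,
      ← map_mul] at h1
    rw [Fintype.sum_prod_type, Finset.sum_eq_single p.1 (fun a _ ha => Finset.sum_eq_zero fun l _ => by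
      rw [hEE0 _ _ _ _ ha.symm, map_zero, Matrix.zero_mulVec, smul_zero])
      (fun h => absurd (Finset.mem_univ _) h)] at h1
    simp only [hEE, hWfix _ (b₀ _).2] at h1
    have h2 : ∑ l, c (p.1, l) • b₀ l = 0 := Subtype.ext (by simpa using h1)
    exact Fintype.linearIndependent_iff.1 b₀.linearIndependent _ h2 p.2
  have hspan : ⊤ ≤ Submodule.span F (Set.range B) := by
    intro v _
    have hsum : (∑ a, f (E a a)) = 1 := by
      rw [← map_sum, show (∑ a, E a a) = 1 by
        ext i j
        rw [Matrix.sum_apply]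
        by_cases h : i = j
        · subst h; simp [E, Matrix.single_apply]
        · rw [Matrix.one_apply_ne h]
          exact Finset.sum_eq_zero fun x _ => if_neg (by rintro ⟨rfl, rfl⟩; exact h rfl), map_one]
    rw [← Matrix.one_mulVec v, ← hsum, Matrix.sum_mulVec]
    refine Submodule.sum_mem _ fun a _ => ?_
    rw [← hEE a z a, map_mul, ← Matrix.mulVec_mulVec]
    have h1 := congrArg Subtype.val (b₀.sum_repr ⟨_, hW a v⟩)
    simp only [AddSubmonoidClass.coe_finsetSum, Submodule.coe_smul] at h1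
    rw [← h1, Matrix.mulVec_sum]
    refine Submodule.sum_mem _ fun l _ => ?_
    rw [Matrix.mulVec_smul]
    exact Submodule.smul_mem _ _ (Submodule.subset_span ⟨(a, l), rfl⟩)
  let bB := Basis.mk hli hspan
  let e : ι ≃ Fin d × Fin k := (Pi.basisFun F ι).indexEquiv bB
  let bC : Basis ι F (ι → F) := bB.reindex e.symm
  have hbC : ∀ i, bC i = B (e i) := fun i => by simp [bC, bB]
  let M : Matrix ι ι F := (Pi.basisFun F ι).toMatrix bC
  let M' : Matrix ι ι F := bC.toMatrix (Pi.basisFun F ι)
  let P : GL ι F := ⟨M, M', Basis.toMatrix_mul_toMatrix_flip _ _, Basis.toMatrix_mul_toMatrix_flip _ _⟩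
  have hcol : ∀ j i, P.val j i = B (e i) j := fun j i => by
    show M j i = _
    simp [M, Basis.toMatrix_apply, hbC]
  refine ⟨k, e, P, fun a => ?_⟩
  have key : f a * P.val = P.val * (a ⊗ₖ (1 : Matrix (Fin k) (Fin k) F)).submatrix e e := by
    refine Matrix.ext_of_mulVec_single fun i => ?_
    rw [← Matrix.mulVec_mulVec, ← Matrix.mulVec_mulVec, Matrix.mulVec_single_one, Matrix.mulVec_single_one]
    have hP : ∀ u : ι → F, P.val *ᵥ u = ∑ j, u j • B (e j) := fun u => by
      funext x
      simp only [Matrix.mulVec, dotProduct, hcol, Finset.sum_apply, Pi.smul_apply, smul_eq_mul]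
      exact Finset.sum_congr rfl fun j _ => mul_comm _ _
    rw [hP, show P.val.col i = B (e i) from funext fun j => hcol j i]
    refine Eq.trans ?_ (Equiv.sum_comp e (fun p => (a ⊗ₖ (1 : Matrix (Fin k) (Fin k) F)) p (e i) • B p)).symm
    rw [Fintype.sum_prod_type, Finset.sum_congr rfl fun y _ => show _ = a y (e i).1 • B (y, (e i).2) from ?_]
    · simp only [B]
      rw [Matrix.mulVec_mulVec, ← map_mul, show a * E (e i).1 z = ∑ y, a y (e i).1 • E y z by
        ext p q
        by_cases hq : q = z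
        · subst hq; simp [E, Matrix.sum_apply, Matrix.single_apply]
        · simp [E, Matrix.sum_apply, Matrix.single_apply, Ne.symm hq, hq]]
      simp only [map_sum, map_smul, Matrix.sum_mulVec, Matrix.smul_mulVec]
    · rw [Finset.sum_eq_single (e i).2 (fun l _ hl => by simp [Matrix.one_apply, hl])
        (fun h => absurd (Finset.mem_univ _) h)]
      simp [B, Matrix.kroneckerMap_apply]
  rw [tensMat, conjA_apply, ← key, mul_assoc, Units.mul_inv, mul_one]

theorem tensMat_centralizer {g : Matrix (Fin d × Fin k) (Fin d × Fin k) F} (hd : 0 < d)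
    (hg : ∀ a : Matrix (Fin d) (Fin d) F, g * (a ⊗ₖ (1 : Matrix (Fin k) (Fin k) F)) = (a ⊗ₖ 1) * g) :
    ∃ b : Matrix (Fin k) (Fin k) F, g = (1 : Matrix (Fin d) (Fin d) F) ⊗ₖ b := by
  let z : Fin d := ⟨0, hd⟩
  refine ⟨Matrix.of fun l m => g (z, l) (z, m), Matrix.ext fun p q => ?_⟩
  obtain ⟨y, l⟩ := p
  obtain ⟨x, m⟩ := q
  have h1 := congrFun (congrFun (hg (Matrix.single x z 1)) (y, l)) (z, m)
  simp [Matrix.mul_apply, Matrix.kroneckerMap_apply, Matrix.single_apply, Matrix.one_apply,
    Fintype.sum_prod_type] at h1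
  simp only [Matrix.kroneckerMap_apply, Matrix.one_apply, Matrix.of_apply]
  rw [h1]
  by_cases hxy : y = x <;> simp [hxy, Ne.symm, eq_comm]

/-- An element normalising the range of a left Kronecker factor stabilises the tensor decomposition. -/
theorem mem_tensorProductSubgroup_of_conj (hd : 0 < d) (hk : 0 < k) {h : GL ι F}
    (hc : ∀ a, ∃ a', conjA h (tensMat e P a 1) = tensMat e P a' 1) : h ∈ tensorProductSubgroup d k e P := by
  classical
  haveI : Nonempty (Fin d) := ⟨⟨0, hd⟩⟩
  haveI : Nonempty (Fin k) := ⟨⟨0, hk⟩⟩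
  have hinj : Function.Injective fun a : Matrix (Fin d) (Fin d) F => tensMat e P a 1 := fun a a' h => by
    ext i j
    have h1 := congrFun (congrFun ((conjA P).injective h) (e.symm (i, ⟨0, hk⟩))) (e.symm (j, ⟨0, hk⟩))
    simpa using h1
  choose φ hφ using hc
  have hmul : ∀ a b, φ (a * b) = φ a * φ b := fun a b => hinj (by
    simp only
    rw [← hφ, ← one_mul (1 : Matrix (Fin k) (Fin k) F), ← tensMat_mul, map_mul, hφ, hφ, tensMat_mul, one_mul])
  have hadd : ∀ a b, φ (a + b) = φ a + φ b := fun a b => hinj (by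
    have ha : ∀ x y, tensMat e P (x + y) (1 : Matrix (Fin k) (Fin k) F) = tensMat e P x 1 + tensMat e P y 1 :=
      fun x y => by simp only [tensMat, Matrix.add_kronecker, Matrix.submatrix_add, Pi.add_apply, map_add]
    simp only
    rw [← hφ, ha, map_add, hφ, hφ, ha])
  have hsm : ∀ (c : F) a, φ (c • a) = c • φ a := fun c a => hinj (by
    have ha : ∀ x, tensMat e P (c • x) (1 : Matrix (Fin k) (Fin k) F) = c • tensMat e P x 1 :=
      fun x => by simp only [tensMat, Matrix.smul_kronecker, Matrix.submatrix_smul, Pi.smul_apply, map_smul]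
    simp only
    rw [← hφ, ha, map_smul, hφ, ha])
  have hone : φ 1 = 1 := hinj (by simp only; rw [← hφ, tensMat_one, map_one])
  let L : Matrix (Fin d) (Fin d) F →ₗ[F] Matrix (Fin d) (Fin d) F :=
    { toFun := φ, map_add' := hadd, map_smul' := hsm }
  let Φ : Matrix (Fin d) (Fin d) F →ₐ[F] Matrix (Fin d) (Fin d) F := AlgHom.ofLinearMap L hone hmul
  have hΦinj : Function.Injective Φ := fun a b hab => hinj ((conjA h).injective (by rw [hφ, hφ]; exact congrArg (fun x => tensMat e P x 1) hab))
  obtain ⟨a, ha⟩ := exists_conjA (AlgEquiv.ofBijective Φ ⟨hΦinj, LinearMap.surjective_of_injective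
    (f := Φ.toLinearMap) hΦinj⟩)
  let A : GL ι F := ⟨tensMat e P (a⁻¹).val 1, tensMat e P a.val 1,
    by rw [tensMat_mul, Units.inv_mul, one_mul, tensMat_one], by rw [tensMat_mul, Units.mul_inv, one_mul, tensMat_one]⟩
  have hcomm : ∀ x, conjA (A * h) (tensMat e P x 1) = tensMat e P x 1 := fun x => by
    rw [conjA_mul, hφ, conjA_apply]
    show tensMat e P (a⁻¹).val 1 * _ * tensMat e P a.val 1 = _
    rw [show φ x = conjA a x from ha x, tensMat_mul, tensMat_mul, conjA_apply, one_mul, one_mul]
    simp only [mul_assoc, Units.inv_mul_cancel_left, Units.inv_mul, mul_one]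
  set g := ((conjA P).symm (A * h).val).submatrix e.symm e.symm with hg
  have hgval : (A * h).val = conjA P (g.submatrix e e) := by
    rw [hg, Matrix.submatrix_submatrix, Equiv.symm_comp_self, Matrix.submatrix_id_id, AlgEquiv.apply_symm_apply]
  obtain ⟨b, hb⟩ := tensMat_centralizer hd (g := g) fun x => by
    have h1 := congrArg (fun X => X * (A * h).val) (hcomm x)
    simp only [conjA_apply, mul_assoc, Units.inv_mul, mul_one] at h1
    rw [hgval, tensMat, ← map_mul, ← map_mul, Matrix.submatrix_mul_equiv, Matrix.submatrix_mul_equiv] at h1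
    have h2 := congrArg (fun X => X.submatrix e.symm e.symm) ((conjA P).injective h1)
    simpa [Matrix.submatrix_submatrix] using h2
  have hval : (A * h).val = tensMat e P 1 b := by rw [hgval, hb, tensMat]
  have hbu : IsUnit b.det := by
    have h1 : IsUnit (A * h).val.det := (A * h).isUnit.map Matrix.detMonoidHom
    rw [hval, tensMat, conjA_apply, Matrix.det_mul_right_comm, Units.mul_inv, one_mul,
      Matrix.det_submatrix_equiv_self, Matrix.det_kronecker, Matrix.det_one, one_pow, one_mul,
      Fintype.card_fin] at h1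
    exact (isUnit_pow_iff hd.ne').1 h1
  refine mem_tensorProductSubgroup_iff.2 ⟨a, b.nonsingInvUnit hbu, ?_⟩
  have h3 := congrArg (fun X => tensMat e P a.val 1 * X) hval
  simp only [tensMat_mul, one_mul, mul_one] at h3
  rw [show (b.nonsingInvUnit hbu).val = b from rfl, ← h3, Units.val_mul, ← mul_assoc]
  show h.val = tensMat e P a.val 1 * tensMat e P (a⁻¹).val 1 * h.val
  rw [tensMat_mul, Units.mul_inv, one_mul, tensMat_one, one_mul]

end Cfsg.Lib.Linear.AschGen
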