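import Cfsg.Agent.Lib.Linear.AschGen.Gram

/-!
# Extension fields of prime degree and forms on tensor powers of the plane
-/

set_option autoImplicit false
set_option linter.unusedSectionVars false
set_option linter.style.haveILetI false

namespace Cfsg.Lib.Linear.AschGen

open Cfsg.Geo Cfsg.Lib.Linear.Asch Module
open scoped Matrix MatrixGroups

variable {ι : Type} [Fintype ι] [DecidableEq ι] {F : Type*} [Field F] {H : Subgroup (GL ι F)}

set_option synthInstance.maxHeartbeats 100000 in
/-- A group normalising an extension field normalises one of prime degree dividing the dimension. -/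
theorem exists_prime_field [Fintype F] [Nonempty ι] {s : ℕ} {K : Subalgebra F (Matrix ι ι F)}
    (hK : IsFieldSubalgebra s K) (hs : 1 < s) (hle : H ≤ subalgebraNormalizer K) :
    ∃ (r : ℕ) (K' : Subalgebra F (Matrix ι ι F)),
      r.Prime ∧ r ∣ Fintype.card ι ∧ IsFieldSubalgebra r K' ∧ H ≤ subalgebraNormalizer K' := by
  classical
  haveI : Finite (Matrix ι ι F) := inferInstanceAs (Finite (ι → ι → F))
  have hfield : IsField K :=
    { exists_pair_ne := ⟨0, 1, zero_ne_one⟩
      mul_comm := fun a b => Subtype.ext (hK.comm a a.2 b b.2)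
      mul_inv_cancel := fun {a} ha => by
        obtain ⟨y, hy, e⟩ := hK.inv a a.2 (fun h => ha (Subtype.ext h))
        exact ⟨⟨y, hy⟩, Subtype.ext e⟩ }
  letI : Field K := hfield.toField
  letI := Fintype.ofFinite K
  obtain ⟨p, hp⟩ := CharP.exists F
  obtain ⟨e, hpp, he⟩ := FiniteField.card F p
  haveI := Fact.mk hpp
  haveI : CharP K p := charP_of_injective_algebraMap (algebraMap F K).injective p
  have hcardK : Fintype.card K = p ^ ((e : ℕ) * s) := by
    rw [pow_mul, ← he, ← Nat.card_eq_fintype_card, ← Nat.card_eq_fintype_card (α := F),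
      Module.natCard_eq_pow_finrank (K := F) (V := K), hK.finrank_eq]
  obtain ⟨r, hr, hrs⟩ := Nat.exists_prime_and_dvd (show s ≠ 1 by omega)
  obtain ⟨F₁, hF₁, hmem⟩ := exists_subfield_pow (F := K) p ((e : ℕ) * s) ((e : ℕ) * r) hcardK
    (Nat.mul_pos e.pos hr.pos) (Nat.mul_dvd_mul_left _ hrs)
  have halg : ∀ c : F, algebraMap F K c ∈ F₁ := fun c => (hmem _).2 (by
    rw [← map_pow, pow_mul, ← he, FiniteField.pow_card_pow])
  let S : Subalgebra F K := { F₁.toSubring.toSubsemiring with algebraMap_mem' := halg }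
  let K' := S.map K.val
  have hK'mem : ∀ x, x ∈ K' ↔ ∃ y : K, y ^ p ^ ((e : ℕ) * r) = y ∧ y.1 = x := fun x =>
    ⟨fun ⟨y, hy, hyx⟩ => ⟨y, (hmem y).1 hy, hyx⟩, fun ⟨y, hy, hyx⟩ => ⟨y, (hmem y).2 hy, hyx⟩⟩
  have hcard : Nat.card K' = p ^ ((e : ℕ) * r) := by
    rw [← hF₁]
    exact (Nat.card_congr (Equiv.ofBijective (fun y : F₁ => (⟨y.1.1, ⟨y.1, y.2, rfl⟩⟩ : K'))
      ⟨fun a b h => Subtype.ext (Subtype.ext (congrArg (fun z : K' => (z : Matrix ι ι F)) h)),
        fun ⟨x, y, hy, hyx⟩ => ⟨⟨y, hy⟩, Subtype.ext hyx⟩⟩)).symm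
  have hrank : finrank F K' = r := by
    have h1 : Nat.card K' = Nat.card F ^ finrank F K' := Module.natCard_eq_pow_finrank
    rw [hcard, Nat.card_eq_fintype_card, he, ← pow_mul] at h1
    exact (Nat.eq_of_mul_eq_mul_left e.pos (Nat.pow_right_injective hpp.two_le h1)).symm
  have hle' : ∀ x ∈ K', x ∈ K := fun x hx => by
    obtain ⟨y, -, rfl⟩ := hx; exact y.2
  have hfld : IsFieldSubalgebra r K' := ⟨fun x hx y hy => hK.comm x (hle' x hx) y (hle' y hy), fun x hx hx0 => by
    obtain ⟨y, hy, rfl⟩ := hx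
    refine ⟨(y⁻¹ : K).1, ⟨y⁻¹, (F₁.inv_mem hy : y⁻¹ ∈ F₁), rfl⟩, ?_⟩
    exact congrArg Subtype.val (mul_inv_cancel₀ (fun h => hx0 (by rw [h]; rfl)) : y * y⁻¹ = 1), hrank⟩
  refine ⟨r, K', hr, ?_, hfld, fun g hg => ?_⟩
  · have hfield' : IsField K' :=
      { exists_pair_ne := ⟨0, 1, zero_ne_one⟩
        mul_comm := fun a b => Subtype.ext (hfld.comm a a.2 b b.2)
        mul_inv_cancel := fun {a} ha => by
          obtain ⟨y, hy, e⟩ := hfld.inv a a.2 (fun h => ha (Subtype.ext h))
          exact ⟨⟨y, hy⟩, Subtype.ext e⟩ }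
    letI : Field K' := hfield'.toField
    letI : Module K' (ι → F) := Module.compHom (ι → F)
      ((Matrix.toLinAlgEquiv' : Matrix ι ι F ≃ₐ[F] Module.End F (ι → F)).toAlgHom.comp K'.val).toRingHom
    haveI : Module.Finite K' (ι → F) := Module.Finite.of_finite
    have h1 : Nat.card (ι → F) = Nat.card K' ^ Module.finrank K' (ι → F) := Module.natCard_eq_pow_finrank
    rw [hcard, Nat.card_fun, Nat.card_eq_fintype_card, Nat.card_eq_fintype_card (α := ι), he, ← pow_mul,
      ← pow_mul, mul_assoc] at h1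
    exact ⟨_, Nat.eq_of_mul_eq_mul_left e.pos (Nat.pow_right_injective hpp.two_le h1)⟩
  · have hpres : ∀ g ∈ H, ∀ k ∈ K', conjA g k ∈ K' := by
      intro g hg k hk
      obtain ⟨y, hy, rfl⟩ := (hK'mem k).1 hk
      refine (hK'mem _).2 ⟨⟨conjA g y.1, (hle hg y.1).1 y.2⟩, Subtype.ext ?_, rfl⟩
      rw [SubmonoidClass.coe_pow, ← map_pow]
      exact congrArg (conjA g) (congrArg Subtype.val hy)
    refine fun k => ⟨hpres g hg k, fun hk => ?_⟩
    have h1 := hpres g⁻¹ (inv_mem hg) _ hk
    rwa [← conjA_apply, conjA_inv] at h1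

section Plane

variable {t : ℕ}

/-- The alternating form on the plane. -/
def planeJ (F : Type*) [Field F] : Matrix (Fin 2) (Fin 2) F := !![0, 1; -1, 0]

theorem planeJ_act (a : Matrix (Fin 2) (Fin 2) F) : aᵀ * planeJ F * a = a.det • planeJ F := by
  ext i j
  fin_cases i <;> fin_cases j <;> simp [planeJ, Matrix.mul_apply, Fin.sum_univ_two, Matrix.det_fin_two] <;> ring

theorem pureTens_transpose {d : ℕ} (X : Fin t → Matrix (Fin d) (Fin d) F) :
    (pureTens X)ᵀ = pureTens (fun i => (X i)ᵀ) := by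
  ext x y; rfl

theorem pureTens_smul {d : ℕ} (c : Fin t → F) (X : Fin t → Matrix (Fin d) (Fin d) F) :
    pureTens (fun i => c i • X i) = (∏ i, c i) • pureTens X := by
  ext x y
  simp [pureTens, Finset.prod_mul_distrib]

/-- A tensor power of planes carries a symplectic or quadratic form up to similarity. -/
theorem plane_forms [Fintype F] (ht : 0 < t) (e : ι ≃ (Fin t → Fin 2)) (P : GL ι F) :
    (∃ f, IsSymplecticForm f ∧ tensorWreathSubgroup 2 t e P ≤ similarityGroup f) ∨
      (Odd (Fintype.card F) ∧ ∃ Q, IsNondegenerateQuadraticForm Q ∧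
        tensorWreathSubgroup 2 t e P ≤ quadSimilarityGroup Q) := by
  classical
  let Jt : Matrix (Fin t → Fin 2) (Fin t → Fin 2) F := pureTens fun _ => planeJ F
  let Pi' : Matrix ι ι F := (P⁻¹).val
  let G : Matrix ι ι F := Pi'ᵀ * Jt.submatrix e e * Pi'
  have hJJ : Jt * pureTens (fun _ => -planeJ F) = 1 := by
    rw [pureTens_mul, ← pureTens_one]
    congr 1
    funext _
    ext i j
    fin_cases i <;> fin_cases j <;> simp [planeJ]
  have hu : IsUnit G.det := by
    have h1 : IsUnit (Jt.submatrix e e).det := by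
      rw [Matrix.det_submatrix_equiv_self]
      exact IsUnit.of_mul_eq_one _ (by rw [← Matrix.det_mul, hJJ, Matrix.det_one])
    simp only [G, Matrix.det_mul, Matrix.det_transpose]
    have h2 : IsUnit Pi'.det := (P⁻¹).isUnit.map Matrix.detMonoidHom
    exact (h2.mul h1).mul h2
  have hJtT : Jtᵀ = ((-1 : F) ^ t) • Jt := by
    rw [pureTens_transpose, show (fun _ : Fin t => (planeJ F)ᵀ) = fun _ : Fin t => (-1 : F) • planeJ F from
      funext fun _ => by ext i j; fin_cases i <;> fin_cases j <;> simp [planeJ], pureTens_smul,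
      Finset.prod_const, Finset.card_univ, Fintype.card_fin]
  have hGT : Gᵀ = ((-1 : F) ^ t) • G := by
    simp only [G, Matrix.transpose_mul, Matrix.transpose_transpose, Matrix.transpose_submatrix, hJtT]
    rw [Matrix.submatrix_smul, Pi.smul_apply, Pi.smul_apply, Matrix.smul_mul, Matrix.mul_smul, Matrix.mul_assoc]
  have hsim : tensorWreathSubgroup 2 t e P ≤ similarityGroup (gramForm (RingEquiv.refl F) G) := by
    rintro _ ⟨_, ⟨g, hg, rfl⟩, rfl⟩
    obtain ⟨c, hc0, hc⟩ : ∃ c : F, c ≠ 0 ∧ g.valᵀ * Jt * g.val = c • Jt := by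
      induction hg using Subgroup.closure_induction with
      | mem g hg =>
        rcases hg with ⟨gs, hgs⟩ | ⟨σ, hσ⟩
        · refine ⟨∏ i, (gs i).val.det, Finset.prod_ne_zero_iff.2 fun i _ => ((gs i).isUnit.map Matrix.detMonoidHom).ne_zero, ?_⟩
          rw [show g.val = pureTens (fun i => (gs i).val) from Matrix.ext hgs, pureTens_transpose, pureTens_mul,
            pureTens_mul, ← pureTens_smul]
          simp only [planeJ_act]
        · refine ⟨1, one_ne_zero, ?_⟩
          rw [one_smul]
          ext x y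
          rw [Matrix.mul_apply, Finset.sum_eq_single (y ∘ σ.symm) (fun z _ hz => by
            rw [hσ, if_neg (fun h => hz (by rw [h, Function.comp_assoc, Equiv.self_comp_symm, Function.comp_id])),
              mul_zero]) (fun h => absurd (Finset.mem_univ _) h), hσ, if_pos (by
              rw [Function.comp_assoc, Equiv.symm_comp_self, Function.comp_id]), mul_one,
            Matrix.mul_apply, Finset.sum_eq_single (x ∘ σ.symm) (fun z _ hz => by
            rw [Matrix.transpose_apply, hσ,
              if_neg (fun h => hz (by rw [h, Function.comp_assoc, Equiv.self_comp_symm, Function.comp_id])),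
              zero_mul]) (fun h => absurd (Finset.mem_univ _) h), Matrix.transpose_apply, hσ, if_pos (by
              rw [Function.comp_assoc, Equiv.symm_comp_self, Function.comp_id]), one_mul]
          simp only [Jt, pureTens, Matrix.of_apply, Function.comp_apply]
          exact Equiv.prod_comp σ.symm (fun i => planeJ F (x i) (y i))
      | one => exact ⟨1, one_ne_zero, by simp⟩
      | mul g g' _ _ hg hg' =>
        obtain ⟨c, hc0, hc⟩ := hg
        obtain ⟨c', hc0', hc'⟩ := hg'
        refine ⟨c * c', mul_ne_zero hc0 hc0', ?_⟩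
        calc (g * g').valᵀ * Jt * (g * g').val = g'.valᵀ * (g.valᵀ * Jt * g.val) * g'.val := by
              rw [Units.val_mul, Matrix.transpose_mul]; simp only [Matrix.mul_assoc]
          _ = (c * c') • Jt := by rw [hc, Matrix.mul_smul, Matrix.smul_mul, hc', smul_smul]
      | inv g _ hg =>
        obtain ⟨c, hc0, hc⟩ := hg
        refine ⟨c⁻¹, inv_ne_zero hc0, ?_⟩
        have h1 := congrArg (fun M => c⁻¹ • ((g⁻¹).valᵀ * M * (g⁻¹).val)) hc
        simp only [Matrix.mul_smul, Matrix.smul_mul, smul_smul, inv_mul_cancel₀ hc0, one_smul] at h1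
        rw [← h1, ← Matrix.mul_assoc, ← Matrix.mul_assoc, ← Matrix.transpose_mul, ← Units.val_mul, mul_inv_cancel,
          Units.val_one, Matrix.transpose_one, Matrix.one_mul, Matrix.mul_assoc, ← Units.val_mul, mul_inv_cancel,
          Units.val_one, Matrix.mul_one]
    refine ⟨Units.mk0 c hc0, fun u v => ?_⟩
    suffices hM : _ * G * _ = c • G by
      rw [gramForm_act, hM, gramForm, Units.val_mk0, Matrix.smul_mulVec, dotProduct_smul, smul_eq_mul]
    show (P.val * g.val.submatrix e e * (P⁻¹).val)ᵀ * (Pi'ᵀ * Jt.submatrix e e * Pi') *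
      (P.val * g.val.submatrix e e * (P⁻¹).val).map (RingEquiv.refl F) = c • G
    rw [show (P.val * g.val.submatrix e e * (P⁻¹).val).map (RingEquiv.refl F) =
      P.val * g.val.submatrix e e * (P⁻¹).val from rfl]
    have e1 : (g.val.submatrix e e)ᵀ * Jt.submatrix e e * g.val.submatrix e e = c • Jt.submatrix e e := by
      rw [Matrix.transpose_submatrix, Matrix.submatrix_mul_equiv, Matrix.submatrix_mul_equiv, hc,
        Matrix.submatrix_smul]; rfl
    have e2 : P.valᵀ * Pi'ᵀ = 1 := by rw [← Matrix.transpose_mul, Units.inv_mul, Matrix.transpose_one]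
    calc (P.val * g.val.submatrix e e * (P⁻¹).val)ᵀ * (Pi'ᵀ * Jt.submatrix e e * Pi') *
          (P.val * g.val.submatrix e e * (P⁻¹).val)
        = Pi'ᵀ * (g.val.submatrix e e)ᵀ * (P.valᵀ * Pi'ᵀ) * Jt.submatrix e e * (Pi' * P.val) *
            g.val.submatrix e e * Pi' := by
          simp only [Matrix.transpose_mul, Matrix.mul_assoc, Pi']
      _ = Pi'ᵀ * ((g.val.submatrix e e)ᵀ * Jt.submatrix e e * g.val.submatrix e e) * Pi' := by
          rw [e2, Units.inv_mul]; simp only [Matrix.mul_one, Matrix.mul_assoc, Matrix.one_mul]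
      _ = c • G := by rw [e1, Matrix.mul_smul, Matrix.smul_mul]
  by_cases hsk : (-1 : F) ^ t = -1
  · left
    rw [hsk, neg_one_smul] at hGT
    refine ⟨_, isSymplecticForm_gram hu hGT (fun i => ?_), hsim⟩
    by_cases h2 : (2 : F) = 0
    · -- diagonal of the pulled back form
      have hJt : Jtᵀ = -Jt := by rw [hJtT, hsk, neg_one_smul]
      have hd : ∀ x, Jt x x = 0 := fun x => show (∏ i, planeJ F (x i) (x i)) = 0 from
        Finset.prod_eq_zero (Finset.mem_univ (⟨0, ht⟩ : Fin t)) (by
        generalize x ⟨0, ht⟩ = a; fin_cases a <;> simp [planeJ])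
      have h3 := alternating_gram (G := Jt.submatrix e e) (by rw [Matrix.transpose_submatrix, hJt]; rfl)
        (fun j => hd (e j)) (Pi' *ᵥ Pi.single i 1)
      have h4 : G i i = gramForm (RingEquiv.refl F) (Jt.submatrix e e) (Pi' *ᵥ Pi.single i 1)
          (Pi' *ᵥ Pi.single i 1) := by
        rw [gramForm_act, show Pi'.map (RingEquiv.refl F) = Pi' from rfl,
          show (RingEquiv.refl F : F → F) ∘ (Pi.single i 1 : ι → F) = Pi.single i 1 from rfl,
          Matrix.mulVec_single_one, single_dotProduct, one_mul]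
        rfl
      rw [h4, h3]
    · have h3 := congrFun (congrFun hGT i) i
      rw [Matrix.transpose_apply, Matrix.neg_apply, eq_neg_iff_add_eq_zero, ← two_mul] at h3
      exact (mul_eq_zero.1 h3).resolve_left h2
  · right
    have ht' : (-1 : F) ^ t = 1 := (neg_one_pow_eq_or F t).resolve_right hsk
    have h2 : (2 : F) ≠ 0 := fun h => hsk (by rw [ht']; linear_combination h)
    rw [ht', one_smul] at hGT
    obtain ⟨Q, hQ, hle⟩ := quad_gram hu h2 hGT
    exact ⟨odd_card_of_two_ne_zero h2, Q, hQ, hsim.trans hle⟩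

end Plane

/-- A tensor product with equal factors is a tensor power with two factors. -/
theorem tensorProductSubgroup_le_wreath {d : ℕ} (e : ι ≃ Fin d × Fin d) (P : GL ι F) :
    tensorProductSubgroup d d e P ≤ tensorWreathSubgroup d 2 (e.trans (finTwoArrowEquiv (Fin d)).symm) P := by
  intro g hg
  obtain ⟨a, b, hg⟩ := mem_tensorProductSubgroup_iff.1 hg
  let x : GL (Fin 2 → Fin d) F := ⟨pureTens fun i => (![a, b] i).val, pureTens fun i => ((![a, b] i)⁻¹).val,
    by rw [pureTens_mul]; simp [pureTens_one], by rw [pureTens_mul]; simp [pureTens_one]⟩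
  refine ⟨_, ⟨x, Subgroup.subset_closure (Or.inl ⟨![a, b], fun _ _ => rfl⟩), rfl⟩, Units.ext ?_⟩
  rw [hg, tensMat, conjA_apply]
  show P.val * (x.val.submatrix _ _) * (P⁻¹).val = _
  congr 2
  ext i j
  simp [x, pureTens, Fin.prod_univ_two, Matrix.kroneckerMap_apply]

end Cfsg.Lib.Linear.AschGen
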