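import Cfsg.Agent.Lib.Linear.AschGen.SixCases
import Cfsg.Agent.Lib.Linear.AschGen.Structures

/-!
# The subgroup structure of the general linear group in dimension at least three
-/

set_option autoImplicit false
set_option linter.unusedSectionVars false
set_option linter.style.haveILetI false

namespace Cfsg.Lib.Linear.AschGen

open Cfsg.Geo Cfsg.Lib.Linear.Asch Module
open scoped Matrix MatrixGroups

variable {ι : Type} [Fintype ι] [DecidableEq ι] {F : Type*} [Field F]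

theorem even_of_symplectic {f : (ι → F) → (ι → F) → F} (hf : IsSymplecticForm f) : Even (Fintype.card ι) :=
  (Nat.even_or_odd _).resolve_right fun h => not_alt_odd h hf.bilinear hf.alternating hf.nondegenerate

/-- An almost simple group lies in a subfield group, in the similarity group of a form, or in the residual class. -/
theorem almost_cases [Fintype F] [Nonempty ι] {H P : Subgroup (GL ι F)} (hP : AlmostCore H P) :
    (∃ (F₁ : Subfield F) (s : ℕ) (B : GL ι F), s.Prime ∧ Fintype.card F = Nat.card F₁ ^ s ∧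
      H ≤ subfieldSubgroup F₁ B) ∨
    (∃ f, IsSymplecticForm f ∧ H ≤ similarityGroup f) ∨
    (∃ (σ : F ≃+* F) (f : (ι → F) → (ι → F) → F), IsUnitaryForm σ f ∧ H ≤ similarityGroup f) ∨
    (Odd (Fintype.card F) ∧ ∃ Q, IsNondegenerateQuadraticForm Q ∧ H ≤ quadSimilarityGroup Q) ∨
    InLinearResidualClass H := by
  by_cases hreal : ∃ F₀ : Subfield F, F₀ ≠ ⊤ ∧ RealisableOver F₀ (matrixSet P)
  · obtain ⟨F₀, h1, h2⟩ := hreal
    obtain ⟨F₁, s, B, -, hs, hc, hle⟩ := realisable_le h1 hP.absIrred hP.sub.normal h2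
    exact Or.inl ⟨F₁, s, B, hs, hc, hle⟩
  by_cases hquad : ∃ Q : (ι → F) → F, IsNondegenerateQuadraticForm Q ∧ FixesQuadForm (matrixSet P) Q
  · obtain ⟨Q, hQ, hfix⟩ := hquad
    have hmem : H ≤ similarityGroup (QuadraticMap.polar Q) := fun g hg =>
      mem_similarityGroup hP.absIrred (isSesq_of_bilinear hQ.polar_bilinear hQ.nondegenerate)
        (fixesForm_polar hfix) (hP.sub.normal g hg)
    by_cases h2 : (2 : F) = 0
    · refine Or.inr (Or.inl ⟨_, ⟨hQ.polar_bilinear, fun v w => ?_, fun v => ?_, hQ.nondegenerate⟩, hmem⟩)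
      · rw [QuadraticMap.polar_comm, eq_neg_iff_add_eq_zero, ← two_mul, h2, zero_mul]
      · rw [QuadraticMap.polar, ← two_smul F v, hQ.smul, h2]
        linear_combination (-(Q v)) * h2
    · refine Or.inr (Or.inr (Or.inr (Or.inl ⟨odd_card_of_two_ne_zero h2, Q, hQ, ?_⟩)))
      rwa [quadSimilarityGroup_eq h2 hQ]
  by_cases hsymp : ∃ f : (ι → F) → (ι → F) → F, IsSymplecticForm f ∧ FixesForm (matrixSet P) f
  · obtain ⟨f, hf, hfix⟩ := hsymp
    exact Or.inr (Or.inl ⟨f, hf, fun g hg => mem_similarityGroup hP.absIrred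
      (isSesq_of_bilinear hf.bilinear hf.nondegenerate) hfix (hP.sub.normal g hg)⟩)
  by_cases hunit : ∃ (σ : F ≃+* F) (f : (ι → F) → (ι → F) → F), IsUnitaryForm σ f ∧ FixesForm (matrixSet P) f
  · obtain ⟨σ, f, hf, hfix⟩ := hunit
    exact Or.inr (Or.inr (Or.inl ⟨σ, f, hf, fun g hg => mem_similarityGroup hP.absIrred
      (isSesq_of_unitary hf) hfix (hP.sub.normal g hg)⟩))
  push Not at hreal
  exact Or.inr (Or.inr (Or.inr (Or.inr ⟨P, ⟨hP.sub.le, hP.sub.normal, hP.perfect, hP.simple, hP.nonabelian,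
    hP.centralizer_scalar, hP.absIrred, hreal⟩, hquad, hsymp, hunit⟩)))

/-- The subgroup structure theorem. -/
theorem linear_general [Fintype F] (hn : 3 ≤ Fintype.card ι) (H : Subgroup (GL ι F)) :
    (∃ W : Submodule F (ι → F), W ≠ ⊥ ∧ W ≠ ⊤ ∧ H ≤ subspaceStabilizer W) ∨
    (∃ (t m : ℕ) (D : Fin t → Submodule F (ι → F)), IsMDecomposition m D ∧ H ≤ decompositionStabilizer D) ∨
    (∃ (r : ℕ) (K : Subalgebra F (Matrix ι ι F)), r.Prime ∧ r ∣ Fintype.card ι ∧ IsFieldSubalgebra r K ∧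
      H ≤ subalgebraNormalizer K) ∨
    (∃ (n₁ n₂ : ℕ) (e : ι ≃ Fin n₁ × Fin n₂) (P : GL ι F), 2 ≤ n₁ ∧ n₁ < n₂ ∧
      H ≤ tensorProductSubgroup n₁ n₂ e P) ∨
    (∃ (F₀ : Subfield F) (r : ℕ) (P : GL ι F), r.Prime ∧ Fintype.card F = Nat.card F₀ ^ r ∧
      H ≤ subfieldSubgroup F₀ P) ∨
    (∃ (r m : ℕ) (R : Subgroup (GL ι F)), Fintype.card ι = r ^ m ∧ Nat.card R ≤ r ^ 2 * Fintype.card ι ^ 2 ∧
      IsLinearSymplecticTypeData r R ∧
      H ≤ subgroupNormalizer R) ∨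
    (∃ (m t : ℕ) (e : ι ≃ (Fin t → Fin m)) (P : GL ι F), 3 ≤ m ∧ 2 ≤ t ∧ H ≤ tensorWreathSubgroup m t e P) ∨
    (∃ f, IsSymplecticForm f ∧ H ≤ similarityGroup f) ∨
    (∃ (σ : F ≃+* F) (f : (ι → F) → (ι → F) → F), IsUnitaryForm σ f ∧ H ≤ similarityGroup f) ∨
    (Odd (Fintype.card F) ∧ ∃ Q, IsNondegenerateQuadraticForm Q ∧ H ≤ quadSimilarityGroup Q) ∨
    InLinearResidualClass H := by
  classical
  haveI : Nonempty ι := Fintype.card_pos_iff.1 (by omega)
  by_cases hirr : ActsIrreducibly (matrixSet H)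
  swap
  · rw [irr_iff] at hirr
    push Not at hirr
    obtain ⟨W, hW, hW0, hW1⟩ := hirr
    exact Or.inl ⟨W, hW0, hW1, fun g hg => mem_subspaceStabilizer_of_inv (hW g hg)⟩
  rcases core hirr (by omega) with ⟨N, t, e, ht, -, hs⟩ | ⟨N, hN, hs, hK⟩ | ⟨N, d, k, e, P, -, hd, hk, -, hle⟩ |
    ⟨R, r, m, hS⟩ | ⟨d, t, M, e, P, hd, ht, hM⟩ | ⟨P, hP⟩
  · obtain ⟨m, hD, hle⟩ := hs.mDecomposition ht
    exact Or.inr (Or.inl ⟨t, m, _, hD, hle⟩)
  · obtain ⟨r, K, hr, hdvd, hK', hle⟩ := exists_prime_field hK hs (le_subalgebraNormalizer_bicomm hN)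
    exact Or.inr (Or.inr (Or.inl ⟨r, K, hr, hdvd, hK', hle⟩))
  · rcases Nat.lt_trichotomy d k with h | rfl | h
    · exact Or.inr (Or.inr (Or.inr (Or.inl ⟨d, k, e, P, hd, h, hle⟩)))
    · have hle' := hle.trans (tensorProductSubgroup_le_wreath e P)
      rcases Nat.lt_or_ge d 3 with h3 | h3
      · obtain rfl : d = 2 := by omega
        refine Or.inr (Or.inr (Or.inr (Or.inr (Or.inr (Or.inr (Or.inr ?_))))))
        rcases plane_forms two_pos (e.trans (finTwoArrowEquiv (Fin 2)).symm) P with ⟨f, hf, h⟩ | ⟨ho, Q, hQ, h⟩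
        · exact Or.inl ⟨f, hf, hle'.trans h⟩
        · exact Or.inr (Or.inr (Or.inl ⟨ho, Q, hQ, hle'.trans h⟩))
      · exact Or.inr (Or.inr (Or.inr (Or.inr (Or.inr (Or.inr (Or.inl ⟨d, 2, _, P, h3, le_rfl, hle'⟩))))))
    · exact Or.inr (Or.inr (Or.inr (Or.inl ⟨k, d, _, P, hk, h, hle.trans tensorProductSubgroup_swap⟩)))
  · refine Or.inr (Or.inr (Or.inr (Or.inr ?_)))
    rcases six_cases hn hS with ⟨h1, h2⟩ | h | h | h | h
    · refine Or.inr (Or.inl ⟨r, m, R, hS.card_eq, ?_, h1, h2⟩)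
      rw [hS.card, hS.card_eq, ← pow_mul, mul_comm m 2, mul_comm (r ^ 2)]
      refine Nat.mul_le_mul_left _ ?_
      rcases hS.center_card with ⟨-, h⟩ | ⟨rfl, h | h⟩ <;> rw [h]
      · rw [sq]; exact Nat.le_mul_self r
      · norm_num
      · norm_num
    · exact Or.inl h
    · exact Or.inr (Or.inr (Or.inr (Or.inl h)))
    · exact Or.inr (Or.inr (Or.inr (Or.inr (Or.inl h))))
    · exact Or.inr (Or.inr (Or.inr (Or.inr (Or.inr (Or.inl h)))))
  · rcases Nat.lt_or_ge d 3 with h3 | h3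
    · obtain rfl : d = 2 := by omega
      refine Or.inr (Or.inr (Or.inr (Or.inr (Or.inr (Or.inr (Or.inr ?_))))))
      rcases plane_forms (by omega) e P with ⟨f, hf, h⟩ | ⟨ho, Q, hQ, h⟩
      · exact Or.inl ⟨f, hf, hM.stab.trans h⟩
      · exact Or.inr (Or.inr (Or.inl ⟨ho, Q, hQ, hM.stab.trans h⟩))
    · exact Or.inr (Or.inr (Or.inr (Or.inr (Or.inr (Or.inr (Or.inl ⟨d, t, e, P, h3, ht, hM.stab⟩))))))
  · refine Or.inr (Or.inr (Or.inr (Or.inr ?_)))
    rcases almost_cases hP with h | h | h | h | h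
    · exact Or.inl h
    · exact Or.inr (Or.inr (Or.inr (Or.inl h)))
    · exact Or.inr (Or.inr (Or.inr (Or.inr (Or.inl h))))
    · exact Or.inr (Or.inr (Or.inr (Or.inr (Or.inr (Or.inl h)))))
    · exact Or.inr (Or.inr (Or.inr (Or.inr (Or.inr (Or.inr h)))))

end Cfsg.Lib.Linear.AschGen
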