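import Cfsg.Agent.Lib.Linear.AschGen.FrameFive

/-!
# Maximal subgroups of the special linear group in composite dimension
-/

set_option autoImplicit false
set_option linter.unusedSectionVars false
set_option linter.style.haveILetI false

namespace Cfsg.Lib.Linear.AschGen

open Cfsg.Geo Cfsg.Lib.Linear Cfsg.Lib.Linear.Asch Module
open scoped Matrix MatrixGroups

variable {ι : Type} [Fintype ι] [DecidableEq ι] {F : Type*} [Field F] [Fintype F] {H : Subgroup (GL ι F)}

/-- The maximal subgroups of the special linear group of composite dimension, with the numerical conditions. -/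
theorem linear_max (hn : 4 ≤ Fintype.card ι) (hcomp : ¬ (Fintype.card ι).Prime)
    (hH : IsMaximalIn (specialLinear ι F) H) :
    (∃ W : Submodule F (ι → F), W ≠ ⊥ ∧ W ≠ ⊤ ∧ H = subspaceStabilizer W ⊓ specialLinear ι F) ∨
    (∃ (t m : ℕ) (D : Fin t → Submodule F (ι → F)), t * m = Fintype.card ι ∧ IsMDecomposition m D ∧
      (m = 1 → 5 ≤ Fintype.card F ∧ (Fintype.card ι = 4 → 7 ≤ Fintype.card F)) ∧
      (m = 2 → 3 ≤ Fintype.card F ∧ (Fintype.card ι = 4 → 4 ≤ Fintype.card F)) ∧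
      H = decompositionStabilizer D ⊓ specialLinear ι F) ∨
    (∃ (r : ℕ) (K : Subalgebra F (Matrix ι ι F)), r.Prime ∧ r ∣ Fintype.card ι ∧ IsFieldSubalgebra r K ∧
      H = subalgebraNormalizer K ⊓ specialLinear ι F) ∨
    (∃ (n₁ n₂ : ℕ) (e : ι ≃ Fin n₁ × Fin n₂) (P : GL ι F), 2 ≤ n₁ ∧ n₁ < n₂ ∧ n₁ * n₂ = Fintype.card ι ∧
      (n₁ = 2 → 3 ≤ Fintype.card F) ∧ H = tensorProductSubgroup n₁ n₂ e P ⊓ specialLinear ι F) ∨
    (∃ (F₀ : Subfield F) (r : ℕ) (P : GL ι F), r.Prime ∧ Fintype.card F = Nat.card F₀ ^ r ∧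
      H = subfieldSubgroup F₀ P ⊓ specialLinear ι F) ∨
    (∃ (r m : ℕ) (R : Subgroup (GL ι F)), Fintype.card ι = r ^ m ∧ IsLinearSymplecticTypeData r R ∧
      H = subgroupNormalizer R ⊓ specialLinear ι F) ∨
    (∃ (m t : ℕ) (e : ι ≃ (Fin t → Fin m)) (P : GL ι F), 3 ≤ m ∧ 2 ≤ t ∧ m ^ t = Fintype.card ι ∧
      H = tensorWreathSubgroup m t e P ⊓ specialLinear ι F) ∨
    (Odd (Fintype.card F) ∧ ∃ Q : (ι → F) → F, IsNondegenerateQuadraticForm Q ∧
      H = quadSimilarityGroup Q ⊓ specialLinear ι F) ∨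
    (∃ f : (ι → F) → (ι → F) → F, IsSymplecticForm f ∧ H = similarityGroup f ⊓ specialLinear ι F) ∨
    (∃ (σ : F ≃+* F) (f : (ι → F) → (ι → F) → F), IsUnitaryForm σ f ∧
      H = similarityGroup f ⊓ specialLinear ι F) ∨
    InLinearResidualClass H := by
  classical
  haveI : Nonempty ι := Fintype.card_pos_iff.1 (by omega)
  have hn3 : 3 ≤ Fintype.card ι := by omega
  have hq2 : 2 ≤ Fintype.card F := Fintype.one_lt_card
  have hcard : ∀ p e : ℕ, p.Prime → Fintype.card F = p ^ e → Fintype.card F = 6 → False := by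
    intro p e hp he h6
    rw [he] at h6
    have h2 : 2 ∣ p ^ e := by rw [h6]; norm_num
    have h3 : 3 ∣ p ^ e := by rw [h6]; norm_num
    have := (Nat.prime_dvd_prime_iff_eq Nat.prime_two hp).1 (Nat.prime_two.dvd_of_dvd_pow h2)
    have := (Nat.prime_dvd_prime_iff_eq Nat.prime_three hp).1 (Nat.prime_three.dvd_of_dvd_pow h3)
    omega
  have hq6 : Fintype.card F ≠ 6 := fun h => by
    obtain ⟨p, hp⟩ := CharP.exists F
    obtain ⟨e, hpp, he⟩ := FiniteField.card F p
    exact hcard p e hpp he h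
  have mkW : ∀ W : Submodule F (ι → F), W ≠ ⊥ → W ≠ ⊤ → H ≤ subspaceStabilizer W →
      H = subspaceStabilizer W ⊓ specialLinear ι F :=
    fun W h0 h1 h => eq_inf_of_maximal hH h (not_SL_le_subspaceStabilizer h0 h1)
  have mkQ : ∀ Q : (ι → F) → F, IsNondegenerateQuadraticForm Q → Odd (Fintype.card F) → H ≤ quadSimilarityGroup Q →
      H = quadSimilarityGroup Q ⊓ specialLinear ι F := fun Q hQ ho h => by
    refine eq_inf_of_maximal hH h (not_SL_le_quad hn3 (fun h2 => ?_) hQ)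
    haveI : CharP F 2 := (CharP.charP_iff_prime_eq_zero Nat.prime_two).2 (by exact_mod_cast h2)
    exact absurd ho (Nat.not_odd_iff_even.2 (Nat.even_iff.2
      (FiniteField.even_card_of_char_two (F := F) (ringChar.eq F 2))))
  have mkS : ∀ f : (ι → F) → (ι → F) → F, IsSymplecticForm f → H ≤ similarityGroup f →
      H = similarityGroup f ⊓ specialLinear ι F := fun f hf h =>
    eq_inf_of_maximal hH h (not_SL_le_similarityGroup hn3 (isSesq_of_bilinear hf.bilinear hf.nondegenerate))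
  have mkU : ∀ (σ : F ≃+* F) (f : (ι → F) → (ι → F) → F), IsUnitaryForm σ f → H ≤ similarityGroup f →
      H = similarityGroup f ⊓ specialLinear ι F := fun σ f hf h =>
    eq_inf_of_maximal hH h (not_SL_le_similarityGroup hn3 (isSesq_of_unitary hf))
  rcases linear_general hn3 H with ⟨W, h0, h1, h⟩ | ⟨t, m, D, hD, h⟩ | ⟨r, K, hr, hdvd, hK, h⟩ |
    ⟨n₁, n₂, e, P, h1, h2, h⟩ | ⟨F₀, r, P, hr, hc, h⟩ | ⟨r, m, R, hnr, hcR, hR, h⟩ | ⟨m, t, e, P, hm, ht, h⟩ |
    ⟨f, hf, h⟩ | ⟨σ, f, hf, h⟩ | ⟨ho, Q, hQ, h⟩ | h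
  · exact Or.inl ⟨W, h0, h1, mkW W h0 h1 h⟩
  · -- decompositions
    have htm := card_eq_of_decomposition hD
    by_cases hm1 : m = 1
    · subst hm1
      by_cases hsmall : Fintype.card F < 5
      · rcases lines_small (by omega) hD h hsmall with ⟨W, h0, h1, h'⟩ | ⟨ho, Q, hQ, h'⟩ | ⟨σ, f, hf, h'⟩
        · exact Or.inl ⟨W, h0, h1, mkW W h0 h1 h'⟩
        · exact Or.inr (Or.inr (Or.inr (Or.inr (Or.inr (Or.inr (Or.inr (Or.inl ⟨ho, Q, hQ, mkQ Q hQ ho h'⟩)))))))
        · exact Or.inr (Or.inr (Or.inr (Or.inr (Or.inr (Or.inr (Or.inr (Or.inr (Or.inr (Or.inl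
            ⟨σ, f, hf, mkU σ f hf h'⟩)))))))))
      refine Or.inr (Or.inl ⟨t, 1, D, htm, hD, fun _ => ⟨by omega, fun h4 => ?_⟩, fun h12 => absurd h12 (by omega),
        eq_inf_of_maximal hH h (not_SL_le_decomposition hD)⟩)
      by_contra h7
      rcases Nat.lt_or_ge 5 (Fintype.card F) with h5 | h5
      · exact hq6 (by omega)
      · exact lines_five h4 (by omega) hD h hH
    by_cases hsmall : m = 2 ∧ (Fintype.card F = 2 ∨ (Fintype.card F = 3 ∧ t = 2))
    · obtain ⟨rfl, hsm⟩ := hsmall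
      obtain ⟨f, hf, h'⟩ := planes_small hD h hH.1.le hsm
      exact Or.inr (Or.inr (Or.inr (Or.inr (Or.inr (Or.inr (Or.inr (Or.inr (Or.inl
        ⟨f, hf, mkS f hf h'⟩))))))))
    refine Or.inr (Or.inl ⟨t, m, D, htm, hD, fun h1 => absurd h1 hm1, fun h2 => ?_,
      eq_inf_of_maximal hH h (not_SL_le_decomposition hD)⟩)
    subst h2
    have h2' : Fintype.card F ≠ 2 := fun hc => hsmall ⟨rfl, Or.inl hc⟩
    refine ⟨by omega, fun h4 => ?_⟩
    have h3' : Fintype.card F ≠ 3 := fun hc => hsmall ⟨rfl, Or.inr ⟨hc, by omega⟩⟩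
    omega
  · -- extension fields
    have hrn : 2 * r ≤ Fintype.card ι := by
      obtain ⟨k, hk⟩ := hdvd
      rcases Nat.lt_or_ge k 2 with hk2 | hk2
      · exfalso
        have : k = 1 := by
          rcases Nat.eq_zero_or_pos k with rfl | hk0
          · omega
          · omega
        subst this
        rw [mul_one] at hk
        exact hcomp (hk ▸ hr)
      · rw [hk, mul_comm]
        exact Nat.mul_le_mul_left r hk2
    exact Or.inr (Or.inr (Or.inl ⟨r, K, hr, hdvd, hK,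
      eq_inf_of_maximal hH h (not_SL_le_field hr.two_le hn hrn hK)⟩))
  · -- tensor products
    have hprod : n₁ * n₂ = Fintype.card ι := by
      rw [Fintype.card_congr e, Fintype.card_prod, Fintype.card_fin, Fintype.card_fin]
    by_cases hsmall : n₁ = 2 ∧ Fintype.card F = 2
    · obtain ⟨rfl, hc⟩ := hsmall
      obtain ⟨K, hK, h'⟩ := tensor_two (by omega) hc e P h
      exact Or.inr (Or.inr (Or.inl ⟨2, K, Nat.prime_two, ⟨n₂, hprod.symm⟩, hK,
        eq_inf_of_maximal hH h' (not_SL_le_field le_rfl hn (by omega) hK)⟩))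
    exact Or.inr (Or.inr (Or.inr (Or.inl ⟨n₁, n₂, e, P, h1, h2, hprod,
      fun h12 => by
        have : Fintype.card F ≠ 2 := fun hc => hsmall ⟨h12, hc⟩
        omega,
      eq_inf_of_maximal hH h (not_SL_le_tensor h1 h2 e P)⟩)))
  · refine Or.inr (Or.inr (Or.inr (Or.inr (Or.inl ⟨F₀, r, P, hr, hc,
      eq_inf_of_maximal hH h (not_SL_le_subfieldSubgroup (by omega) (fun he => ?_) P)⟩))))
    rw [he, Nat.card_congr Subfield.topEquiv.toEquiv, Nat.card_eq_fintype_card] at hc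
    exact hr.ne_one (Nat.pow_right_injective hq2 (hc.symm.trans (pow_one _).symm))
  · exact Or.inr (Or.inr (Or.inr (Or.inr (Or.inr (Or.inl ⟨r, m, R, hnr, hR,
      eq_inf_of_maximal hH h (not_SL_le_six hn hnr hcR hR)⟩)))))
  · have hpow : m ^ t = Fintype.card ι := by rw [Fintype.card_congr e, Fintype.card_fun, Fintype.card_fin, Fintype.card_fin]
    exact Or.inr (Or.inr (Or.inr (Or.inr (Or.inr (Or.inr (Or.inl ⟨m, t, e, P, hm, ht, hpow,
      eq_inf_of_maximal hH h (not_SL_le_wreath hm ht e P)⟩))))))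
  · exact Or.inr (Or.inr (Or.inr (Or.inr (Or.inr (Or.inr (Or.inr (Or.inr (Or.inl ⟨f, hf, mkS f hf h⟩))))))))
  · exact Or.inr (Or.inr (Or.inr (Or.inr (Or.inr (Or.inr (Or.inr (Or.inr (Or.inr (Or.inl
      ⟨σ, f, hf, mkU σ f hf h⟩)))))))))
  · exact Or.inr (Or.inr (Or.inr (Or.inr (Or.inr (Or.inr (Or.inr (Or.inl ⟨ho, Q, hQ, mkQ Q hQ ho h⟩)))))))
  · exact Or.inr (Or.inr (Or.inr (Or.inr (Or.inr (Or.inr (Or.inr (Or.inr (Or.inr (Or.inr h)))))))))

/-- A number with two different prime divisors is no prime power. -/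
theorem not_prime_pow {r m n a b : ℕ} (hr : r.Prime) (ha : a.Prime) (hb : b.Prime) (hab : a ≠ b) (han : a ∣ n)
    (hbn : b ∣ n) (h : n = r ^ m) : False := by
  rw [h] at han hbn
  exact hab (((Nat.prime_dvd_prime_iff_eq ha hr).1 (ha.dvd_of_dvd_pow han)).trans
    ((Nat.prime_dvd_prime_iff_eq hb hr).1 (hb.dvd_of_dvd_pow hbn)).symm)

/-- The field of the class-six data. -/
theorem six_field (hn : 3 ≤ Fintype.card ι) {R : Subgroup (GL ι F)} (hR : IsLinearSymplecticTypeData 2 R) :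
    ∃ p, p.Prime ∧ Fintype.card F = p ∧ p % 4 = 1 := by
  obtain ⟨p, e, -, ⟨hpp, -, hF, hdvd, -⟩, h⟩ := hR.field
  rcases h with ⟨hodd, -, -, -⟩ | ⟨-, rfl, hZ, -⟩ | ⟨-, -, h2, -⟩
  · exact absurd hodd (by decide)
  · rw [hZ, pow_one] at hdvd
    have := hpp.two_le
    exact ⟨p, hpp, by rw [hF, pow_one], by omega⟩
  · exact absurd hn (by omega)

/-- The field of the class-six data for the prime three. -/
theorem six_field_three {R : Subgroup (GL ι F)} (hR : IsLinearSymplecticTypeData 3 R) :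
    ∃ p, p.Prime ∧ Fintype.card F = p ∧ p % 3 = 1 := by
  obtain ⟨p, e, hne, ⟨hpp, -, hF, hdvd, hmin⟩, h⟩ := hR.field
  rcases h with ⟨-, hodd, hZ, -⟩ | ⟨h, -⟩ | ⟨h, -⟩
  · rw [hZ] at hdvd hmin
    have hp3 : p % 3 = 1 ∨ p % 3 = 2 := by
      have : ¬ 3 ∣ p := fun hd => hne ((Nat.prime_dvd_prime_iff_eq Nat.prime_three hpp).1 hd)
      omega
    rcases hp3 with hp3 | hp3
    · rcases Nat.lt_or_ge e 2 with he | he
      · obtain ⟨k, hk⟩ := hodd
        obtain rfl : e = 1 := by omega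
        exact ⟨p, hpp, by rw [hF, pow_one], hp3⟩
      · exfalso
        refine hmin 1 one_pos (by omega) ?_
        rw [pow_one]
        have := hpp.two_le
        omega
    · exfalso
      obtain ⟨k, rfl⟩ := hodd
      have h1 : p ^ (2 * k + 1) % 3 = 2 := by
        rw [pow_succ, pow_mul, Nat.mul_mod, Nat.pow_mod, Nat.pow_mod (a := p) (b := 2), hp3]
        norm_num
      omega
  · exact absurd h (by decide)
  · exact absurd h (by decide)

end Cfsg.Lib.Linear.AschGen
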