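import Cfsg.Agent.Lib.Linear.AschGen.Linear

/-!
# The special linear group lies in no member of the geometric classes
-/

set_option autoImplicit false
set_option linter.unusedSectionVars false
set_option linter.style.haveILetI false

namespace Cfsg.Lib.Linear.AschGen

open Cfsg.Geo Cfsg.Lib.Linear Cfsg.Lib.Linear.Asch Module
open scoped Matrix MatrixGroups Kronecker

variable {ι : Type} [Fintype ι] [DecidableEq ι] {F : Type*} [Field F]

/-- The special linear group permutes no decomposition into subspaces. -/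
theorem not_SL_le_decomposition {t m : ℕ} {D : Fin t → Submodule F (ι → F)} (hD : IsMDecomposition m D) :
    ¬ specialLinear ι F ≤ decompositionStabilizer D := fun hle => by
  classical
  let i : Fin t := ⟨0, by have := hD.two_le; omega⟩
  let j : Fin t := ⟨1, by have := hD.two_le; omega⟩
  have hij : i ≠ j := fun h => by simp [i, j, Fin.ext_iff] at h
  have hne : ∀ l, D l ≠ ⊥ := fun l h => by
    have := hD.finrank_eq l
    rw [h, finrank_bot] at this
    have := hD.pos
    omega
  obtain ⟨u, hu, hu0⟩ := Submodule.exists_mem_ne_zero_of_ne_bot (hne i)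
  obtain ⟨w, hw, hw0⟩ := Submodule.exists_mem_ne_zero_of_ne_bot (hne j)
  have hdis : ∀ l l', l ≠ l' → ∀ v ∈ D l, v ∈ D l' → v = 0 := fun l l' h v h1 h2 =>
    (Submodule.disjoint_def.1 (hD.indep.pairwiseDisjoint h)) v h1 h2
  obtain ⟨a, ha1, ha2⟩ := Rat0.exists_dot_pair (x := w) (y := u) fun c e =>
    hu0 (hdis i j hij u hu (e ▸ Submodule.smul_mem _ c hw))
  rw [dotProduct_comm] at ha1 ha2
  obtain ⟨π, hπ⟩ := hle (tv_mem_SL w a ha1)
  have h1 : u + w ∈ D (π i) := by
    rw [← hπ i]
    refine ⟨u, hu, ?_⟩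
    rw [Matrix.toLin'_apply, coe_tv, tvMat_mulVec, ha2, one_smul]
  rcases eq_or_ne (π i) i with h | h
  · rw [h] at h1
    exact hw0 (hdis j i hij.symm w hw (by simpa using (D i).sub_mem h1 hu))
  rcases eq_or_ne (π i) j with h' | h'
  · rw [h'] at h1
    exact hu0 (hdis i j hij u hu (by simpa using (D j).sub_mem h1 hw))
  have h2 : u + w ∈ ⨆ l, ⨆ (_ : l ≠ π i), D l :=
    Submodule.add_mem _ (Submodule.mem_iSup_of_mem i (Submodule.mem_iSup_of_mem h.symm hu))
      (Submodule.mem_iSup_of_mem j (Submodule.mem_iSup_of_mem h'.symm hw))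
  have h3 := Submodule.disjoint_def.1 ((iSupIndep_def.1 hD.indep) (π i)) _ h1 h2
  have h4 : u = -w := eq_neg_of_add_eq_zero_left h3
  exact hu0 (hdis i j hij u hu (h4 ▸ (D j).neg_mem hw))

theorem two_pow_le {q a b : ℕ} (hq : 2 ≤ q) (hab : a < b) : 2 * q ^ a ≤ q ^ b :=
  calc 2 * q ^ a ≤ q * q ^ a := Nat.mul_le_mul_right _ hq
    _ = q ^ (a + 1) := (pow_succ' q a).symm
    _ ≤ q ^ b := Nat.pow_le_pow_right (by omega) hab

/-- The special linear group normalises no extension field of prime degree less than the dimension. -/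
theorem not_SL_le_field [Fintype F] [Nonempty ι] {r : ℕ} (hr : 2 ≤ r) (hn : 4 ≤ Fintype.card ι)
    (hrn : 2 * r ≤ Fintype.card ι) {K : Subalgebra F (Matrix ι ι F)} (hK : IsFieldSubalgebra r K) :
    ¬ specialLinear ι F ≤ subalgebraNormalizer K := fun hle => by
  classical
  obtain ⟨k, hk, hks⟩ : ∃ k ∈ K, ∀ c : F, k ≠ c • (1 : Matrix ι ι F) := by
    by_contra hcon
    push Not at hcon
    have h1 : K = ⊥ := eq_bot_iff.2 fun k hk => by
      obtain ⟨c, hc⟩ := hcon k hk
      exact Algebra.mem_bot.2 ⟨c, by rw [hc, Algebra.algebraMap_eq_smul_one]⟩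
    have h2 := hK.finrank_eq
    rw [h1, Subalgebra.finrank_bot] at h2
    omega
  haveI : Finite (Matrix ι ι F) := inferInstanceAs (Finite (ι → ι → F))
  have hX := card_conjInvariant (X := (Set.toFinite (K : Set (Matrix ι ι F))).toFinset) hks
    fun g hg => by rw [Set.Finite.mem_toFinset]; exact (hle hg k).1 hk
  have hcard : (Set.toFinite (K : Set (Matrix ι ι F))).toFinset.card = Fintype.card F ^ r := by
    have h1 : Nat.card K = Nat.card F ^ finrank F K := Module.natCard_eq_pow_finrank
    rw [hK.finrank_eq, Nat.card_eq_fintype_card (α := F)] at h1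
    rw [← Set.ncard_eq_toFinset_card, ← Nat.card_coe_set_eq]
    exact h1
  rw [hcard] at hX
  set q := Fintype.card F
  set n := Fintype.card ι
  have hq : 2 ≤ q := Fintype.one_lt_card
  have hr' : q ^ 2 ≤ q ^ r := Nat.pow_le_pow_right (by omega) hr
  have h1 := two_pow_le hq (show r < n - 1 by omega)
  have h2 := two_pow_le hq (show n - 1 < n by omega)
  have h3 : 0 < q ^ r := pow_pos (by omega) _
  omega

/-- The outer products in one factor. -/
theorem exists_vecMulVec {d : ℕ} (a : GL (Fin d) F) (u v : Fin d → F) :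
    ∃ u' v', conjA a (Matrix.vecMulVec u v) = Matrix.vecMulVec u' v' :=
  ⟨a.val *ᵥ u, v ᵥ* (a⁻¹).val, by rw [conjA_apply, Matrix.mul_vecMulVec, Matrix.vecMulVec_mul]⟩

theorem vecMulVec_single_ne {d : ℕ} (hd : 2 ≤ d) (c : F) :
    Matrix.vecMulVec (Pi.single (⟨0, by omega⟩ : Fin d) (1 : F) : Fin d → F)
      (Pi.single (⟨0, by omega⟩ : Fin d) (1 : F) : Fin d → F) ≠ c • (1 : Matrix (Fin d) (Fin d) F) := fun h => by
  have h0 := congrFun (congrFun h (⟨0, by omega⟩ : Fin d)) (⟨0, by omega⟩ : Fin d)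
  have h1 := congrFun (congrFun h (⟨1, by omega⟩ : Fin d)) (⟨1, by omega⟩ : Fin d)
  simp [Matrix.vecMulVec_apply, Fin.ext_iff] at h0 h1
  first
    | exact one_ne_zero (h0.trans h1.symm)
    | simp_all

/-- The special linear group preserves no tensor decomposition with unequal factors. -/
theorem not_SL_le_tensor [Fintype F] {d k : ℕ} (hd : 2 ≤ d) (hdk : d < k) (e : ι ≃ Fin d × Fin k) (P : GL ι F) :
    ¬ specialLinear ι F ≤ tensorProductSubgroup d k e P := fun hle => by
  classical
  have hn : Fintype.card ι = d * k := by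
    rw [Fintype.card_congr e, Fintype.card_prod, Fintype.card_fin, Fintype.card_fin]
  have hdk' : 2 * d + 1 < d * k := by
    have := Nat.mul_le_mul_left d (show 3 ≤ k by omega)
    omega
  haveI : Nonempty ι := Fintype.card_pos_iff.1 (by omega)
  let z : Fin d := ⟨0, by omega⟩
  let z' : Fin k := ⟨0, by omega⟩
  let X : Finset (Matrix ι ι F) := (Finset.univ : Finset ((Fin d → F) × (Fin d → F))).image
    fun p => tensMat e P (Matrix.vecMulVec p.1 p.2) 1
  let k₀ := tensMat e P (Matrix.vecMulVec (Pi.single z (1 : F)) (Pi.single z 1)) (1 : Matrix (Fin k) (Fin k) F)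
  have hk₀ : ∀ c : F, k₀ ≠ c • 1 := fun c h => by
    refine vecMulVec_single_ne hd c (Matrix.ext fun i j => ?_)
    have h0 : c • (1 : Matrix ι ι F) = conjA P (((c • (1 : Matrix (Fin d) (Fin d) F)) ⊗ₖ (1 : Matrix (Fin k) (Fin k) F)).submatrix e e) := by
      rw [Matrix.smul_kronecker, Matrix.one_kronecker_one, Matrix.submatrix_smul, Pi.smul_apply, Pi.smul_apply,
        Matrix.submatrix_one_equiv, map_smul, map_one]
    have h1 := congrFun (congrFun ((conjA P).injective (h.trans h0)) (e.symm (i, z'))) (e.symm (j, z'))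
    simpa [Matrix.kroneckerMap_apply] using h1
  have hX := card_conjInvariant (X := X) hk₀ fun g hg => by
    obtain ⟨a, b, hab⟩ := mem_tensorProductSubgroup_iff.1 (hle hg)
    obtain ⟨u', v', he⟩ := exists_vecMulVec a (Pi.single z (1 : F)) (Pi.single z 1)
    refine Finset.mem_image.2 ⟨(u', v'), Finset.mem_univ _, ?_⟩
    have hinv : (g⁻¹).val = tensMat e P (a⁻¹).val (b⁻¹).val := by
      refine Units.inv_eq_of_mul_eq_one_right ?_
      rw [hab, tensMat_mul, Units.mul_inv, Units.mul_inv, tensMat_one]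
    show _ = g.val * k₀ * (g⁻¹).val
    rw [hab, hinv, tensMat_mul, tensMat_mul, mul_one, Units.mul_inv, ← conjA_apply, he]
  have hc : X.card ≤ Fintype.card F ^ (2 * d) := Finset.card_image_le.trans (by simp [two_mul, pow_add])
  rw [hn] at hX
  set q := Fintype.card F
  have hq : 2 ≤ q := Fintype.one_lt_card
  have h1 := two_pow_le hq (show 2 * d < d * k - 1 by omega)
  have h2 := two_pow_le hq (show d * k - 1 < d * k by omega)
  have h3 : q ^ 2 ≤ q ^ (2 * d) := Nat.pow_le_pow_right (by omega) (by omega)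
  have h4 : 0 < q ^ (2 * d) := pow_pos (by omega) _
  omega

theorem two_mul_add_le_pow {m t : ℕ} (hm : 3 ≤ m) (ht : 2 ≤ t) : 2 * m + t + 1 ≤ m ^ t := by
  induction t, ht using Nat.le_induction with
  | base => rw [sq]; nlinarith
  | succ t _ ih =>
    rw [pow_succ]
    have := Nat.mul_le_mul_left (m ^ t) hm
    omega

/-- The special linear group preserves no tensor power decomposition. -/
theorem not_SL_le_wreath [Fintype F] {m t : ℕ} (hm : 3 ≤ m) (ht : 2 ≤ t) (e : ι ≃ (Fin t → Fin m)) (P : GL ι F) :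
    ¬ specialLinear ι F ≤ tensorWreathSubgroup m t e P := fun hle => by
  classical
  have hn : Fintype.card ι = m ^ t := by rw [Fintype.card_congr e, Fintype.card_fun, Fintype.card_fin, Fintype.card_fin]
  have hpow := two_mul_add_le_pow hm ht
  haveI : Nonempty ι := Fintype.card_pos_iff.1 (by omega)
  let z : Fin m := ⟨0, by omega⟩
  let S : Set (Matrix (Fin t → Fin m) (Fin t → Fin m) F) :=
    {M | ∃ i u v, M = powStd i (Matrix.vecMulVec u v)}
  let X : Finset (Matrix ι ι F) := (Finset.univ : Finset (Fin t × (Fin m → F) × (Fin m → F))).image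
    fun p => powEmb e P p.1 (Matrix.vecMulVec p.2.1 p.2.2)
  let i₀ : Fin t := ⟨0, by omega⟩
  let M₀ := Matrix.vecMulVec (Pi.single z (1 : F)) (Pi.single z 1)
  have hk₀ : ∀ c : F, powEmb e P i₀ M₀ ≠ c • 1 := fun c h => by
    refine vecMulVec_single_ne (by omega : 2 ≤ m) c (powEmb_injective (by omega) e P i₀ (h.trans ?_))
    have h0 : powStd i₀ (c • (1 : Matrix (Fin m) (Fin m) F)) = c • powStd i₀ 1 := (powStdLin i₀).map_smul c 1
    rw [powEmb, h0, powStd_one, Matrix.submatrix_smul, Pi.smul_apply, Pi.smul_apply, Matrix.submatrix_one_equiv,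
      map_smul, map_one]
  have hstd : ∀ g ∈ tensorWreathStandard m t F, ∀ M ∈ S, conjA g M ∈ S := by
    intro g hg
    induction hg using Subgroup.closure_induction with
    | mem g hg =>
      rintro _ ⟨i, u, v, rfl⟩
      rcases hg with ⟨gs, hgs⟩ | ⟨σ, hσ⟩
      · refine ⟨i, (gs i).val *ᵥ u, v ᵥ* ((gs i)⁻¹).val, ?_⟩
        rw [← Matrix.vecMulVec_mul, ← Matrix.mul_vecMulVec, conjA_apply]
        have hgv : g.val = pureTens (fun i => (gs i).val) := Matrix.ext hgs
        have hgi : (g⁻¹).val = pureTens (fun i => ((gs i)⁻¹).val) :=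
          Units.inv_eq_of_mul_eq_one_right (by rw [hgv, pureTens_mul]; simp [pureTens_one])
        rw [hgv, hgi, powStd, pureTens_mul, pureTens_mul, powStd]
        congr 1
        funext j
        rcases eq_or_ne j i with rfl | hj
        · simp
        · simp [hj]
      · refine ⟨σ i, u, v, ?_⟩
        rw [conjA_apply]
        have h1 : g.val * powStd i (Matrix.vecMulVec u v) = powStd (σ i) (Matrix.vecMulVec u v) * g.val := by
          ext x y
          rw [Matrix.mul_apply, Matrix.mul_apply, Finset.sum_eq_single (x ∘ σ) (fun z _ hz => by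
              rw [hσ, if_neg hz, zero_mul]) (fun hn => absurd (Finset.mem_univ _) hn),
            Finset.sum_eq_single (y ∘ σ.symm) (fun z _ hz => by
              rw [hσ, if_neg (fun h => hz (by rw [h, Function.comp_assoc, Equiv.self_comp_symm, Function.comp_id])),
                mul_zero]) (fun hn => absurd (Finset.mem_univ _) hn)]
          rw [hσ, hσ, if_pos rfl, one_mul, if_pos (by rw [Function.comp_assoc, Equiv.symm_comp_self, Function.comp_id]),
            mul_one, powStd_apply, powStd_apply]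
          simp only [Function.comp_apply, Equiv.symm_apply_apply]
          refine if_congr ⟨fun h j hj => ?_, fun h j hj => ?_⟩ rfl rfl
          · simpa using h (σ.symm j) (fun e => hj (by rw [← e, Equiv.apply_symm_apply]))
          · simpa using h (σ j) (fun e => hj (σ.injective e))
        rw [h1, mul_assoc, Units.mul_inv, mul_one]
    | one => intro M hM; rwa [conjA_one]
    | mul g g' _ _ hg hg' => intro M hM; rw [conjA_mul]; exact hg _ (hg' M hM)
    | inv g _ hg =>
      haveI : Finite S := Finite.of_surjective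
        (fun p : Fin t × (Fin m → F) × (Fin m → F) => (⟨_, p.1, p.2.1, p.2.2, rfl⟩ : S))
        (by rintro ⟨_, i, u, v, rfl⟩; exact ⟨(i, u, v), rfl⟩)
      intro M hM
      obtain ⟨⟨N, hN⟩, hNM⟩ := Finite.surjective_of_injective (f := fun M : S => (⟨conjA g M.1, hg M.1 M.2⟩ : S))
        (fun M M' h => Subtype.ext ((conjA g).injective (congrArg Subtype.val h))) ⟨M, hM⟩
      rw [← show conjA g N = M from congrArg Subtype.val hNM, conjA_inv]
      exact hN
  have hX := card_conjInvariant (X := X) hk₀ fun g hg => by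
    obtain ⟨_, ⟨g₀, hg₀, rfl⟩, rfl⟩ := hle hg
    obtain ⟨i, u, v, hM⟩ := hstd g₀ hg₀ _ ⟨i₀, _, _, rfl⟩
    refine Finset.mem_image.2 ⟨(i, u, v), Finset.mem_univ _, ?_⟩
    let T : Matrix (Fin t → Fin m) (Fin t → Fin m) F ≃ₐ[F] Matrix ι ι F :=
      (Matrix.reindexAlgEquiv F F e.symm).trans (conjA P)
    have hv : ∀ y : GL (Fin t → Fin m) F, ((MulAut.conj P).toMonoidHom ((glReindex e.symm).toMonoidHom y)).val = T y.val :=
      fun _ => rfl
    show T (powStd i (Matrix.vecMulVec u v)) = _ * T (powStd i₀ M₀) * _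
    rw [← map_inv, ← map_inv, hv, hv, ← map_mul, ← map_mul, ← conjA_apply, hM]
  have hc : X.card ≤ t * Fintype.card F ^ (2 * m) := Finset.card_image_le.trans (by simp [two_mul, pow_add])
  rw [hn] at hX
  set q := Fintype.card F
  have hq : 2 ≤ q := Fintype.one_lt_card
  have h2t : t + 1 ≤ q ^ t :=
    (Nat.lt_two_pow_self).trans_le (Nat.pow_le_pow_left hq t)
  have h3 : q ^ 2 ≤ q ^ (2 * m) := Nat.pow_le_pow_right (by omega) (by omega)
  have h4 : (t + 1) * q ^ (2 * m) ≤ q ^ (2 * m + t) := by
    rw [pow_add, mul_comm (q ^ (2 * m))]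
    exact Nat.mul_le_mul_right _ h2t
  have h5 := two_pow_le hq (show 2 * m + t < m ^ t by omega)
  have h6 : 0 < q ^ (2 * m + t) := pow_pos (by omega) _
  rw [add_mul, one_mul] at h4
  omega

theorem sq_add_one_lt_pow {n : ℕ} (hn : 5 ≤ n) : n ^ 2 + 1 < 3 ^ (n - 2) := by
  induction n, hn using Nat.le_induction with
  | base => norm_num
  | succ n hn ih =>
    rw [show n + 1 - 2 = (n - 2) + 1 by omega, pow_succ 3]
    generalize 3 ^ (n - 2) = T at ih ⊢
    have h' := Nat.mul_le_mul_left n hn
    rw [sq] at ih ⊢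
    simp only [add_mul, mul_add, one_mul, mul_one] at *
    omega

/-- The special linear group normalises no group of symplectic type. -/
theorem not_SL_le_six [Fintype F] (hn : 4 ≤ Fintype.card ι) {r m : ℕ} {R : Subgroup (GL ι F)}
    (hnr : Fintype.card ι = r ^ m) (hcard : Nat.card R ≤ r ^ 2 * Fintype.card ι ^ 2)
    (hR : IsLinearSymplecticTypeData r R) : ¬ specialLinear ι F ≤ subgroupNormalizer R := fun hle => by
  classical
  haveI : Nonempty ι := Fintype.card_pos_iff.1 (by omega)
  obtain ⟨g, hg, hgs⟩ := Set.not_subset.1 (fun h => not_irr_scalars (by omega) h hR.absIrred.1)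
  haveI : Finite (Matrix ι ι F) := inferInstanceAs (Finite (ι → ι → F))
  have hX := card_conjInvariant (X := (Set.toFinite (matrixSet R)).toFinset) (ne_smul_of_notMem hgs)
    fun h hh => by
      rw [Set.Finite.mem_toFinset]
      exact ⟨h * g * h⁻¹, (Subgroup.mem_normalizer_iff.1 (hle hh) g).1 hg, by simp [Units.val_mul]⟩
  have hXc : (Set.toFinite (matrixSet R)).toFinset.card ≤ Nat.card R := by
    rw [← Set.ncard_eq_toFinset_card]
    exact (Set.ncard_image_le (Set.toFinite _)).trans_eq (Nat.card_coe_set_eq _).symm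
  obtain ⟨p, e, -, ⟨-, -, hF, hdvd, -⟩, hcases⟩ := hR.field
  set q := Fintype.card F
  set n := Fintype.card ι
  have hq : r < q ∧ (n = 4 → 5 ≤ q) ∧ 3 ≤ q := by
    have hr2 := hR.symplecticType.prime.two_le
    have hq1 : 2 ≤ q := Fintype.one_lt_card
    rw [← hF] at hdvd
    rcases hcases with ⟨hodd, -, hZ, -⟩ | ⟨rfl, -, hZ, -⟩ | ⟨rfl, -, h2, -⟩
    · rw [hZ] at hdvd
      have h1 := Nat.le_of_dvd (by omega) hdvd
      refine ⟨by omega, fun h4 => ?_, by omega⟩
      exfalso
      rw [hnr] at h4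
      have hrd : r ∣ 2 ^ 2 := by
        rcases Nat.eq_zero_or_pos m with rfl | hm
        · simp at h4
        · rw [show (2 : ℕ) ^ 2 = r ^ m by omega]; exact dvd_pow_self r hm.ne'
      have := (Nat.prime_dvd_prime_iff_eq hR.symplecticType.prime Nat.prime_two).1
        (hR.symplecticType.prime.dvd_of_dvd_pow hrd)
      subst this
      exact absurd hodd (by decide)
    · rw [hZ] at hdvd
      have h1 := Nat.le_of_dvd (by omega) hdvd
      exact ⟨by omega, fun _ => by omega, by omega⟩
    · exact absurd hn (by omega)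
  obtain ⟨hq1, hq4, hq3⟩ := hq
  have hr2 : r ^ 2 ≤ q ^ 2 := Nat.pow_le_pow_left hq1.le 2
  have h1 : Nat.card R ≤ q ^ 2 * n ^ 2 := hcard.trans (Nat.mul_le_mul_right _ hr2)
  have h2 : n ^ 2 + 1 < q ^ (n - 2) := by
    rcases Nat.lt_or_ge n 5 with h | h
    · have h4 : n = 4 := by omega
      rw [h4]
      calc 4 ^ 2 + 1 < 5 ^ 2 := by norm_num
        _ ≤ q ^ (4 - 2) := Nat.pow_le_pow_left (hq4 h4) 2
    · exact (sq_add_one_lt_pow h).trans_le (Nat.pow_le_pow_left hq3 _)
  have h3 := Nat.mul_lt_mul_of_pos_left h2 (show 0 < q ^ 2 by positivity)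
  rw [← pow_add, show 2 + (n - 2) = n by omega, mul_add, mul_one] at h3
  omega

end Cfsg.Lib.Linear.AschGen
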