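import Cfsg.Agent.Lib.Linear.AschGen.Descent
import Cfsg.Agent.Lib.Linear.AschGen.Gram

/-!
# Groups normalising a group of symplectic type, linear case
-/

set_option autoImplicit false
set_option linter.unusedSectionVars false
set_option linter.style.haveILetI false

namespace Cfsg.Lib.Linear.AschGen

open Cfsg.Geo Cfsg.Lib.Linear.Asch Module
open scoped Matrix MatrixGroups commutatorElement

variable {ι : Type} [Fintype ι] [DecidableEq ι] {F : Type*} [Field F] {H R : Subgroup (GL ι F)} {r m : ℕ}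

theorem exists_invariant [Finite F] [Nonempty ι] (hS : Six H R r m) (σ : F ≃+* F)
    (hz : ∀ x ∈ R, ∀ c : F, (x : Matrix ι ι F) = c • 1 → c * σ c = 1) :
    ∃ G : Matrix ι ι F, G ≠ 0 ∧ ∀ x ∈ R, x.valᵀ * G * x.val.map σ = G := by
  classical
  haveI := Fintype.ofFinite F
  haveI : Finite R := inferInstance
  haveI := Fintype.ofFinite R
  let S : Matrix ι ι F → Matrix ι ι F := fun G₀ => ∑ x : R, x.1.valᵀ * G₀ * x.1.val.map σ
  have hinv : ∀ G₀, ∀ y ∈ R, y.valᵀ * S G₀ * y.val.map σ = S G₀ := fun G₀ y hy => by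
    simp only [S, Finset.mul_sum, Finset.sum_mul]
    refine Fintype.sum_equiv (Equiv.mulRight (⟨y, hy⟩ : R)) _ _ fun x => ?_
    simp only [Equiv.coe_mulRight, Subgroup.coe_mul, Units.val_mul, Matrix.transpose_mul, Matrix.map_mul, mul_assoc]
  by_contra hcon
  push Not at hcon
  have hzero : ∀ G₀, S G₀ = 0 := fun G₀ => by
    by_contra h0
    obtain ⟨y, hy, hne⟩ := hcon _ h0
    exact hne (hinv G₀ y hy)
  have h1 : ∀ k l, ∑ x : R, x.1.val k k * σ (x.1.val l l) = 0 := fun k l => by
    have e0 := congrFun (congrFun (hzero (Matrix.single k l 1)) k) l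
    simp only [S, Matrix.sum_apply, Matrix.zero_apply] at e0
    refine Eq.trans (Finset.sum_congr rfl fun x _ => ?_) e0
    rw [Matrix.mul_apply, Finset.sum_eq_single l (fun j _ hj => by
        rw [Matrix.mul_apply, Finset.sum_eq_zero (fun i _ => by simp [Matrix.single_apply, hj.symm]), zero_mul])
      (fun h => absurd (Finset.mem_univ _) h), Matrix.mul_apply, Finset.sum_eq_single k
        (fun i _ hi => by simp [Matrix.single_apply, hi.symm]) (fun h => absurd (Finset.mem_univ _) h)]
    simp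
  have h2 : ∑ x : R, x.1.val.trace * σ x.1.val.trace = 0 := by
    simp only [Matrix.trace, Matrix.diag, map_sum, Finset.sum_mul, Finset.mul_sum]
    rw [Finset.sum_comm]
    refine Finset.sum_eq_zero fun k _ => ?_
    rw [Finset.sum_comm]
    exact Finset.sum_eq_zero fun l _ => h1 l k
  have h3 : ∀ x : R, x.1.val.trace * σ x.1.val.trace =
      if x ∈ Subgroup.center R then (Fintype.card ι : F) * Fintype.card ι else 0 := fun x => by
    split_ifs with hx
    · obtain ⟨c, hc⟩ := (mem_scalars_iff _).1 (Subgroup.mem_subgroupOf.1 (hS.center_eq.le hx))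
      rw [hc, Matrix.trace_smul, Matrix.trace_one, smul_eq_mul, map_mul, map_natCast,
        mul_mul_mul_comm, hz _ x.2 c hc, one_mul]
    · rw [Subgroup.mem_center_iff] at hx
      push Not at hx
      obtain ⟨y, hy⟩ := hx
      obtain ⟨c, hc⟩ := (mem_scalars_iff _).1 (hS.comm_scalar (Subgroup.commutator_mem_commutator y.2 x.2))
      have e1 : (y.1 * x.1 * y.1⁻¹).val = (c : F) • x.1.val := by
        have : y.1 * x.1 * y.1⁻¹ = ⁅y.1, x.1⁆ * x.1 := by simp [commutatorElement_def, mul_assoc]
        rw [this, Units.val_mul, hc, Matrix.smul_mul, one_mul]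
      have hc1 : (c : F) ≠ 1 := fun e => hy (Subtype.ext (commutatorElement_eq_one_iff_mul_comm.1
        (Units.ext (by rw [hc, e, one_smul, Units.val_one]))))
      have e2 := congrArg Matrix.trace e1
      rw [Units.val_mul, Units.val_mul, Matrix.trace_mul_cycle, Units.inv_mul, one_mul, Matrix.trace_smul,
        smul_eq_mul] at e2
      rw [(mul_eq_zero.1 (show ((c : F) - 1) * x.1.val.trace = 0 by rw [sub_mul, one_mul, ← e2, sub_self])
        ).resolve_left (sub_ne_zero.2 hc1), zero_mul]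
  simp only [h3, Finset.sum_ite, Finset.sum_const_zero, add_zero, Finset.sum_const, nsmul_eq_mul] at h2
  have hcard : (Finset.univ.filter fun x => x ∈ Subgroup.center R).card = Nat.card (Subgroup.center R) := by
    rw [Nat.card_eq_fintype_card, Fintype.card_subtype]
  rw [hcard] at h2
  obtain ⟨k, hk⟩ : ∃ k, Nat.card (Subgroup.center R) = r ^ k := by
    rcases hS.center_card with ⟨-, h⟩ | ⟨rfl, h | h⟩
    · exact ⟨1, by rw [h, pow_one]⟩
    · exact ⟨1, h⟩
    · exact ⟨2, h⟩
  rw [hk, hS.card_eq, Nat.cast_pow, Nat.cast_pow] at h2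
  exact mul_ne_zero (pow_ne_zero k hS.char_ne) (mul_ne_zero (pow_ne_zero m hS.char_ne) (pow_ne_zero m hS.char_ne)) h2

theorem isUnit_det_invariant [Nonempty ι] (hirr : ActsIrreducibly (matrixSet R)) (σ : F ≃+* F) {G : Matrix ι ι F}
    (h0 : G ≠ 0) (hG : ∀ x ∈ R, x.valᵀ * G * x.val.map σ = G) : IsUnit G.det := by
  rw [isUnit_iff_ne_zero]
  intro hd
  obtain ⟨w, hw0, hw⟩ := Matrix.exists_mulVec_eq_zero_iff.2 hd
  let K : Submodule F (ι → F) :=
    { carrier := {v | G *ᵥ (σ ∘ v) = 0}
      add_mem' := fun {a b} ha hb => by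
        show G *ᵥ (σ ∘ (a + b)) = 0
        rw [show σ ∘ (a + b) = σ ∘ a + σ ∘ b from funext fun i => map_add σ _ _, Matrix.mulVec_add, ha, hb, add_zero]
      zero_mem' := by
        show G *ᵥ (σ ∘ (0 : ι → F)) = 0
        rw [show σ ∘ (0 : ι → F) = 0 from funext fun i => map_zero σ, Matrix.mulVec_zero]
      smul_mem' := fun c v hv => by
        show G *ᵥ (σ ∘ (c • v)) = 0
        rw [show σ ∘ (c • v) = σ c • (σ ∘ v) from funext fun i => map_mul σ _ _, Matrix.mulVec_smul, hv, smul_zero] }
  rcases irr_iff.1 hirr K (fun g hg v hv => by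
    show G *ᵥ (σ ∘ (g.val *ᵥ v)) = 0
    have h1 : g.valᵀ *ᵥ (G *ᵥ (σ ∘ (g.val *ᵥ v))) = 0 := by
      rw [map_mulVec', Matrix.mulVec_mulVec, Matrix.mulVec_mulVec]
      exact (congrArg (fun z => z *ᵥ (σ ∘ v)) (hG g hg)).trans hv
    have hu : IsUnit (g.valᵀ).det := by rw [Matrix.det_transpose]; exact g.isUnit.map Matrix.detMonoidHom
    have h2 := congrArg (fun z => (g.valᵀ)⁻¹ *ᵥ z) h1
    simpa [Matrix.mulVec_mulVec, ← Matrix.mul_assoc, Matrix.nonsing_inv_mul _ hu] using h2) with h | h
  · have h1 : σ.symm ∘ w ∈ K := by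
      show G *ᵥ (σ ∘ σ.symm ∘ w) = 0
      rw [show σ ∘ σ.symm ∘ w = w from funext fun i => σ.apply_symm_apply _, hw]
    rw [h, Submodule.mem_bot] at h1
    exact hw0 (funext fun i => by
      have := congrArg σ (congrFun h1 i)
      simpa using this)
  · refine h0 (Matrix.ext_of_mulVec_single fun j => ?_)
    have h1 : (Pi.single j 1 : ι → F) ∈ K := h ▸ Submodule.mem_top
    rw [Matrix.zero_mulVec, ← (show σ ∘ (Pi.single j 1 : ι → F) = Pi.single j 1 from funext fun i => by
      by_cases hij : i = j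
      · subst hij; simp
      · simp [hij])]
    exact h1

theorem le_similarity_of_invariant [Finite F] [Nonempty ι] (hS : Six H R r m) {σ : F ≃+* F} {G : Matrix ι ι F}
    (hu : IsUnit G.det) (hG : ∀ x ∈ R, x.valᵀ * G * x.val.map σ = G) : H ≤ similarityGroup (gramForm σ G) :=
  fun g hg => mem_similarityGroup hS.absIrr (isSesq_gramForm hu) (by
    rintro _ ⟨x, hx, rfl⟩ u v
    rw [gramForm_act, hG x hx, gramForm]) (hS.sub.normal g hg)

/-- A hermitian invariant form. -/
theorem exists_unitary_six [Finite F] [Nonempty ι] (hS : Six H R r m) (σ : F ≃+* F) (hne : σ ≠ RingEquiv.refl F)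
    (hinv : ∀ a, σ (σ a) = a) (hz : ∀ x ∈ R, ∀ c : F, (x : Matrix ι ι F) = c • 1 → c * σ c = 1) :
    ∃ f : (ι → F) → (ι → F) → F, IsUnitaryForm σ f ∧ H ≤ similarityGroup f := by
  obtain ⟨G, hG0, hG⟩ := exists_invariant hS σ hz
  let T : F → Matrix ι ι F := fun a => a • G + ((a • G).map σ)ᵀ
  have hT : ∀ a, ∀ x ∈ R, x.valᵀ * T a * x.val.map σ = T a := fun a x hx => by
    have e1 : x.valᵀ * (a • G) * x.val.map σ = a • G := by rw [Matrix.mul_smul, Matrix.smul_mul, hG x hx]
    have e2 := congrArg (fun M : Matrix ι ι F => (M.map σ)ᵀ) e1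
    simp only [Matrix.map_mul, Matrix.transpose_mul, Matrix.map_map, Matrix.transpose_map, Matrix.transpose_transpose,
      show (⇑σ ∘ ⇑σ) = id from funext hinv, Matrix.map_id] at e2
    simp only [T, Matrix.mul_add, Matrix.add_mul, e1]
    rw [show x.valᵀ * ((a • G).map σ)ᵀ * x.val.map σ = ((a • G).map σ)ᵀ from by
      simpa [mul_assoc, ← Matrix.transpose_map] using e2]
  have hH : ∀ a, ((T a).map σ)ᵀ = T a := fun a => by
    ext i j
    simp [T, hinv, add_comm]
  obtain ⟨a, ha⟩ : ∃ a, T a ≠ 0 := by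
    by_contra hcon
    push Not at hcon
    obtain ⟨a, ha⟩ : ∃ a, σ a ≠ a := by
      by_contra h
      push Not at h
      exact hne (RingEquiv.ext h)
    refine hG0 (Matrix.ext fun i j => ?_)
    have e1 := congrFun (congrFun (hcon 1) i) j
    have e2 := congrFun (congrFun (hcon a) i) j
    simp only [T, one_smul, Matrix.add_apply, Matrix.transpose_apply, Matrix.map_apply, Matrix.smul_apply,
      smul_eq_mul, map_mul, Matrix.zero_apply] at e1 e2
    have : (a - σ a) * G i j = 0 := by linear_combination e2 - σ a * e1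
    exact (mul_eq_zero.1 this).resolve_left (sub_ne_zero.2 ha.symm)
  have hu := isUnit_det_invariant hS.absIrr.1 σ ha (hT a)
  exact ⟨_, isUnitaryForm_gram hne hinv hu (hH a), le_similarity_of_invariant hS hu (hT a)⟩

theorem exists_bilinear_six [Fintype F] [Nonempty ι] (hS : Six H R r m) (h2 : (2 : F) ≠ 0)
    (hz : ∀ x ∈ R, ∀ c : F, (x : Matrix ι ι F) = c • 1 → c * c = 1) :
    (∃ f, IsSymplecticForm f ∧ H ≤ similarityGroup f) ∨
      ∃ Q, IsNondegenerateQuadraticForm Q ∧ H ≤ quadSimilarityGroup Q := by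
  obtain ⟨G, hG0, hG⟩ := exists_invariant hS (RingEquiv.refl F) hz
  have hmap : ∀ M : Matrix ι ι F, M.map (RingEquiv.refl F) = M := fun M => by ext i j; rfl
  by_cases hsym : G + Gᵀ = 0
  · left
    have hskew : Gᵀ = -G := eq_neg_of_add_eq_zero_right hsym
    have hd : ∀ i, G i i = 0 := fun i => by
      have := congrFun (congrFun hsym i) i
      simp only [Matrix.add_apply, Matrix.transpose_apply, Matrix.zero_apply, ← two_mul] at this
      exact (mul_eq_zero.1 this).resolve_left h2
    have hu := isUnit_det_invariant hS.absIrr.1 _ hG0 hG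
    exact ⟨_, isSymplecticForm_gram hu hskew hd, le_similarity_of_invariant hS hu hG⟩
  · right
    have hG' : ∀ x ∈ R, x.valᵀ * (G + Gᵀ) * x.val.map (RingEquiv.refl F) = G + Gᵀ := fun x hx => by
      have e1 := hG x hx
      rw [hmap] at e1 ⊢
      have e2 := congrArg Matrix.transpose e1
      simp only [Matrix.transpose_mul, Matrix.transpose_transpose] at e2
      rw [Matrix.mul_add, Matrix.add_mul, e1, Matrix.mul_assoc, e2]
    have hu := isUnit_det_invariant hS.absIrr.1 _ hsym hG'
    obtain ⟨Q, hQ, hle⟩ := quad_gram hu h2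
      (by rw [Matrix.transpose_add, Matrix.transpose_transpose, add_comm] : (G + Gᵀ)ᵀ = G + Gᵀ)
    exact ⟨Q, hQ, (le_similarity_of_invariant hS hu hG').trans hle⟩

theorem card_center_dvd [Fintype F] [Nonempty ι] (hS : Six H R r m) :
    Nat.card (Subgroup.center R) ∣ Fintype.card F - 1 := by
  classical
  rw [← Fintype.card_units, ← Nat.card_eq_fintype_card]
  have h1 : (Subgroup.center R).map R.subtype ≤ scalars ι F := by
    rintro _ ⟨x, hx, rfl⟩
    exact Subgroup.mem_subgroupOf.1 (hS.center_eq.le hx)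
  have h2 := Subgroup.card_dvd_of_le h1
  rw [Nat.card_congr ((Subgroup.center R).equivMapOfInjective R.subtype R.subtype_injective).symm.toEquiv] at h2
  exact h2.trans (Subgroup.card_range_dvd _)

theorem six_realisable [Fintype F] [Nonempty ι] (hS : Six H R r m) {p d e : ℕ} [Fact p.Prime] [CharP F p]
    (hq : Fintype.card F = p ^ e) (hd0 : 0 < d) (hde : d ∣ e) (hne : d ≠ e)
    (hz : ∀ x ∈ R, ∀ c : F, (x : Matrix ι ι F) = c • 1 → c ^ p ^ d = c) :
    ∃ (F₁ : Subfield F) (s : ℕ) (P : GL ι F), s.Prime ∧ Fintype.card F = Nat.card F₁ ^ s ∧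
      H ≤ subfieldSubgroup F₁ P := by
  obtain ⟨F₀, hF₀, hmem⟩ := exists_subfield_pow (F := F) p e d hq hd0 hde
  have hne' : F₀ ≠ ⊤ := fun h => by
    rw [h, Nat.card_congr Subfield.topEquiv.toEquiv, Nat.card_eq_fintype_card, hq] at hF₀
    exact hne (Nat.pow_right_injective (Fact.out (p := p.Prime)).two_le hF₀).symm
  obtain ⟨F₁, s, P, -, hs, hc, hle⟩ := realisable_le hne' hS.absIrr hS.sub.normal
    (realisable_six hS F₀ fun x hx c hc => (hmem c).2 (hz x hx c hc))
  exact ⟨F₁, s, P, hs, hc, hle⟩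

/-- The linear refinement of the symplectic-type case. -/
theorem six_cases [Fintype F] (hn : 3 ≤ Fintype.card ι) (hS : Six H R r m) :
    (IsLinearSymplecticTypeData r R ∧ H ≤ subgroupNormalizer R) ∨
    (∃ (F₁ : Subfield F) (s : ℕ) (P : GL ι F), s.Prime ∧ Fintype.card F = Nat.card F₁ ^ s ∧
      H ≤ subfieldSubgroup F₁ P) ∨
    (∃ f, IsSymplecticForm f ∧ H ≤ similarityGroup f) ∨
    (∃ (σ : F ≃+* F) (f : (ι → F) → (ι → F) → F), IsUnitaryForm σ f ∧ H ≤ similarityGroup f) ∨
    (Odd (Fintype.card F) ∧ ∃ Q, IsNondegenerateQuadraticForm Q ∧ H ≤ quadSimilarityGroup Q) := by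
  classical
  haveI : Nonempty ι := Fintype.card_pos_iff.1 (by omega)
  obtain ⟨p, hp⟩ := CharP.exists F
  obtain ⟨e, hpp, he⟩ := FiniteField.card F p
  haveI := Fact.mk hpp
  have hr := hS.symp.prime
  haveI := Fact.mk hr
  have hrp : r ≠ p := fun h => hS.char_ne (by rw [h, CharP.cast_eq_zero])
  have hnorm : H ≤ subgroupNormalizer R := fun g hg =>
    Subgroup.mem_normalizer_iff.2 (map_conj_normal hS.sub.normal hg)
  have hcent : ∀ x ∈ R, ∀ c : F, (x : Matrix ι ι F) = c • 1 →
      c ^ Nat.card (Subgroup.center R) = 1 ∧ c ≠ 0 := by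
    intro x hx c hc
    have h0 : c ≠ 0 := by
      rintro rfl
      rw [zero_smul] at hc
      exact x.isUnit.ne_zero hc
    have hxc : (⟨x, hx⟩ : R) ∈ Subgroup.center R :=
      hS.center_eq.ge (Subgroup.mem_subgroupOf.2 (mem_scalars_of_smul hc))
    have h1 := congrArg (fun z : Subgroup.center R => ((z : R) : GL ι F).val)
      (pow_card_eq_one' (x := (⟨⟨x, hx⟩, hxc⟩ : Subgroup.center R)))
    simp only [SubmonoidClass.coe_pow, Units.val_pow_eq_pow_val, hc, smul_pow, one_pow, OneMemClass.coe_one,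
      Units.val_one] at h1
    obtain ⟨i⟩ := ‹Nonempty ι›
    exact ⟨by simpa using congrFun (congrFun h1 i) i, h0⟩
  rcases hS.center_card with ⟨hodd, hZ⟩ | ⟨rfl, hZ | hZ⟩
  · -- odd prime
    haveI : NeZero r := ⟨hr.ne_zero⟩
    have hp0 : (p : ZMod r) ≠ 0 := by
      rw [Ne, ZMod.natCast_eq_zero_iff]
      exact fun h => hrp ((Nat.prime_dvd_prime_iff_eq hr hpp).1 h)
    have hiff : ∀ d, r ∣ p ^ d - 1 ↔ (p : ZMod r) ^ d = 1 := fun d => by
      rw [← ZMod.natCast_eq_zero_iff, Nat.cast_sub (Nat.one_le_pow d p hpp.pos)]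
      push_cast
      exact sub_eq_zero
    have hrdvd : r ∣ p ^ (e : ℕ) - 1 := by rw [← he, ← hZ]; exact card_center_dvd hS
    set d := orderOf (p : ZMod r) with hd
    have hde : d ∣ e := orderOf_dvd_of_pow_eq_one ((hiff _).1 hrdvd)
    have hd0 : 0 < d := Nat.pos_of_dvd_of_pos hde e.pos
    by_cases hne : d = (e : ℕ)
    swap
    · refine Or.inr (Or.inl (six_realisable hS he hd0 hde hne fun x hx c hc => ?_))
      obtain ⟨k, hk⟩ := (hiff d).2 (pow_orderOf_eq_one _)
      have h1 : p ^ d = r * k + 1 := by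
        have := Nat.one_le_pow d p hpp.pos
        omega
      rw [h1, pow_succ, pow_mul, ← hZ, (hcent x hx c hc).1, one_pow, one_mul]
    rw [← hne] at he
    rcases Nat.even_or_odd d with ⟨d', hd'⟩ | hdo
    · let σ : F ≃+* F := iterateFrobeniusEquiv F p d'
      have hσ : ∀ a, σ a = a ^ p ^ d' := fun a => iterateFrobeniusEquiv_def F p d' a
      have hinv : ∀ a, σ (σ a) = a := fun a => by
        rw [hσ, hσ, ← pow_mul, ← pow_add, ← hd', ← he, FiniteField.pow_card]
      have hm1 : (p : ZMod r) ^ d' = -1 := by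
        have h1 : (p : ZMod r) ^ d' * (p : ZMod r) ^ d' = 1 := by rw [← pow_add, ← hd', pow_orderOf_eq_one]
        refine (mul_self_eq_one_iff.1 h1).resolve_left fun h2 => ?_
        have := orderOf_dvd_of_pow_eq_one h2
        rw [← hd] at this
        have := Nat.le_of_dvd (by omega) this
        omega
      have hne' : σ ≠ RingEquiv.refl F := fun h => by
        have h1 : ∀ a : F, a ^ p ^ d' = a := fun a => by rw [← hσ, h]; rfl
        obtain ⟨g, hg⟩ := IsCyclic.exists_ofOrder_eq_natCard (α := Fˣ)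
        have h2 := congrArg Units.val (pow_orderOf_eq_one g)
        have h3 : g ^ (p ^ d' - 1) = 1 := by
          refine Units.ext (mul_left_cancel₀ g.ne_zero ?_)
          rw [Units.val_pow_eq_pow_val, ← pow_succ', Nat.sub_add_cancel (Nat.one_le_pow _ _ hpp.pos), h1,
            Units.val_one, mul_one]
        have h4 := orderOf_dvd_of_pow_eq_one h3
        rw [hg, Nat.card_units, Nat.card_eq_fintype_card, he] at h4
        have h5 : p ^ d' < p ^ d := Nat.pow_lt_pow_right hpp.one_lt (by omega)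
        have h6 : 0 < p ^ d' - 1 := by
          have := Nat.one_lt_pow (show d' ≠ 0 by omega) hpp.one_lt
          omega
        have := Nat.le_of_dvd h6 h4
        omega
      refine Or.inr (Or.inr (Or.inr (Or.inl ?_)))
      obtain ⟨f, hf, hle⟩ := exists_unitary_six hS σ hne' hinv fun x hx c hc => by
        rw [hσ, ← pow_succ']
        obtain ⟨k, hk⟩ : r ∣ p ^ d' + 1 := by
          rw [← ZMod.natCast_eq_zero_iff]
          push_cast
          rw [hm1, neg_add_cancel]
        rw [hk, pow_mul, ← hZ, (hcent x hx c hc).1, one_pow]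
      exact ⟨σ, f, hf, hle⟩
    · refine Or.inl ⟨⟨hS.symp, hS.absIrr, p, d, hrp, ?_, Or.inl ⟨hodd, hdo, hZ, m, hS.pos, ?_⟩⟩, hnorm⟩
      · rw [hZ]
        refine ⟨hpp, hp, he, (hiff d).2 (pow_orderOf_eq_one _), fun k hk0 hk hdvd => ?_⟩
        have := Nat.le_of_dvd hk0 (orderOf_dvd_of_pow_eq_one ((hiff k).1 hdvd))
        omega
      · rw [hS.card, hZ, pow_add, pow_one, mul_comm]
  · -- centre of order two
    have h2 : (2 : F) ≠ 0 := by exact_mod_cast hS.char_ne
    have hsq : ∀ x ∈ R, ∀ c : F, (x : Matrix ι ι F) = c • 1 → c * c = 1 := fun x hx c hc => by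
      have := (hcent x hx c hc).1
      rwa [hZ, sq] at this
    rcases exists_bilinear_six hS h2 hsq with h | ⟨Q, hQ, hle⟩
    · exact Or.inr (Or.inr (Or.inl h))
    · exact Or.inr (Or.inr (Or.inr (Or.inr ⟨odd_card_of_two_ne_zero h2, Q, hQ, hle⟩)))
  · -- centre of order four
    have h2 : (2 : F) ≠ 0 := by exact_mod_cast hS.char_ne
    have h4 : 4 ∣ p ^ (e : ℕ) - 1 := by rw [← he, ← hZ]; exact card_center_dvd hS
    have hp2 : p % 2 = 1 := (hpp.eq_two_or_odd).resolve_left fun h => hrp h.symm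
    by_cases hp4 : p % 4 = 1
    · by_cases he1 : (e : ℕ) = 1
      · rw [he1] at he
        refine Or.inl ⟨⟨hS.symp, hS.absIrr, p, 1, hrp, ?_, Or.inr (Or.inl ⟨rfl, rfl, hZ, ?_, m, ?_⟩)⟩, hnorm⟩
        · rw [hZ]
          exact ⟨hpp, hp, he, by rw [pow_one]; omega, fun k hk0 hk => absurd hk (by omega)⟩
        · rw [hS.card_eq] at hn ⊢
          calc 4 = 2 ^ 2 := by norm_num
            _ ≤ 2 ^ m := Nat.pow_le_pow_right two_pos (by
              rcases Nat.lt_or_ge m 2 with hm | hm
              · have := hS.pos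
                obtain rfl : m = 1 := by omega
                omega
              · exact hm)
        · rw [hS.card, hZ, pow_add, mul_comm]; rfl
      · refine Or.inr (Or.inl (six_realisable hS he one_pos (one_dvd _) (Ne.symm he1) fun x hx c hc => ?_))
        obtain ⟨h1, h0⟩ := hcent x hx c hc
        rw [hZ] at h1
        rw [pow_one, show p = 4 * (p / 4) + 1 by omega, pow_succ, pow_mul, h1, one_pow, one_mul]
    · have hp3 : p % 4 = 3 := by omega
      have heven : Even (e : ℕ) := by
        rcases Nat.even_or_odd (e : ℕ) with h | ⟨k, hk⟩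
        · exact h
        · exfalso
          have h1 : p ^ (e : ℕ) % 4 = 3 := by
            rw [hk, pow_succ, pow_mul, Nat.mul_mod, Nat.pow_mod, Nat.pow_mod (a := p) (b := 2), hp3]
            simp
          omega
      by_cases he2 : (e : ℕ) = 2
      · rw [he2] at he
        let σ : F ≃+* F := frobeniusEquiv F p
        have hσ : ∀ a, σ a = a ^ p := fun a => frobeniusEquiv_apply F p a
        have hinv : ∀ a, σ (σ a) = a := fun a => by
          rw [hσ, hσ, ← pow_mul, ← sq, ← he, FiniteField.pow_card]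
        have hne' : σ ≠ RingEquiv.refl F := fun h => by
          have h1 : ∀ a : F, a ^ p = a := fun a => by rw [← hσ, h]; rfl
          have hsub : (Finset.univ : Finset F) ⊆ (Polynomial.X ^ p - Polynomial.X : Polynomial F).roots.toFinset :=
            fun a _ => by
              rw [Multiset.mem_toFinset, Polynomial.mem_roots (FiniteField.X_pow_card_sub_X_ne_zero F hpp.one_lt),
                Polynomial.IsRoot, Polynomial.eval_sub, Polynomial.eval_pow, Polynomial.eval_X, h1, sub_self]
          have := (Finset.card_le_card hsub).trans ((Multiset.toFinset_card_le _).trans (Polynomial.card_roots' _))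
          rw [Finset.card_univ, he, FiniteField.X_pow_card_sub_X_natDegree_eq F hpp.one_lt] at this
          have := Nat.pow_lt_pow_right hpp.one_lt (show 1 < 2 by norm_num)
          rw [pow_one] at this
          omega
        refine Or.inr (Or.inr (Or.inr (Or.inl ?_)))
        obtain ⟨f, hf, hle⟩ := exists_unitary_six hS σ hne' hinv fun x hx c hc => by
          obtain ⟨h1, h0⟩ := hcent x hx c hc
          rw [hZ] at h1
          rw [hσ, ← pow_succ', show p + 1 = 4 * (p / 4 + 1) by omega, pow_mul, h1, one_pow]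
        exact ⟨σ, f, hf, hle⟩
      · refine Or.inr (Or.inl (six_realisable hS he two_pos heven.two_dvd (Ne.symm he2) fun x hx c hc => ?_))
        obtain ⟨h1, h0⟩ := hcent x hx c hc
        rw [hZ] at h1
        have h5 : p ^ 2 % 4 = 1 := by rw [Nat.pow_mod, hp3]
        rw [show p ^ 2 = 4 * (p ^ 2 / 4) + 1 by omega, pow_succ, pow_mul, h1, one_pow, one_mul]

end Cfsg.Lib.Linear.AschGen
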