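import Cfsg.Agent.Lib.Linear.AschGen.NotSLGen

/-!
# Coincidences between the classes over very small fields
-/

set_option autoImplicit false
set_option linter.unusedSectionVars false
set_option linter.style.haveILetI false

namespace Cfsg.Lib.Linear.AschGen

open Cfsg.Geo Cfsg.Lib.Linear Cfsg.Lib.Linear.Asch Module
open scoped Matrix MatrixGroups Kronecker

variable {ι : Type} [Fintype ι] [DecidableEq ι] {F : Type*} [Field F] [Fintype F] {H : Subgroup (GL ι F)}

/-- Monomial groups over fields with at most four elements fix a vector line, a quadratic or a unitary form. -/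
theorem lines_small {t : ℕ} (hn : 2 ≤ Fintype.card ι) {D : Fin t → Submodule F (ι → F)} (hD : IsMDecomposition 1 D)
    (hle : H ≤ decompositionStabilizer D) (hq : Fintype.card F < 5) :
    (∃ W : Submodule F (ι → F), W ≠ ⊥ ∧ W ≠ ⊤ ∧ H ≤ subspaceStabilizer W) ∨
    (Odd (Fintype.card F) ∧ ∃ Q, IsNondegenerateQuadraticForm Q ∧ H ≤ quadSimilarityGroup Q) ∨
      ∃ (σ : F ≃+* F) (f : (ι → F) → (ι → F) → F), IsUnitaryForm σ f ∧ H ≤ similarityGroup f := by
  classical
  obtain ⟨b, hb⟩ := decomp_gen hD
  have hpow : ∀ e : F, e ≠ 0 → e ^ (Fintype.card F - 1) = 1 := fun e he =>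
    FiniteField.pow_card_sub_one_eq_one e he
  have h2q : 2 ≤ Fintype.card F := Fintype.one_lt_card
  obtain h | h | h : Fintype.card F = 2 ∨ Fintype.card F = 3 ∨ Fintype.card F = 4 := by omega
  · left
    let s := ∑ i, b i
    have hfix : ∀ g ∈ H, g.val *ᵥ s = s := fun g hg => by
      obtain ⟨π, ε, hε0, hg'⟩ := decomp_act hb (hle hg)
      have hε : ∀ i, ε i = 1 := fun i => by
        have := hpow _ (hε0 i)
        rwa [h, pow_one] at this
      simp only [s, Matrix.mulVec_sum]
      rw [← Equiv.sum_comp π (fun i => b i)]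
      exact Finset.sum_congr rfl fun i _ => by rw [hg', hε, one_smul]
    have hs0 : s ≠ 0 := fun h0 => by
      have h1 := congrArg (fun v => b.repr v ⟨0, by have := hD.two_le; omega⟩) h0
      simp [s, Finsupp.single_apply] at h1
    refine ⟨Submodule.span F {s}, fun h1 => hs0 (Submodule.span_singleton_eq_bot.1 h1), fun h1 => ?_,
      fun g hg => mem_subspaceStabilizer_of_inv fun w hw => ?_⟩
    · have h2 := finrank_span_singleton (K := F) hs0
      rw [h1, finrank_top, Module.finrank_fintype_fun_eq_card] at h2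
      omega
    · obtain ⟨a, rfl⟩ := Submodule.mem_span_singleton.1 hw
      rw [Matrix.mulVec_smul, hfix g hg]
      exact Submodule.smul_mem _ _ (Submodule.mem_span_singleton_self s)
  · right; left
    have ho : Odd (Fintype.card F) := by rw [h]; decide
    have h2 : (2 : F) ≠ 0 := fun h0 => by
      obtain ⟨p, hp⟩ := CharP.exists F
      obtain ⟨n, hpp, hn⟩ := FiniteField.card F p
      have h3 : p ∣ 2 := (CharP.cast_eq_zero_iff F p 2).1 (by exact_mod_cast h0)
      have h4 : p = 2 := (Nat.prime_dvd_prime_iff_eq hpp Nat.prime_two).1 h3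
      rw [hn, h4, Nat.odd_pow_iff n.ne_zero] at ho
      exact absurd ho (by decide)
    refine ⟨ho, diagQuad b, isNondegenerateQuadraticForm_diag b h2, fun g hg => ?_⟩
    obtain ⟨π, ε, hε0, hg'⟩ := decomp_act hb (hle hg)
    refine ⟨1, fun v => ?_⟩
    rw [Units.val_one, one_mul]
    refine diagQuad_monomial b hg' (fun i => ?_) v
    have := hpow _ (hε0 i)
    rwa [h, show 3 - 1 = 2 from rfl, sq] at this
  · right; right
    haveI : Fact (Nat.Prime 2) := ⟨Nat.prime_two⟩
    haveI : CharP F 2 := by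
      obtain ⟨p, hp⟩ := CharP.exists F
      obtain ⟨n, hpp, hn⟩ := FiniteField.card F p
      have h2 : p ∣ 2 ^ 2 := by
        rw [show (2 : ℕ) ^ 2 = p ^ (n : ℕ) from (by rw [← hn, h]; norm_num)]
        exact dvd_pow_self p n.ne_zero
      have := (Nat.prime_dvd_prime_iff_eq hpp Nat.prime_two).1 (hpp.dvd_of_dvd_pow h2)
      subst this
      exact hp
    let σ : F ≃+* F := frobeniusEquiv F 2
    have hσ : ∀ a, σ a = a ^ 2 := fun a => frobeniusEquiv_apply F 2 a
    have hinv : ∀ a, σ (σ a) = a := fun a => by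
      rw [hσ, hσ, ← pow_mul, show 2 * 2 = Fintype.card F from h.symm, FiniteField.pow_card]
    have hne : σ ≠ RingEquiv.refl F := fun e => by
      have hle' : (Finset.univ : Finset F) ⊆ {0, 1} := fun a _ => by
        have h1 : σ a = a := by rw [e]; rfl
        rw [hσ, sq] at h1
        rcases eq_or_ne a 0 with rfl | ha
        · simp
        · simp [mul_left_cancel₀ ha (h1.trans (mul_one a).symm)]
      have := (Finset.card_le_card hle').trans Finset.card_le_two
      rw [Finset.card_univ, h] at this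
      omega
    refine ⟨σ, diagForm b σ, isUnitaryForm_diag b hne hinv, fun g hg => ?_⟩
    obtain ⟨π, ε, hε0, hg'⟩ := decomp_act hb (hle hg)
    refine ⟨1, fun u v => ?_⟩
    rw [Units.val_one, one_mul]
    refine diagForm_monomial b σ hg' (fun i => ?_) u v
    have := hpow _ (hε0 i)
    rw [h, show 4 - 1 = 2 + 1 from rfl, pow_succ'] at this
    rw [hσ, this]

/-- A basis adapted to a decomposition. -/
theorem exists_adapted_basis {t m : ℕ} {D : Fin t → Submodule F (ι → F)} (hD : IsMDecomposition m D) :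
    ∃ b : Basis (Fin t × Fin m) F (ι → F), ∀ i v, v ∈ D i ↔ ∀ p : Fin t × Fin m, p.1 ≠ i → b.repr v p = 0 := by
  classical
  have hint : DirectSum.IsInternal D :=
    (DirectSum.isInternal_submodule_iff_iSupIndep_and_iSup_eq_top D).2 ⟨hD.indep, hD.iSup_eq_top⟩
  let bs : ∀ i, Basis (Fin m) F (D i) := fun i =>
    (Module.finBasis F (D i)).reindex (finCongr (hD.finrank_eq i))
  let b₀ := hint.collectedBasis bs
  let b := b₀.reindex (Equiv.sigmaEquivProd (Fin t) (Fin m))
  have hb : ∀ p, b p ∈ D p.1 := fun p => by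
    simp only [b, Basis.reindex_apply]
    exact hint.collectedBasis_mem bs ((Equiv.sigmaEquivProd (Fin t) (Fin m)).symm p)
  refine ⟨b, fun i v => ⟨fun hv p hp => ?_, fun h => ?_⟩⟩
  · simp only [b, Basis.repr_reindex_apply]
    exact hint.collectedBasis_repr_of_mem_ne bs (a := p.2) hp.symm hv
  · rw [← b.sum_repr v]
    refine Submodule.sum_mem _ fun p _ => ?_
    rcases eq_or_ne p.1 i with rfl | hp
    · exact Submodule.smul_mem _ _ (hb p)
    · rw [h p hp, zero_smul]; exact Submodule.zero_mem _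

theorem card_eq_of_decomposition {t m : ℕ} {D : Fin t → Submodule F (ι → F)} (hD : IsMDecomposition m D) :
    t * m = Fintype.card ι := by
  obtain ⟨b, -⟩ := exists_adapted_basis hD
  rw [← Module.finrank_fintype_fun_eq_card F, Module.finrank_eq_card_basis b, Fintype.card_prod, Fintype.card_fin,
    Fintype.card_fin]

/-- Stabilisers of decompositions into planes over tiny fields preserve a symplectic form. -/
theorem planes_small {t : ℕ} {D : Fin t → Submodule F (ι → F)} (hD : IsMDecomposition 2 D)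
    (hle : H ≤ decompositionStabilizer D) (hsl : H ≤ specialLinear ι F)
    (hq : Fintype.card F = 2 ∨ (Fintype.card F = 3 ∧ t = 2)) :
    ∃ f, IsSymplecticForm f ∧ H ≤ similarityGroup f := by
  classical
  obtain ⟨b, hb⟩ := exists_adapted_basis hD
  let B := (Pi.basisFun F ι).toMatrix b
  let B' := b.toMatrix (Pi.basisFun F ι)
  let G₀ : Matrix (Fin t × Fin 2) (Fin t × Fin 2) F := (1 : Matrix (Fin t) (Fin t) F) ⊗ₖ planeJ F
  let G : Matrix ι ι F := B'ᵀ * G₀ * B'
  have hBB' : B * B' = 1 := Basis.toMatrix_mul_toMatrix_flip _ _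
  have hB'B : B' * B = 1 := Basis.toMatrix_mul_toMatrix_flip _ _
  have hG₀ : G₀ * ((1 : Matrix (Fin t) (Fin t) F) ⊗ₖ (-planeJ F)) = 1 := by
    rw [← Matrix.mul_kronecker_mul, one_mul, show planeJ F * -planeJ F = 1 from ?_, Matrix.one_kronecker_one]
    ext i j
    fin_cases i <;> fin_cases j <;> simp [planeJ]
  have hu : IsUnit G.det := by
    refine IsUnit.of_mul_eq_one (B * ((1 : Matrix (Fin t) (Fin t) F) ⊗ₖ (-planeJ F)) * Bᵀ).det ?_
    rw [← Matrix.det_mul, show G * (B * ((1 : Matrix (Fin t) (Fin t) F) ⊗ₖ (-planeJ F)) * Bᵀ) =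
      B'ᵀ * (G₀ * (B' * B) * ((1 : Matrix (Fin t) (Fin t) F) ⊗ₖ (-planeJ F))) * Bᵀ by
        simp only [G, Matrix.mul_assoc], hB'B, Matrix.mul_one, hG₀, Matrix.mul_one, ← Matrix.transpose_mul, hBB',
      Matrix.transpose_one, Matrix.det_one]
  have hskew : G₀ᵀ = -G₀ := by
    ext p q
    obtain ⟨i, k⟩ := p
    obtain ⟨j, l⟩ := q
    simp only [G₀, Matrix.transpose_apply, Matrix.neg_apply, Matrix.kroneckerMap_apply, Matrix.one_apply]
    by_cases hij : i = j
    · subst hij; fin_cases k <;> fin_cases l <;> simp [planeJ]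
    · simp [hij, Ne.symm hij]
  have hd₀ : ∀ p, G₀ p p = 0 := fun p => by
    obtain ⟨i, k⟩ := p
    fin_cases k <;> simp [G₀, planeJ, Matrix.kroneckerMap_apply]
  have hGT : Gᵀ = -G := by
    simp only [G, Matrix.transpose_mul, Matrix.transpose_transpose, hskew, Matrix.neg_mul, Matrix.mul_neg,
      Matrix.mul_assoc]
  have hd : ∀ i, G i i = 0 := fun i => by
    have h4 : G i i = gramForm (RingEquiv.refl F) G₀ (B' *ᵥ Pi.single i 1) (B' *ᵥ Pi.single i 1) := by
      simp only [gramForm]
      rw [show (RingEquiv.refl F : F → F) ∘ (B' *ᵥ Pi.single i 1) = B' *ᵥ Pi.single i 1 from rfl,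
        Matrix.mulVec_single_one]
      simp only [G, Matrix.mul_apply, Matrix.transpose_apply, dotProduct, Matrix.mulVec, Matrix.col_apply,
        Finset.sum_mul, Finset.mul_sum]
      rw [Finset.sum_comm]
      exact Finset.sum_congr rfl fun _ _ => Finset.sum_congr rfl fun _ _ => mul_assoc _ _ _
    rw [h4, alternating_gram hskew hd₀]
  refine ⟨_, isSymplecticForm_gram hu hGT hd, fun g hg => ?_⟩
  obtain ⟨π, hπ⟩ := hle hg
  let M : Matrix (Fin t × Fin 2) (Fin t × Fin 2) F := B' * g.val * B
  have hM0 : ∀ p q : Fin t × Fin 2, p.1 ≠ π q.1 → M p q = 0 := fun p q hpq => by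
    have hmem : g.val *ᵥ b q ∈ D (π q.1) := by
      rw [← hπ q.1]
      exact ⟨b q, (hb q.1 _).2 fun p hp => by rw [Basis.repr_self, Finsupp.single_apply, if_neg (fun h => hp (by rw [h]))],
        Matrix.toLin'_apply _ _⟩
    have h1 := (hb _ _).1 hmem p hpq
    rw [← h1]
    have h2 : M = LinearMap.toMatrix b b (Matrix.toLin' g.val) := by
      rw [← basis_toMatrix_mul_linearMap_toMatrix_mul_basis_toMatrix b (Pi.basisFun F ι) b (Pi.basisFun F ι),
        LinearMap.toMatrix_eq_toMatrix', LinearMap.toMatrix'_toLin']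
    rw [h2, LinearMap.toMatrix_apply, Matrix.toLin'_apply]
  let a : Fin t → Matrix (Fin 2) (Fin 2) F := fun i => Matrix.of fun k l => M (π i, k) (i, l)
  have hMG : Mᵀ * G₀ * M = Matrix.of fun p q : Fin t × Fin 2 =>
      if p.1 = q.1 then (a p.1).det * planeJ F p.2 q.2 else 0 := by
    ext p q
    obtain ⟨i, k⟩ := p
    obtain ⟨j, l⟩ := q
    rw [Matrix.mul_apply, Fintype.sum_prod_type, Finset.sum_eq_single (π j) (fun x _ hx =>
      Finset.sum_eq_zero fun y _ => by rw [hM0 (x, y) (j, l) hx, mul_zero]) (fun h => absurd (Finset.mem_univ _) h)]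
    simp only [Matrix.mul_apply, Fintype.sum_prod_type, Matrix.transpose_apply, G₀, Matrix.kroneckerMap_apply,
      Matrix.of_apply]
    split_ifs with hij
    · subst hij
      have h1 := congrFun (congrFun (planeJ_act (a i)) k) l
      rw [Matrix.smul_apply, smul_eq_mul] at h1
      rw [← h1]
      simp only [Matrix.mul_apply, Matrix.transpose_apply, a, Matrix.of_apply]
      refine Finset.sum_congr rfl fun y _ => ?_
      congr 1
      rw [Finset.sum_eq_single (π i) (fun x _ hx => Finset.sum_eq_zero fun z _ => by rw [hM0 (x, z) (i, k) hx, zero_mul])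
        (fun h => absurd (Finset.mem_univ _) h)]
      simp
    · refine Finset.sum_eq_zero fun y _ => ?_
      rw [Finset.sum_eq_zero fun x _ => Finset.sum_eq_zero fun z _ => ?_, zero_mul]
      rcases eq_or_ne x (π i) with rfl | hx
      · rw [Matrix.one_apply_ne (fun h => hij (π.injective h)), zero_mul, mul_zero]
      · rw [hM0 (x, z) (i, k) hx, zero_mul]
  have hdet : M.det = g.val.det := by
    show (B' * g.val * B).det = _
    have e : ι ≃ Fin t × Fin 2 := Fintype.equivOfCardEq (by
      rw [← card_eq_of_decomposition hD, Fintype.card_prod, Fintype.card_fin, Fintype.card_fin])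
    rw [← Matrix.det_submatrix_equiv_self e, show (B' * g.val * B).submatrix e e =
      (B'.submatrix e id) * g.val * (B.submatrix id e) from rfl, Matrix.det_mul_right_comm, Matrix.det_mul,
      show B'.submatrix e id * B.submatrix id e = (B' * B).submatrix e e from rfl, hB'B, Matrix.submatrix_one_equiv,
      Matrix.det_one, one_mul]
  have hdetg : g.val.det = 1 := by
    have := congrArg Units.val (MonoidHom.mem_ker.1 (hsl hg))
    rw [Units.val_one] at this
    exact this
  have hane : ∀ i, (a i).det ≠ 0 := fun i h0 => by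
    have h1 : (Mᵀ * G₀ * M).det ≠ 0 := by
      rw [Matrix.det_mul, Matrix.det_mul, Matrix.det_transpose, hdet, hdetg, one_mul, mul_one]
      intro h
      have h2 := congrArg Matrix.det hG₀
      rw [Matrix.det_mul, h, zero_mul, Matrix.det_one] at h2
      exact zero_ne_one h2
    rw [hMG] at h1
    exact h1 (Matrix.det_eq_zero_of_row_eq_zero (i, 0) fun q => by
      simp only [Matrix.of_apply]
      split_ifs <;> simp [h0])
  obtain ⟨c, hc0, hc⟩ : ∃ c : F, c ≠ 0 ∧ ∀ i, (a i).det = c := by
    rcases hq with h | ⟨h, rfl⟩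
    · refine ⟨1, one_ne_zero, fun i => ?_⟩
      have := FiniteField.pow_card_sub_one_eq_one _ (hane i)
      rwa [h, pow_one] at this
    · refine ⟨(a 0).det, hane 0, fun i => ?_⟩
      have hsq : ∀ i, (a i).det * (a i).det = 1 := fun i => by
        have := FiniteField.pow_card_sub_one_eq_one _ (hane i)
        rwa [h, show 3 - 1 = 2 from rfl, sq] at this
      have hdetM : M.det = (a 0).det * (a 1).det := by
        let p : Equiv.Perm (Fin 2 × Fin 2) := π.prodCongr (Equiv.refl _)
        have e1 : M = ((Matrix.blockDiagonal a).submatrix (fun x => ((p.symm x).2, (p.symm x).1)) Prod.swap) := by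
          ext x y
          obtain ⟨x1, x2⟩ := x
          obtain ⟨y1, y2⟩ := y
          simp only [Matrix.submatrix_apply, p, Equiv.prodCongr_symm, Equiv.prodCongr_apply, Prod.map_apply,
            Prod.swap_prod_mk, Equiv.refl_symm, Equiv.refl_apply, Matrix.blockDiagonal_apply]
          split_ifs with hxy
          · simp only [a, Matrix.of_apply]
            rw [hxy, show π y1 = x1 by rw [← hxy, Equiv.apply_symm_apply]]
          · exact hM0 _ _ fun h => hxy (by rw [show x1 = π y1 from h, Equiv.symm_apply_apply])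
        have e2 : (Matrix.blockDiagonal a).submatrix (fun x => ((p.symm x).2, (p.symm x).1)) Prod.swap =
            ((Matrix.blockDiagonal a).submatrix (Equiv.prodComm _ _) (Equiv.prodComm _ _)).submatrix p.symm id := rfl
        rw [e1, e2, Matrix.det_permute, Matrix.det_submatrix_equiv_self, Matrix.det_blockDiagonal, Fin.prod_univ_two]
        have hs : ∀ π : Equiv.Perm (Fin 2),
            Equiv.Perm.sign ((π.prodCongr (Equiv.refl (Fin 2)) : Equiv.Perm (Fin 2 × Fin 2)).symm) = 1 := by decide
        rw [hs π]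
        simp
      rw [hdet, hdetg] at hdetM
      fin_cases i
      · rfl
      · show (a 1).det = (a 0).det
        linear_combination -(a 1).det * hsq 0 - (a 0).det * hdetM
  refine ⟨Units.mk0 c hc0, fun u v => ?_⟩
  suffices hgG : g.valᵀ * G * g.val = c • G by
    rw [gramForm_act, show g.val.map (RingEquiv.refl F) = g.val from rfl, hgG, gramForm, Units.val_mk0,
      Matrix.smul_mulVec, dotProduct_smul, smul_eq_mul]
  have hgB : g.val = B * M * B' := by
    simp only [M, ← Matrix.mul_assoc, hBB', Matrix.one_mul]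
    rw [Matrix.mul_assoc, hBB', Matrix.mul_one]
  have hMG' : Mᵀ * G₀ * M = c • G₀ := by
    rw [hMG]
    ext p q
    obtain ⟨i, k⟩ := p
    obtain ⟨j, l⟩ := q
    simp only [Matrix.of_apply, Matrix.smul_apply, G₀, Matrix.kroneckerMap_apply, Matrix.one_apply, hc]
    by_cases hij : i = j <;> simp [hij]
  calc g.valᵀ * G * g.val = B'ᵀ * Mᵀ * (B' * B)ᵀ * G₀ * (B' * B) * M * B' := by
        rw [hgB]; simp only [G, Matrix.transpose_mul, Matrix.mul_assoc]
    _ = B'ᵀ * (Mᵀ * G₀ * M) * B' := by
        rw [hB'B, Matrix.transpose_one]; simp only [Matrix.mul_one, Matrix.mul_assoc]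
    _ = c • G := by rw [hMG', Matrix.mul_smul, Matrix.smul_mul]

/-- Over the field with two elements a tensor factor of dimension two gives an extension field. -/
theorem tensor_two {k : ℕ} (hk : 1 ≤ k) (h2 : Fintype.card F = 2) (e : ι ≃ Fin 2 × Fin k) (P : GL ι F)
    (hle : H ≤ tensorProductSubgroup 2 k e P) :
    ∃ K : Subalgebra F (Matrix ι ι F), IsFieldSubalgebra 2 K ∧ H ≤ subalgebraNormalizer K := by
  classical
  have h01 : ∀ x : F, x = 0 ∨ x = 1 := fun x => by
    by_cases hx : x = 0
    · exact Or.inl hx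
    · have := FiniteField.pow_card_sub_one_eq_one x hx
      rw [h2, pow_one] at this
      exact Or.inr this
  have h11 : (1 : F) + 1 = 0 := (h01 _).resolve_right fun h => one_ne_zero (by linear_combination h)
  let w₀ : Matrix (Fin 2) (Fin 2) F := !![1, 1; 1, 0]
  have hw₀ : w₀ * w₀ = w₀ + 1 := by
    ext i j
    fin_cases i <;> fin_cases j <;> simp [w₀, Matrix.mul_apply, h11]
  let T : Matrix (Fin 2) (Fin 2) F → Matrix ι ι F := fun a => tensMat e P a 1
  have hTinj : Function.Injective T := fun a a' h => by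
    ext i j
    have h1 := congrFun (congrFun ((conjA P).injective h) (e.symm (i, ⟨0, hk⟩))) (e.symm (j, ⟨0, hk⟩))
    simpa using h1
  have hTadd : ∀ a a', T (a + a') = T a + T a' := fun a a' => by
    simp only [T, tensMat, Matrix.add_kronecker, Matrix.submatrix_add, Pi.add_apply, map_add]
  have hTsmul : ∀ (c : F) a, T (c • a) = c • T a := fun c a => by
    simp only [T, tensMat, Matrix.smul_kronecker, Matrix.submatrix_smul, Pi.smul_apply, map_smul]
  have hTmul : ∀ a a', T a * T a' = T (a * a') := fun a a' => by simp only [T, tensMat_mul, one_mul]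
  let K₀ : Set (Matrix (Fin 2) (Fin 2) F) := {x | ∃ c d : F, x = c • 1 + d • w₀}
  have hK₀mul : ∀ x ∈ K₀, ∀ y ∈ K₀, x * y ∈ K₀ ∧ x * y = y * x := by
    rintro x ⟨c, d, rfl⟩ y ⟨c', d', rfl⟩
    refine ⟨⟨c * c' + d * d', c * d' + d * c' + d * d', ?_⟩, ?_⟩
    · simp only [mul_add, add_mul, Matrix.smul_mul, Matrix.mul_smul, one_mul, mul_one, smul_smul, hw₀, smul_add]
      module
    · simp only [mul_add, add_mul, Matrix.smul_mul, Matrix.mul_smul, one_mul, mul_one, smul_smul]
      module
  let K : Subalgebra F (Matrix ι ι F) :=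
    { carrier := T '' K₀
      mul_mem' := by
        rintro _ _ ⟨x, hx, rfl⟩ ⟨y, hy, rfl⟩
        exact ⟨_, (hK₀mul x hx y hy).1, (hTmul x y).symm⟩
      one_mem' := ⟨1, ⟨1, 0, by simp⟩, tensMat_one⟩
      add_mem' := by
        rintro _ _ ⟨_, ⟨c, d, rfl⟩, rfl⟩ ⟨_, ⟨c', d', rfl⟩, rfl⟩
        exact ⟨_, ⟨c + c', d + d', rfl⟩, by rw [← hTadd]; congr 1; module⟩
      zero_mem' := ⟨0, ⟨0, 0, by simp⟩, by simp [T, tensMat]⟩
      algebraMap_mem' := fun c => ⟨c • 1, ⟨c, 0, by simp⟩, by
        rw [hTsmul, Algebra.algebraMap_eq_smul_one]; simp only [T, tensMat_one]⟩ }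
  have hinv0 : ∀ x ∈ K₀, x ≠ 0 → ∃ y ∈ K₀, x * y = 1 := by
    rintro x ⟨c, d, rfl⟩ hx0
    rcases h01 c with rfl | rfl <;> rcases h01 d with rfl | rfl
    · simp at hx0
    · refine ⟨_, ⟨1, 1, rfl⟩, ?_⟩
      simp only [zero_smul, zero_add, one_smul, mul_add, mul_one, hw₀]
      rw [← add_assoc, show w₀ + w₀ = (1 + 1 : F) • w₀ by rw [add_smul, one_smul], h11, zero_smul, zero_add]
    · exact ⟨_, ⟨1, 0, rfl⟩, by simp⟩
    · refine ⟨_, ⟨0, 1, rfl⟩, ?_⟩
      simp only [zero_smul, zero_add, one_smul, add_mul, one_mul, hw₀]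
      rw [← add_assoc, show w₀ + w₀ = (1 + 1 : F) • w₀ by rw [add_smul, one_smul], h11, zero_smul, zero_add]
  refine ⟨K, ⟨?_, ?_, ?_⟩, fun g hg => ?_⟩
  · rintro _ ⟨x, hx, rfl⟩ _ ⟨y, hy, rfl⟩
    rw [hTmul, hTmul, (hK₀mul x hx y hy).2]
  · rintro _ ⟨x, hx, rfl⟩ hx0
    obtain ⟨y, hy, hxy⟩ := hinv0 x hx (fun h => hx0 (by simp [h, T, tensMat]))
    exact ⟨T y, ⟨y, hy, rfl⟩, by rw [hTmul, hxy]; exact tensMat_one⟩
  · let L : (F × F) →ₗ[F] K :=
      { toFun := fun p => ⟨T (p.1 • 1 + p.2 • w₀), ⟨_, ⟨p.1, p.2, rfl⟩, rfl⟩⟩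
        map_add' := fun p q => Subtype.ext (by
          show T _ = T _ + T _
          rw [← hTadd]; congr 1; simp only [Prod.fst_add, Prod.snd_add]; module)
        map_smul' := fun c p => Subtype.ext (by
          show T _ = c • T _
          rw [← hTsmul]; congr 1; simp only [Prod.smul_fst, Prod.smul_snd, smul_eq_mul]; module) }
    have hL : Function.Bijective L := ⟨fun p q h => by
      have h1 := hTinj (congrArg Subtype.val h)
      have e1 := congrFun (congrFun h1 1) 1
      have e2 := congrFun (congrFun h1 0) 1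
      simp [w₀] at e1 e2
      exact Prod.ext e1 e2, by rintro ⟨_, x, ⟨c, d, rfl⟩, rfl⟩; exact ⟨(c, d), rfl⟩⟩
    rw [← (LinearEquiv.ofBijective L hL).finrank_eq, Module.finrank_prod, Module.finrank_self]
  · have hconj : ∀ g ∈ H, ∀ x ∈ K, conjA g x ∈ K := by
      rintro g hg _ ⟨_, ⟨c, d, rfl⟩, rfl⟩
      obtain ⟨a, b, hab⟩ := mem_tensorProductSubgroup_iff.1 (hle hg)
      have hw : ∃ c' d' : F, a.val * w₀ = (c' • 1 + d' • w₀) * a.val := by
        have hd : a.val.det ≠ 0 := (a.isUnit.map Matrix.detMonoidHom).ne_zero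
        rw [Matrix.det_fin_two] at hd
        rcases h01 (a.val 0 0) with h00 | h00 <;> rcases h01 (a.val 0 1) with h0 | h0 <;>
          rcases h01 (a.val 1 0) with h10 | h10 <;> rcases h01 (a.val 1 1) with h1 | h1 <;>
          simp only [h00, h0, h10, h1, mul_zero, zero_mul, mul_one, one_mul, sub_self, zero_sub, sub_zero,
            ne_eq, not_true_eq_false, neg_eq_zero, one_ne_zero, not_false_eq_true] at hd <;>
          first
            | refine ⟨0, 1, ?_⟩
              ext i j
              fin_cases i <;> fin_cases j <;> simp [w₀, Matrix.mul_apply, h00, h0, h10, h1, h11]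
              done
            | refine ⟨1, 1, ?_⟩
              ext i j
              fin_cases i <;> fin_cases j <;> simp [w₀, Matrix.mul_apply, h00, h0, h10, h1, h11]
      obtain ⟨c', d', hw⟩ := hw
      refine ⟨c • 1 + d • (c' • 1 + d' • w₀), ⟨c + d * c', d * d', by module⟩, ?_⟩
      have hinv : (g⁻¹).val = tensMat e P (a⁻¹).val (b⁻¹).val := by
        refine Units.inv_eq_of_mul_eq_one_right ?_
        rw [hab, tensMat_mul, Units.mul_inv, Units.mul_inv, tensMat_one]
      show T _ = g.val * T _ * (g⁻¹).val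
      simp only [T]
      rw [hab, hinv, tensMat_mul, tensMat_mul, mul_one, Units.mul_inv]
      congr 1
      simp only [mul_add, add_mul, Matrix.mul_smul, Matrix.smul_mul, mul_one, hw, Units.mul_inv]
      simp only [add_mul, Matrix.smul_mul, one_mul, mul_assoc, Units.mul_inv, mul_one]
    refine fun k => ⟨hconj g hg k, fun hk => ?_⟩
    have h1 := hconj g⁻¹ (inv_mem hg) _ hk
    rwa [← conjA_apply, conjA_inv] at h1

end Cfsg.Lib.Linear.AschGen
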