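import Cfsg.Agent.Lib.Linear.AschGen.Kron

/-!
# Commuting matrix subalgebras give a tensor power

Pairwise commuting copies of a matrix algebra which generate a full matrix algebra are, in a
suitable basis, the factors of a tensor power; an element permuting them lies in the stabiliser of
that tensor decomposition.
-/

set_option autoImplicit false
set_option linter.unusedSectionVars false
set_option linter.style.haveILetI false

namespace Cfsg.Lib.Linear.AschGen

open Cfsg.Geo Cfsg.Lib.Linear.Asch Module
open scoped Matrix MatrixGroups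

variable {ι : Type} [Fintype ι] [DecidableEq ι] {F : Type*} [Field F] {d t : ℕ}

/-- The tensor product of `t` matrices. -/
def pureTens (X : Fin t → Matrix (Fin d) (Fin d) F) : Matrix (Fin t → Fin d) (Fin t → Fin d) F :=
  Matrix.of fun x y => ∏ i, X i (x i) (y i)

theorem pureTens_mul (X Y : Fin t → Matrix (Fin d) (Fin d) F) :
    pureTens X * pureTens Y = pureTens (fun i => X i * Y i) := by
  ext x y
  simp only [pureTens, Matrix.mul_apply, Matrix.of_apply]
  rw [Fintype.prod_sum]
  exact Finset.sum_congr rfl fun z _ => Finset.prod_mul_distrib.symm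

theorem pureTens_one : pureTens (fun _ : Fin t => (1 : Matrix (Fin d) (Fin d) F)) = 1 := by
  ext x y
  simp only [pureTens, Matrix.of_apply]
  by_cases h : x = y
  · subst h; simp
  · obtain ⟨i, hi⟩ := Function.ne_iff.1 h
    rw [Matrix.one_apply_ne h]
    exact Finset.prod_eq_zero (Finset.mem_univ i) (Matrix.one_apply_ne hi)

/-- A matrix placed in the `i`-th tensor factor. -/
def powStd (i : Fin t) (X : Matrix (Fin d) (Fin d) F) : Matrix (Fin t → Fin d) (Fin t → Fin d) F :=
  pureTens (Function.update (fun _ => (1 : Matrix (Fin d) (Fin d) F)) i X)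

theorem powStd_apply (i : Fin t) (X : Matrix (Fin d) (Fin d) F) (x y : Fin t → Fin d) :
    powStd i X x y = if ∀ j, j ≠ i → x j = y j then X (x i) (y i) else 0 := by
  simp only [powStd, pureTens, Matrix.of_apply]
  split_ifs with h
  · rw [Finset.prod_eq_single i (fun j _ hj => by
      rw [Function.update_of_ne hj, h j hj, Matrix.one_apply_eq]) (fun hn => absurd (Finset.mem_univ _) hn),
      Function.update_self]
  · push Not at h
    obtain ⟨j, hj, hxy⟩ := h
    exact Finset.prod_eq_zero (Finset.mem_univ j) (by
      rw [Function.update_of_ne hj, Matrix.one_apply_ne hxy])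

theorem powStd_mul (i : Fin t) (X Y : Matrix (Fin d) (Fin d) F) :
    powStd i X * powStd i Y = powStd i (X * Y) := by
  rw [powStd, powStd, powStd, pureTens_mul]
  congr 1
  funext j
  rcases eq_or_ne j i with rfl | hj
  · simp
  · simp [hj]

theorem powStd_one (i : Fin t) : powStd i (1 : Matrix (Fin d) (Fin d) F) = 1 := by
  rw [powStd, Function.update_eq_self_iff.2 rfl, pureTens_one]

/-- The embedding in the `i`-th tensor factor, as a linear map. -/
def powStdLin (i : Fin t) : Matrix (Fin d) (Fin d) F →ₗ[F] Matrix (Fin t → Fin d) (Fin t → Fin d) F where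
  toFun := powStd i
  map_add' X Y := by
    ext x y
    simp only [powStd_apply, Matrix.add_apply]
    split_ifs <;> simp
  map_smul' c X := by
    ext x y
    simp only [powStd_apply, Matrix.smul_apply, RingHom.id_apply]
    split_ifs <;> simp

/-- A matrix placed in one factor of the tensor decomposition given by `e` and `P`. -/
def powEmb (e : ι ≃ (Fin t → Fin d)) (P : GL ι F) (i : Fin t) (X : Matrix (Fin d) (Fin d) F) :
    Matrix ι ι F :=
  conjA P ((powStd i X).submatrix e e)

section Product

variable {A : Type*} [Ring A] [Algebra F A] {f : Fin t → Matrix (Fin d) (Fin d) F →ₐ[F] A}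
  (hcomm : ∀ i j, i ≠ j → ∀ X Y, Commute (f i X) (f j Y))

include hcomm in
theorem pairwise_img (X : Fin t → Matrix (Fin d) (Fin d) F) :
    ((Finset.univ : Finset (Fin t)) : Set (Fin t)).Pairwise (Function.onFun Commute fun i => f i (X i)) :=
  fun i _ j _ h => hcomm i j h _ _

/-- The product of the images of a family of matrices. -/
def prodImg (X : Fin t → Matrix (Fin d) (Fin d) F) : A :=
  Finset.univ.noncommProd (fun i => f i (X i)) (pairwise_img hcomm X)

theorem prodImg_mul (X Y : Fin t → Matrix (Fin d) (Fin d) F) :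
    prodImg hcomm X * prodImg hcomm Y = prodImg hcomm (fun i => X i * Y i) := by
  simp only [prodImg]
  rw [← Finset.noncommProd_mul_distrib _ _ (pairwise_img hcomm X) (pairwise_img hcomm Y) (fun i _ j _ h => hcomm i j h _ _)]
  exact Finset.noncommProd_congr rfl (fun i _ => (map_mul (f i) _ _).symm) _

theorem prodImg_update (i : Fin t) (X : Matrix (Fin d) (Fin d) F) :
    prodImg hcomm (Function.update (fun _ => (1 : Matrix (Fin d) (Fin d) F)) i X) = f i X := by
  classical
  simp only [prodImg]
  have hins := Finset.insert_erase (Finset.mem_univ i)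
  refine (Finset.noncommProd_congr hins.symm (fun _ _ => rfl) _).trans
    ((Finset.noncommProd_insert_of_notMem _ _ _ _ (Finset.notMem_erase _ _)).trans ?_)
  rw [Function.update_self, Finset.noncommProd_eq_pow_card _ _ _ 1 (fun j hj => by
    rw [Function.update_of_ne (Finset.ne_of_mem_erase hj), map_one]), one_pow, mul_one]

theorem prodImg_eq_zero {X : Fin t → Matrix (Fin d) (Fin d) F} {i : Fin t} (h : X i = 0) :
    prodImg hcomm X = 0 := by
  have h1 : X = fun j => X j * Function.update (fun _ => (1 : Matrix (Fin d) (Fin d) F)) i 0 j := funext fun j => by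
    rcases eq_or_ne j i with rfl | hj
    · rw [Function.update_self, mul_zero, h]
    · rw [Function.update_of_ne hj, mul_one]
  rw [h1, ← prodImg_mul, prodImg_update, map_zero, mul_zero]

theorem sum_prodImg_single :
    ∑ a : Fin t → Fin d, prodImg hcomm (fun i => Matrix.single (a i) (a i) 1) = 1 := by
  classical
  let S : Set A := Set.range fun p : Fin t × Fin d => f p.1 (Matrix.single p.2 p.2 1)
  have hS : ∀ x ∈ S, ∀ y ∈ S, x * y = y * x := by
    rintro _ ⟨⟨i, a⟩, rfl⟩ _ ⟨⟨j, b⟩, rfl⟩
    rcases eq_or_ne i j with rfl | hij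
    · simp only [← map_mul]
      rcases eq_or_ne a b with rfl | hab
      · rfl
      · simp [hab, hab.symm]
    · exact hcomm i j hij _ _
  let g : Fin t → Fin d → Algebra.adjoin F S := fun i a =>
    ⟨f i (Matrix.single a a 1), Algebra.subset_adjoin ⟨(i, a), rfl⟩⟩
  haveI := Algebra.isMulCommutative_adjoin F hS
  letI : CommRing (Algebra.adjoin F S) := Algebra.adjoinCommRingOfComm F hS
  have hg : ∀ i, ∑ a, g i a = 1 := fun i => Subtype.ext (by
    rw [AddSubmonoidClass.coe_finsetSum, OneMemClass.coe_one]
    show ∑ a, f i (Matrix.single a a 1) = 1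
    rw [← map_sum]
    have h1 : (∑ a : Fin d, Matrix.single a a (1 : F)) = 1 := by
      ext p q
      rw [Matrix.sum_apply]
      by_cases h : p = q
      · subst h; simp [Matrix.single_apply]
      · rw [Matrix.one_apply_ne h]
        exact Finset.sum_eq_zero fun x _ => if_neg (by rintro ⟨rfl, rfl⟩; exact h rfl)
    rw [h1, map_one])
  have h2 : ∑ a : Fin t → Fin d, ∏ i, g i (a i) = 1 := by
    rw [← Fintype.prod_sum]
    simp [hg]
  have h3 := congrArg (Algebra.adjoin F S).val h2
  rw [map_sum, map_one] at h3
  refine Eq.trans (Finset.sum_congr rfl fun a _ => ?_) h3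
  exact ((congrArg (Algebra.adjoin F S).val (Finset.noncommProd_eq_prod Finset.univ fun i => g i (a i)).symm).trans
    (Finset.map_noncommProd _ _ _ _)).symm

include hcomm in
theorem exists_prodHom : ∃ Φ : Matrix (Fin t → Fin d) (Fin t → Fin d) F →ₐ[F] A,
    ∀ i X, Φ (powStd i X) = f i X := by
  classical
  let u : (Fin t → Fin d) → (Fin t → Fin d) → A := fun a b =>
    prodImg hcomm (fun i => Matrix.single (a i) (b i) 1)
  have huu : ∀ a b b' c, u a b * u b' c = if b = b' then u a c else 0 := fun a b b' c => by
    simp only [u, prodImg_mul]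
    split_ifs with h
    · subst h
      congr 1
      funext i
      simp
    · obtain ⟨i, hi⟩ := Function.ne_iff.1 h
      exact prodImg_eq_zero hcomm (i := i) (by simp [hi])
  let L : Matrix (Fin t → Fin d) (Fin t → Fin d) F →ₗ[F] A :=
    { toFun := fun M => ∑ a, ∑ b, M a b • u a b
      map_add' := fun M M' => by simp only [Matrix.add_apply, add_smul, Finset.sum_add_distrib]
      map_smul' := fun c M => by
        simp only [Matrix.smul_apply, smul_eq_mul, ← smul_smul, ← Finset.smul_sum, RingHom.id_apply] }
  have hL : ∀ M, L M = ∑ a, ∑ b, M a b • u a b := fun _ => rfl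
  have hone : L 1 = 1 := by
    rw [hL, ← sum_prodImg_single hcomm]
    refine Finset.sum_congr rfl fun a _ => ?_
    rw [Finset.sum_eq_single a (fun b _ hb => by rw [Matrix.one_apply_ne hb.symm, zero_smul])
      (fun h => absurd (Finset.mem_univ _) h), Matrix.one_apply_eq, one_smul]
  have hmul : ∀ M M', L (M * M') = L M * L M' := fun M M' => by
    simp only [hL, Matrix.mul_apply, Finset.sum_smul]
    rw [Finset.sum_mul]
    refine Finset.sum_congr rfl fun a _ => ?_
    rw [Finset.sum_mul, Finset.sum_comm]
    refine Finset.sum_congr rfl fun b _ => ?_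
    symm
    rw [Finset.mul_sum, Finset.sum_eq_single b (fun b' _ hb => by
      rw [Finset.mul_sum]
      refine Finset.sum_eq_zero fun c _ => ?_
      rw [smul_mul_smul_comm, huu, if_neg hb.symm, smul_zero]) (fun h => absurd (Finset.mem_univ _) h),
      Finset.mul_sum]
    refine Finset.sum_congr rfl fun c _ => ?_
    rw [smul_mul_smul_comm, huu, if_pos rfl]
  let Φ := AlgHom.ofLinearMap L hone hmul
  refine ⟨Φ, fun i X => ?_⟩
  have h1 : Φ.toLinearMap.comp (powStdLin i) = (f i).toLinearMap := by
    refine Matrix.ext_linearMap F fun c c' => LinearMap.ext fun r => ?_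
    show L (powStd i (Matrix.single c c' r)) = f i (Matrix.single c c' r)
    have hr : Matrix.single c c' r = r • Matrix.single c c' (1 : F) := by rw [Matrix.smul_single]; simp
    rw [hr, map_smul, show powStd i (r • Matrix.single c c' (1 : F)) = r • powStd i (Matrix.single c c' 1) from
      (powStdLin i).map_smul r _, map_smul]
    congr 1
    conv_rhs => rw [← one_mul (f i _), ← sum_prodImg_single hcomm, Finset.sum_mul]
    rw [hL]
    refine Finset.sum_congr rfl fun a _ => ?_
    have hua : prodImg hcomm (fun j => Matrix.single (a j) (a j) (1 : F)) * f i (Matrix.single c c' 1) =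
        if a i = c then u a (Function.update a i c') else 0 := by
      rw [← prodImg_update hcomm i, prodImg_mul]
      split_ifs with h
      · simp only [u]
        congr 1
        funext j
        rcases eq_or_ne j i with rfl | hj
        · simp [h]
        · simp [hj]
      · exact prodImg_eq_zero hcomm (i := i) (by simp [h])
    rw [hua]
    simp only [powStd_apply]
    by_cases h : a i = c
    · rw [if_pos h, Finset.sum_eq_single (Function.update a i c') (fun b _ hb => ?_)
        (fun hn => absurd (Finset.mem_univ _) hn)]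
      · rw [if_pos (fun j hj => (Function.update_of_ne hj _ _).symm), Function.update_self,
          Matrix.single_apply, if_pos ⟨h.symm, rfl⟩, one_smul]
      · split_ifs with hab
        · rw [Matrix.single_apply, if_neg, zero_smul]
          rintro ⟨-, hc⟩
          refine hb (funext fun j => ?_)
          rcases eq_or_ne j i with rfl | hj
          · simp [hc]
          · rw [Function.update_of_ne hj, hab j hj]
        · exact zero_smul F _
    · rw [if_neg h]
      refine Finset.sum_eq_zero fun b _ => ?_
      split_ifs with hab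
      · rw [Matrix.single_apply, if_neg (fun hh => h hh.1.symm), zero_smul]
      · exact zero_smul F _
  exact LinearMap.congr_fun h1 X

end Product

/-- Pairwise commuting matrix subalgebras generating the whole algebra form a tensor power. -/
theorem exists_powEmb [Nonempty ι] (hd : 0 < d) (f : Fin t → Matrix (Fin d) (Fin d) F →ₐ[F] Matrix ι ι F)
    (hcomm : ∀ i j, i ≠ j → ∀ X Y, Commute (f i X) (f j Y))
    (hgen : Algebra.adjoin F (⋃ i, Set.range (f i)) = ⊤) :
    ∃ (e : ι ≃ (Fin t → Fin d)) (P : GL ι F), ∀ i X, f i X = powEmb e P i X := by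
  classical
  obtain ⟨Φ, hΦ⟩ := exists_prodHom hcomm
  haveI : Nonempty (Fin d) := ⟨⟨0, hd⟩⟩
  have hinj : Function.Injective Φ := Φ.toRingHom.injective
  have hsurj : Function.Surjective Φ := by
    rw [← AlgHom.range_eq_top, eq_top_iff, ← hgen, Algebra.adjoin_le_iff]
    exact Set.iUnion_subset fun i => by
      rintro _ ⟨X, rfl⟩
      exact ⟨powStd i X, hΦ i X⟩
  let Ψ := AlgEquiv.ofBijective Φ ⟨hinj, hsurj⟩
  have hcard : Fintype.card ι = Fintype.card (Fin t → Fin d) := by
    have h1 := Ψ.toLinearEquiv.finrank_eq
    rw [Module.finrank_matrix, Module.finrank_matrix, Module.finrank_self, mul_one, mul_one] at h1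
    exact (Nat.mul_self_inj.1 h1).symm
  let e := Fintype.equivOfCardEq hcard
  obtain ⟨P, hP⟩ := exists_conjA ((Matrix.reindexAlgEquiv F F e).trans Ψ)
  refine ⟨e, P, fun i X => ?_⟩
  have h2 := hP ((powStd i X).submatrix e e)
  rw [AlgEquiv.trans_apply, Matrix.reindexAlgEquiv_apply, Matrix.reindex_apply, Matrix.submatrix_submatrix,
    Equiv.self_comp_symm, Matrix.submatrix_id_id] at h2
  rw [powEmb, ← h2, ← hΦ]
  rfl

theorem powEmb_injective (hd : 0 < d) (e : ι ≃ (Fin t → Fin d)) (P : GL ι F) (i : Fin t) :
    Function.Injective (powEmb e P i) := fun X Y h => by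
  ext a b
  let x : Fin t → Fin d := Function.update (fun _ => ⟨0, hd⟩) i a
  let y : Fin t → Fin d := Function.update (fun _ => ⟨0, hd⟩) i b
  have h1 := congrFun (congrFun ((conjA P).injective h) (e.symm x)) (e.symm y)
  rw [Matrix.submatrix_apply, Matrix.submatrix_apply, e.apply_symm_apply, e.apply_symm_apply, powStd_apply,
    powStd_apply, if_pos (fun j hj => by simp [x, y, hj]), if_pos (fun j hj => by simp [x, y, hj])] at h1
  simpa [x, y] using h1

/-- An element permuting the factors stabilises the tensor power decomposition. -/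
theorem mem_tensorWreathSubgroup_of_conj (hd : 0 < d) (ht : 0 < t) {e : ι ≃ (Fin t → Fin d)} {P h : GL ι F}
    (σ : Equiv.Perm (Fin t)) (hc : ∀ i X, ∃ Y, conjA h (powEmb e P i X) = powEmb e P (σ i) Y) :
    h ∈ tensorWreathSubgroup d t e P := by
  classical
  let R := Matrix.reindexAlgEquiv F F e.symm
  let T : Matrix (Fin t → Fin d) (Fin t → Fin d) F ≃ₐ[F] Matrix ι ι F := R.trans (conjA P)
  have hT : ∀ i X, powEmb e P i X = T (powStd i X) := fun _ _ => rfl
  choose φ hφ using hc
  have hlin : ∀ i, ∃ a : GL (Fin d) F, ∀ X, φ i X = conjA a X := fun i => by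
    let g : Matrix (Fin d) (Fin d) F → Matrix ι ι F := fun X => powEmb e P (σ i) X
    have hg : Function.Injective g := powEmb_injective hd e P _
    have hmul : ∀ a b, φ i (a * b) = φ i a * φ i b := fun a b => hg (by
      simp only [g]
      rw [← hφ, hT, hT, ← powStd_mul, ← powStd_mul, map_mul, map_mul, map_mul, ← hT, ← hT, hφ, hφ]; rfl)
    have hadd : ∀ a b, φ i (a + b) = φ i a + φ i b := fun a b => hg (by
      have ha : ∀ (j : Fin t) (u v : Matrix (Fin d) (Fin d) F), powStd j (u + v) = powStd j u + powStd j v :=
        fun j => (powStdLin j).map_add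
      simp only [g]
      rw [← hφ, hT, hT, ha, ha, map_add, map_add, map_add, ← hT, ← hT, hφ, hφ]; rfl)
    have hsm : ∀ (c : F) a, φ i (c • a) = c • φ i a := fun c a => hg (by
      have ha : ∀ (j : Fin t) (u : Matrix (Fin d) (Fin d) F), powStd j (c • u) = c • powStd j u :=
        fun j => (powStdLin j).map_smul c
      simp only [g]
      rw [← hφ, hT, hT, ha, ha, map_smul, map_smul, map_smul, ← hT, hφ]; rfl)
    have hone : φ i 1 = 1 := hg (by
      simp only [g]
      rw [← hφ, hT, hT, powStd_one, powStd_one, map_one, map_one])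
    let L : Matrix (Fin d) (Fin d) F →ₗ[F] Matrix (Fin d) (Fin d) F :=
      { toFun := φ i, map_add' := hadd, map_smul' := hsm }
    let Φ : Matrix (Fin d) (Fin d) F →ₐ[F] Matrix (Fin d) (Fin d) F := AlgHom.ofLinearMap L hone hmul
    have hΦ : Function.Injective Φ := fun a b hab => powEmb_injective hd e P i ((conjA h).injective (by
      rw [hφ, hφ]; exact congrArg g hab))
    exact exists_conjA (AlgEquiv.ofBijective Φ
      ⟨hΦ, LinearMap.surjective_of_injective (f := Φ.toLinearMap) hΦ⟩)
  choose a ha using hlin
  let a' : Fin t → GL (Fin d) F := fun j => a (σ.symm j)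
  let pt : GL (Fin t → Fin d) F := ⟨pureTens fun j => (a' j).val, pureTens fun j => ((a' j)⁻¹).val,
    by rw [pureTens_mul]; simp [pureTens_one], by rw [pureTens_mul]; simp [pureTens_one]⟩
  let Mσ : Equiv.Perm (Fin t) → Matrix (Fin t → Fin d) (Fin t → Fin d) F := fun τ =>
    Matrix.of fun x y => if y = x ∘ τ then 1 else 0
  have hMσ : ∀ τ : Equiv.Perm (Fin t), Mσ τ * Mσ τ.symm = 1 := fun τ => by
    ext x y
    rw [Matrix.mul_apply, Finset.sum_eq_single (x ∘ τ) (fun z _ hz => by simp [Mσ, hz])
      (fun hn => absurd (Finset.mem_univ _) hn)]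
    simp [Mσ, Matrix.one_apply, Function.comp_assoc, eq_comm]
  let ps : GL (Fin t → Fin d) F := ⟨Mσ σ, Mσ σ.symm, hMσ σ, by simpa using hMσ σ.symm⟩
  have hps : ∀ X : Fin t → Matrix (Fin d) (Fin d) F,
      Mσ σ * pureTens X = pureTens (fun k => X (σ.symm k)) * Mσ σ := fun X => by
    ext x y
    rw [Matrix.mul_apply, Matrix.mul_apply, Finset.sum_eq_single (x ∘ σ) (fun z _ hz => by simp [Mσ, hz])
      (fun hn => absurd (Finset.mem_univ _) hn), Finset.sum_eq_single (y ∘ σ.symm) (fun z _ hz => by
        have : ¬ y = z ∘ σ := fun h => hz (by rw [h, Function.comp_assoc, Equiv.self_comp_symm, Function.comp_id])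
        simp [Mσ, this]) (fun hn => absurd (Finset.mem_univ _) hn)]
    have hy : (y ∘ ⇑σ.symm) ∘ ⇑σ = y := by rw [Function.comp_assoc, Equiv.symm_comp_self, Function.comp_id]
    simp only [Mσ, pureTens, Matrix.of_apply, hy, if_true, one_mul, mul_one, Function.comp_apply]
    rw [← Equiv.prod_comp σ (fun k => X (σ.symm k) (x k) (y (σ.symm k)))]
    simp
  set s : GL (Fin t → Fin d) F := pt * ps with hs
  let h' : GL (Fin t → Fin d) F := Units.map T.symm.toAlgHom.toRingHom.toMonoidHom h
  have hcomm : ∀ i X, conjA (s⁻¹ * h') (powStd i X) = powStd i X := fun i X => by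
    have e1 : conjA h' (powStd i X) = powStd (σ i) (conjA (a i) X) := by
      have e0 := congrArg T.symm (hφ i X)
      rw [hT, hT, T.symm_apply_apply, ha i X, conjA_apply, map_mul, map_mul, T.symm_apply_apply] at e0
      exact e0
    have e2 : conjA ps (powStd i X) = powStd (σ i) X := by
      show Mσ σ * _ * Mσ σ.symm = _
      rw [powStd, hps, mul_assoc, hMσ σ, mul_one, powStd]
      congr 1
      funext k
      rcases eq_or_ne k (σ i) with rfl | hk
      · simp
      · have hk' : σ.symm k ≠ i := fun e => hk (by rw [← e, Equiv.apply_symm_apply])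
        rw [Function.update_of_ne hk, Function.update_of_ne hk']
    have e3 : conjA pt (powStd (σ i) X) = powStd (σ i) (conjA (a i) X) := by
      show pureTens (fun j => (a' j).val) * powStd (σ i) X * pureTens (fun j => ((a' j)⁻¹).val) = _
      rw [powStd, pureTens_mul, pureTens_mul, powStd]
      congr 1
      funext k
      rcases eq_or_ne k (σ i) with rfl | hk
      · simp [a', conjA_apply]
      · simp [hk, a']
    have e4 : conjA s (powStd i X) = conjA h' (powStd i X) := by rw [hs, conjA_mul, e2, e3, e1]
    rw [conjA_mul, ← e4, conjA_inv]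
  have hall : ∀ M, (s⁻¹ * h').val * M = M * (s⁻¹ * h').val := by
    have hc1 : ∀ i X, (s⁻¹ * h').val * powStd i X = powStd i X * (s⁻¹ * h').val := fun i X => by
      have e0 := congrArg (fun Y => Y * (s⁻¹ * h').val) (hcomm i X)
      simpa only [conjA_apply, mul_assoc, Units.inv_mul, mul_one] using e0
    have hc2 : ∀ (S : Finset (Fin t)) (X : Fin t → Matrix (Fin d) (Fin d) F),
        Commute (s⁻¹ * h').val (pureTens fun j => if j ∈ S then X j else 1) := by
      intro S X
      induction S using Finset.induction_on with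
      | empty => simp [pureTens_one]
      | insert i S hi ih =>
        have e0 : (pureTens fun j => if j ∈ insert i S then X j else 1) =
            powStd i (X i) * pureTens fun j => if j ∈ S then X j else 1 := by
          rw [powStd, pureTens_mul]
          congr 1
          funext j
          rcases eq_or_ne j i with rfl | hj
          · simp [hi]
          · simp [hj]
        rw [e0]
        exact Commute.mul_right (hc1 i (X i)) ih
    intro M
    induction M using Matrix.induction_on' with
    | h_zero => simp
    | h_add M M' hM hM' => rw [mul_add, add_mul, hM, hM']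
    | h_std_basis x y r =>
      have e0 : Matrix.single x y r = r • pureTens fun j => Matrix.single (x j) (y j) (1 : F) := by
        ext p q
        simp only [pureTens, Matrix.of_apply, Matrix.smul_apply, Matrix.single_apply, smul_eq_mul]
        by_cases hpq : x = p ∧ y = q
        · obtain ⟨rfl, rfl⟩ := hpq; simp
        · rw [if_neg hpq]
          have : ∃ j, ¬ (x j = p j ∧ y j = q j) := by
            by_contra hne
            push Not at hne
            exact hpq ⟨funext fun j => (hne j).1, funext fun j => (hne j).2⟩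
          obtain ⟨j, hj⟩ := this
          rw [Finset.prod_eq_zero (Finset.mem_univ j) (if_neg hj), mul_zero]
      have e5 := hc2 Finset.univ fun j => Matrix.single (x j) (y j) (1 : F)
      simp only [Finset.mem_univ, if_true] at e5
      rw [e0, mul_smul_comm, smul_mul_assoc, e5.eq]
  haveI : Nonempty (Fin t → Fin d) := ⟨fun _ => ⟨0, hd⟩⟩
  obtain ⟨c, hc⟩ : ∃ c : Fˣ, (s⁻¹ * h').val = (c : F) • (1 : Matrix (Fin t → Fin d) (Fin t → Fin d) F) := by
    obtain ⟨c₀, hc₀⟩ := Matrix.mem_range_scalar_of_commute_single (M := (s⁻¹ * h').val)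
      (fun i j _ => (hall (Matrix.single i j 1)).symm)
    refine (mem_scalars_iff _).1 (mem_scalars_of_smul (c := c₀) ?_)
    rw [← hc₀, Matrix.scalar_apply, Matrix.smul_one_eq_diagonal]
  let i₀ : Fin t := ⟨0, ht⟩
  let cu : GL (Fin d) F := Units.map (Matrix.scalar (Fin d) : F →+* _).toMonoidHom c
  have hh' : h'.val = pureTens (fun j => (a' j).val * Function.update (fun _ => (1 : Matrix (Fin d) (Fin d) F)) i₀ cu.val j) * ps.val := by
    have e0 : h'.val = s.val * (s⁻¹ * h').val := by rw [← Units.val_mul, mul_inv_cancel_left]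
    have e1 : (c : F) • (1 : Matrix (Fin t → Fin d) (Fin t → Fin d) F) = powStd i₀ cu.val := by
      have : cu.val = (c : F) • (1 : Matrix (Fin d) (Fin d) F) := by simp [cu, Matrix.smul_one_eq_diagonal]
      rw [this, show powStd i₀ ((c : F) • (1 : Matrix (Fin d) (Fin d) F)) = (c : F) • powStd i₀ 1 from
        (powStdLin i₀).map_smul _ _, powStd_one]
    rw [e0, hc, Matrix.mul_smul, mul_one, hs, Units.val_mul, ← Matrix.smul_mul, ← pureTens_mul]
    congr 1
    rw [← powStd, ← e1, Matrix.mul_smul, mul_one]
  let pu : GL (Fin t → Fin d) F := h' * ps⁻¹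
  have hpu : IsPureTensor d t pu := by
    refine ⟨fun j => a' j * Function.update (fun _ => (1 : GL (Fin d) F)) i₀ cu j, fun x y => ?_⟩
    have e0 : pu.val = pureTens (fun j => (a' j).val * Function.update (fun _ => (1 : Matrix (Fin d) (Fin d) F)) i₀ cu.val j) := by
      show h'.val * (ps⁻¹).val = _
      rw [hh', mul_assoc, Units.mul_inv, mul_one]
    rw [e0]
    simp only [pureTens, Matrix.of_apply, Units.val_mul]
    refine Finset.prod_congr rfl fun j _ => ?_
    rcases eq_or_ne j i₀ with rfl | hj
    · simp
    · simp [hj]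
  have hps' : IsFactorPermutation d t ps := ⟨σ, fun x y => rfl⟩
  refine ⟨_, ⟨pu * ps, mul_mem (Subgroup.subset_closure (Or.inl hpu)) (Subgroup.subset_closure (Or.inr hps')),
    rfl⟩, Units.ext ?_⟩
  show T (h' * ps⁻¹ * ps).val = h.val
  rw [inv_mul_cancel_right]
  exact T.apply_symm_apply h.val

end Cfsg.Lib.Linear.AschGen
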